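import Groth.Agent.SurfInt.Restrict
import Groth.Agent.DivX.CodimOne
import Groth.Agent.RegUFD.Basic
import Groth.Agent.VarDim.Top
import Groth.Agent.VarDim.Local
import Groth.Agent.PnCoh.Chow.Proper
import Groth.Agent.H23.PicInv

/-!
# Curves on regular surfaces
-/

set_option linter.style.haveILetI false
set_option linter.unusedSectionVars false
set_option backward.isDefEq.respectTransparency false
set_option backward.isDefEq.respectTransparency.types false

universe u

open CategoryTheory CategoryTheory.Limits AlgebraicGeometry TopologicalSpace Opposite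

noncomputable section

namespace Groth.Agent.SurfInt

open Groth.Agent

variable {X : Scheme.{u}}

theorem isInvertible_of_tensor_iso {L M : X.Modules} (hL : PicF.IsInvertible L)
    (e : CohB1.tensorMod L M ≅ Coh.structureModule X) : PicF.IsInvertible M := by
  obtain ⟨D, hD, ⟨eD⟩⟩ := H23.PicInv.exists_inverse hL
  exact H23.PicMul.isInvertible_of_iso
    ((tUnit D).symm ≪≫ (tMapR D e).symm ≪≫ (tAssoc D L M).symm ≪≫
      tMapL (tComm D L ≪≫ eD) M ≪≫ tUnitL M) hD

theorem isInvertible_of_inverseOf_right {L M : X.Modules} (hM : PicF.IsInvertible M)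
    (h : ClSub.IsInverseOf L M) : PicF.IsInvertible L :=
  isInvertible_of_tensor_iso hM (tComm M L ≪≫ h.some)

variable (k : Type u) [Field k] [X.Over (Spec (CommRingCat.of k))]

include k in
theorem isProper_of_projective {n : ℕ} {ι : X ⟶ CohB1.ProjSpace n k} (hι : IsClosedImmersion ι)
    (h : ι ≫ CohB1.ProjSpace.toSpec n k = (X ↘ Spec (CommRingCat.of k))) :
    IsProper (X ↘ Spec (CommRingCat.of k)) := by
  haveI : IsProper (CohB1.ProjSpace.toSpec n k) := PnCoh.Chow.isProper_toSpec n k
  rw [← h]
  infer_instance

theorem dim_le_of_eq {Y : Type*} [TopologicalSpace Y] {n : ℕ} (h : topologicalKrullDim Y = n) :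
    topologicalKrullDim Y ≤ (n : ℕ) := h.le

include k in
/-- The generic point of an integral curve has a one-dimensional local ring. -/
theorem ringKrullDim_stalk_curve [LocallyOfFiniteType (X ↘ Spec (CommRingCat.of k))] [IrreducibleSpace X]
    (hdim : topologicalKrullDim X = 2) (I : X.IdealSheafData) [IsIntegral I.subscheme]
    (hI : topologicalKrullDim (I.support : Set X) = 1) :
    ringKrullDim (X.presheaf.stalk (I.subschemeι (genericPoint ↥I.subscheme))) = 1 := by
  set f := X ↘ Spec (CommRingCat.of k)
  set y := I.subschemeι (genericPoint ↥I.subscheme)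
  have hcl : closure ({y} : Set X) = I.support := by
    rw [← Scheme.IdealSheafData.range_subschemeι]
    exact (QCoh.range_eq_closure I.subschemeι).symm
  have hy : VarDim.deg f y = 1 := by
    have h := VarDim.topologicalKrullDim_closure_singleton f y
    rw [hcl, hI] at h
    exact_mod_cast h.symm
  have hX : VarDim.deg f (genericPoint X) = 2 := by
    have h := VarDim.topologicalKrullDim_eq_deg_genericPoint f
    rw [hdim] at h
    have h2 : ((2 : ℕ) : ℕ∞) = (VarDim.deg f (genericPoint X) : ℕ∞) := WithBot.coe_injective h
    exact_mod_cast h2.symm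
  obtain ⟨b, hb, ⟨η, -, hη⟩, hle⟩ := VarDim.exists_deg_add_stalk f y
  have h1 := hle _ (genericPoint_specializes y)
  have h2 := VarDim.deg_le_of_specializes f (genericPoint_specializes η)
  rw [hb, show b = 1 by omega]
  rfl

include k in
/-- An integral curve on a surface with regular local rings is an effective Cartier divisor. -/
theorem isEffCartier_curve [IsLocallyNoetherian X] [LocallyOfFiniteType (X ↘ Spec (CommRingCat.of k))]
    [IrreducibleSpace X] (hdim : topologicalKrullDim X = 2)
    (hreg : ∀ x : X, IsRegularLocalRing (X.presheaf.stalk x)) (I : X.IdealSheafData) [IsIntegral I.subscheme]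
    (hI : topologicalKrullDim (I.support : Set X) = 1) : BlowUp.IsEffCartierIdeal I :=
  DivX.isEffCartier_of_codim_one I (ringKrullDim_stalk_curve k hdim I hI) fun x _ =>
    haveI := hreg x
    RegUFD.ufd _

/-- The image of a closed immersion as a closed subscheme. -/
def kerIso {C : Scheme.{u}} (i : C ⟶ X) [IsClosedImmersion i] : C ≅ i.ker.subscheme :=
  haveI : IsIso i.toImage := inferInstance
  asIso i.toImage

theorem kerIso_hom {C : Scheme.{u}} (i : C ⟶ X) [IsClosedImmersion i] :
    (kerIso i).hom ≫ i.ker.subschemeι = i := i.toImage_imageι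

theorem isIntegral_ker {C : Scheme.{u}} (i : C ⟶ X) [IsClosedImmersion i] [IsIntegral C] :
    IsIntegral i.ker.subscheme := by
  haveI : Nonempty i.ker.subscheme := ⟨(kerIso i).hom (Classical.arbitrary C)⟩
  exact isIntegral_of_isOpenImmersion (kerIso i).inv

theorem dim_support_ker {C : Scheme.{u}} (i : C ⟶ X) [IsClosedImmersion i] :
    topologicalKrullDim (i.ker.support : Set X) = topologicalKrullDim C := by
  have h : (i.ker.support : Set X) = Set.range i := by
    rw [Scheme.Hom.support_ker, i.isClosedEmbedding.isClosed_range.closure_eq]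
  rw [h]
  exact (IsHomeomorph.topologicalKrullDim_eq _ i.isClosedEmbedding.isEmbedding.toHomeomorph.isHomeomorph).symm

theorem unitToPush_app_apply {A B : Scheme.{u}} (e : A ⟶ B) (U : B.Opens)
    (r : Γ(Coh.structureModule B, U)) : (ClSub.unitToPush e).app U r = e.app U r := rfl

theorem isIso_unitToPush_of_iso {A B : Scheme.{u}} (e : A ⟶ B) [IsIso e] : IsIso (ClSub.unitToPush e) := by
  refine Scheme.Modules.Hom.isIso_iff_isIso_app.2 fun U => ?_
  rw [ConcreteCategory.isIso_iff_bijective]
  have hb := ConcreteCategory.bijective_of_isIso (e.app U)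
  refine ⟨fun a b h => ?_, fun z => ?_⟩
  · rw [unitToPush_app_apply, unitToPush_app_apply] at h
    exact hb.1 h
  · obtain ⟨r, hr⟩ := hb.2 z
    exact ⟨r, (unitToPush_app_apply e U r).trans hr⟩

/-- The structure module of the image is that of the source. -/
theorem nonempty_quotMod_ker {C : Scheme.{u}} (i : C ⟶ X) [IsClosedImmersion i] :
    Nonempty (ClSub.quotMod i.ker ≅ (Coh.push i).obj (Coh.structureModule C)) := by
  haveI := isIso_unitToPush_of_iso (kerIso i).hom
  let e := kerIso i
  let P := Scheme.Modules.pushforward i.ker.subschemeι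
  let e1 : ClSub.quotMod i.ker ≅ P.obj ((Scheme.Modules.pushforward e.hom).obj (Coh.structureModule C)) :=
    P.mapIso (asIso (ClSub.unitToPush e.hom))
  let e2 : P.obj ((Scheme.Modules.pushforward e.hom).obj (Coh.structureModule C)) ≅
      (Scheme.Modules.pushforward (e.hom ≫ i.ker.subschemeι)).obj (Coh.structureModule C) :=
    (Scheme.Modules.pushforwardComp e.hom i.ker.subschemeι).app (Coh.structureModule C)
  let e3 : (Scheme.Modules.pushforward (e.hom ≫ i.ker.subschemeι)).obj (Coh.structureModule C) ≅
      (Coh.push i).obj (Coh.structureModule C) :=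
    (Scheme.Modules.pushforwardCongr (kerIso_hom i)).app (Coh.structureModule C)
  exact ⟨e1 ≪≫ e2 ≪≫ e3⟩

end Groth.Agent.SurfInt
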