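import Groth.Agent.SurfInt.Ideal
import Groth.Agent.QCoh.PushLin
import Groth.Agent.QCoh.Pullback

/-!
# Restriction of the intersection pairing to a closed subscheme
-/

set_option linter.style.haveILetI false
set_option linter.unusedSectionVars false
set_option backward.isDefEq.respectTransparency false
set_option backward.isDefEq.respectTransparency.types false

universe u

open CategoryTheory CategoryTheory.Limits AlgebraicGeometry TopologicalSpace Opposite

noncomputable section

namespace Groth.Agent.SurfInt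

open Groth.Agent

variable {X : Scheme.{u}}

theorem isCoh_idealMod [IsLocallyNoetherian X] (I : X.IdealSheafData) : Coh.IsCoh (ClSub.idealMod I) := by
  have hO := QCoh.isCoh_structureModule' (X := X)
  have hQ := ParShLib.isCoh_quotMod I
  haveI : Mono (ClSub.idealModι I) := inferInstanceAs (Mono (kernel.ι _))
  exact QCoh.isCoh_of_mono (ClSub.idealModι I) hO (QCoh.isQCoh_kernel hO.1 hQ.1 _)

variable (k : Type u) [Field k] [X.Over (Spec (CommRingCat.of k))]

/-- Cohomology of a direct image along a closed immersion over the field. -/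
theorem nonempty_HH_push {Z : Scheme.{u}} [Z.Over (Spec (CommRingCat.of k))] (i : Z ⟶ X) [IsClosedImmersion i]
    (hi : i ≫ (X ↘ Spec (CommRingCat.of k)) = Z ↘ Spec (CommRingCat.of k)) {M : Z.Modules} (hM : Coh.IsQCoh M)
    (n : ℕ) : Nonempty (Coh.HH Z M n ≃ₗ[k] Coh.HH X ((Coh.push i).obj M) n) :=
  QCoh.HH_push_linear i (Coh.toGlobal (X ↘ Spec (CommRingCat.of k)))
    (Coh.toGlobal (Z ↘ Spec (CommRingCat.of k)))
    (fun a => by
      have h := congrArg (fun f : Z ⟶ Spec (CommRingCat.of k) => f.appTop) hi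
      simp only [Scheme.Hom.comp_appTop] at h
      simp only [Coh.toGlobal]
      rw [← h]
      rfl) hM n

theorem euler_push {Z : Scheme.{u}} [Z.Over (Spec (CommRingCat.of k))] (i : Z ⟶ X) [IsClosedImmersion i]
    (hi : i ≫ (X ↘ Spec (CommRingCat.of k)) = Z ↘ Spec (CommRingCat.of k)) {M : Z.Modules} (hM : Coh.IsQCoh M) :
    Curv2.euler k X ((Coh.push i).obj M) = Curv2.euler k Z M :=
  finsum_congr fun n => by rw [(nonempty_HH_push k i hi hM n).some.finrank_eq]

theorem euler_quot_tensor {Z : Scheme.{u}} [Z.Over (Spec (CommRingCat.of k))] (i : Z ⟶ X) [IsClosedImmersion i]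
    (hi : i ≫ (X ↘ Spec (CommRingCat.of k)) = Z ↘ Spec (CommRingCat.of k)) {M : X.Modules} (hM : Coh.IsQCoh M) :
    Curv2.euler k X (CohB1.tensorMod ((Coh.push i).obj (Coh.structureModule Z)) M) =
      Curv2.euler k Z ((Scheme.Modules.pullback i).obj M) := by
  rw [euler_congr k (pushTensorIso i M), euler_push k i hi (QCoh.isQCoh_pullback i hM)]

variable [IsProper (X ↘ Spec (CommRingCat.of k))]

/-- `χ(B) = χ(I ⊗ B) + χ(O/I ⊗ B)`. -/
theorem euler_ideal_tensor (I : X.IdealSheafData) {B : X.Modules} (hB : PicF.IsInvertible B) :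
    Curv2.euler k X B = Curv2.euler k X (CohB1.tensorMod (ClSub.idealMod I) B) +
      Curv2.euler k X (CohB1.tensorMod (ClSub.quotMod I) B) := by
  haveI := CurveCohLib.isNoetherian_of_proper (k := k) (X := X)
  haveI := AmpleVan.isEquivalence_tw hB
  have hBc := AmpleVan.isCoh_invertible hB
  have hS : ((idealSeq I).map (AmpleVan.tw B)).ShortExact := (idealSeq_shortExact I).map_of_exact _
  have h1 : Coh.IsCoh ((idealSeq I).map (AmpleVan.tw B)).X₁ := AmpleVan.isCoh_tensor (isCoh_idealMod I) hBc
  have h2 : Coh.IsCoh ((idealSeq I).map (AmpleVan.tw B)).X₂ :=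
    AmpleVan.isCoh_tensor QCoh.isCoh_structureModule' hBc
  have h3 : Coh.IsCoh ((idealSeq I).map (AmpleVan.tw B)).X₃ :=
    AmpleVan.isCoh_tensor (ParShLib.isCoh_quotMod I) hBc
  have h := CurveCohLib.euler_additive (k := k) hS h1 h2 h3
  have e : ((idealSeq I).map (AmpleVan.tw B)).X₂ ≅ B := tUnitL B
  rw [← euler_congr k e, h]
  rfl

theorem euler_ideal (I : X.IdealSheafData) :
    Curv2.euler k X (Coh.structureModule X) = Curv2.euler k X (ClSub.idealMod I) +
      Curv2.euler k X (ClSub.quotMod I) := by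
  haveI := CurveCohLib.isNoetherian_of_proper (k := k) (X := X)
  have h1 : Coh.IsCoh (idealSeq I).X₁ := isCoh_idealMod I
  have h2 : Coh.IsCoh (idealSeq I).X₂ := QCoh.isCoh_structureModule'
  have h3 : Coh.IsCoh (idealSeq I).X₃ := ParShLib.isCoh_quotMod I
  have h := CurveCohLib.euler_additive (k := k) (idealSeq_shortExact I) h1 h2 h3
  dsimp only [idealSeq] at h
  exact h

/-- The degree of a module on a closed subscheme, computed on the ambient scheme. -/
def curveDeg (I : X.IdealSheafData) (B : X.Modules) : ℤ :=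
  Curv2.euler k X (CohB1.tensorMod (ClSub.quotMod I) B) - Curv2.euler k X (ClSub.quotMod I)

theorem pair_ideal_left (I : X.IdealSheafData) {B : X.Modules} (hB : PicF.IsInvertible B) :
    pair k (ClSub.idealMod I) B = - curveDeg k I B := by
  unfold pair curveDeg
  have h1 := euler_ideal k I
  have h2 := euler_ideal_tensor k I hB
  linarith

theorem pair_ideal_inverse (hdim : topologicalKrullDim X ≤ (2 : ℕ)) {I : X.IdealSheafData}
    (hI : BlowUp.IsEffCartierIdeal I) {B B' : X.Modules} (hB : PicF.IsInvertible B) (hB' : PicF.IsInvertible B')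
    (e : CohB1.tensorMod B B' ≅ Coh.structureModule X) :
    pair k (ClSub.idealMod I) B' = curveDeg k I B := by
  rw [pair_comm, pair_inverse_left k hdim hB hB' (isInvertible_idealMod hI) e, pair_comm, pair_ideal_left k I hB]
  ring

theorem curveDeg_congr (I : X.IdealSheafData) {B B' : X.Modules} (e : B ≅ B') :
    curveDeg k I B = curveDeg k I B' := by
  unfold curveDeg
  rw [euler_congr k (tMapR (ClSub.quotMod I) e)]

theorem curveDeg_O (I : X.IdealSheafData) : curveDeg k I (Coh.structureModule X) = 0 := by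
  unfold curveDeg
  rw [euler_congr k (tUnit (ClSub.quotMod I))]
  ring

theorem curveDeg_eq_deg (I : X.IdealSheafData) {B : X.Modules} (hB : Coh.IsQCoh B)
    [I.subscheme.Over (Spec (CommRingCat.of k))]
    (hI : I.subschemeι ≫ (X ↘ Spec (CommRingCat.of k)) = I.subscheme ↘ Spec (CommRingCat.of k)) :
    curveDeg k I B = Curv2.deg k I.subscheme ((Scheme.Modules.pullback I.subschemeι).obj B) 1 := by
  have h1 : Curv2.euler k X (CohB1.tensorMod (ClSub.quotMod I) B) = _ := euler_quot_tensor k I.subschemeι hI hB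
  have h2 : Curv2.euler k X (ClSub.quotMod I) = _ := euler_push k I.subschemeι hI QCoh.isQCoh_structureModule
  unfold curveDeg Curv2.deg
  rw [h1, h2]
  simp

include k in
theorem isProper_over_of_closedImmersion {Z : Scheme.{u}} [Z.Over (Spec (CommRingCat.of k))] (i : Z ⟶ X)
    [IsClosedImmersion i] (hi : i ≫ (X ↘ Spec (CommRingCat.of k)) = Z ↘ Spec (CommRingCat.of k)) :
    IsProper (Z ↘ Spec (CommRingCat.of k)) := by
  rw [← hi]; infer_instance

end Groth.Agent.SurfInt
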