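import Groth.Agent.SurfInt.InterCM
import Groth.Agent.VarBase.Decomp
import Groth.Agent.HilbPoly.Pos
import Groth.Agent.ArSurfBase.Deg
import Mathlib.RingTheory.Ideal.KrullsHeightTheorem

/-!
# Degrees on effective divisors

The support of a nonzero effective divisor on a surface is one-dimensional; ample modules have positive
degree on it and modules of nonpositive degree on every integral curve have nonpositive degree on it.
-/

set_option linter.style.haveILetI false
set_option linter.unusedSectionVars false
set_option backward.isDefEq.respectTransparency false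
set_option backward.isDefEq.respectTransparency.types false

universe u

open CategoryTheory CategoryTheory.Limits AlgebraicGeometry TopologicalSpace Opposite

noncomputable section

namespace Groth.Agent.SurfInt

open Groth.Agent

variable {X : Scheme.{u}}

/-- The quotient by an ideal is supported on the whole subscheme. -/
theorem support_quotMod_eq [IsNoetherian X] (I : X.IdealSheafData) :
    CohB1.support (ClSub.quotMod I) = (I.support : Set X) := by
  refine (support_quotMod_subset' I).antisymm fun x hx => ?_
  let J := VarBase.clIdeal x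
  have hle : I ≤ J := Scheme.IdealSheafData.le_support_iff_le_vanishingIdeal.1
    (show (⟨closure {x}, isClosed_closure⟩ : Closeds X) ≤ I.support from
      I.support.isClosed.closure_subset_iff.2 (Set.singleton_subset_iff.2 hx))
  haveI : Epi (ClSub.toSubscheme J) := CurvePoint.epi_toSubscheme J
  let φ : ClSub.quotMod I ⟶ ClSub.quotMod J :=
    (idealSeq_shortExact I).gIsCokernel.desc (CokernelCofork.ofπ (ClSub.toSubscheme J) (idealModι_toSubscheme hle))
  have hφ : ClSub.toSubscheme I ≫ φ = ClSub.toSubscheme J :=
    (idealSeq_shortExact I).gIsCokernel.fac _ WalkingParallelPair.one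
  haveI : Epi φ := epi_of_epi_fac hφ
  refine QCoh.support_of_epi (ParShLib.isCoh_quotMod I).1 (ParShLib.isCoh_quotMod J).1 φ ?_
  haveI : IsIntegral J.subscheme := by
    haveI : IrreducibleSpace J.subscheme := by
      have h : IsIrreducible (Set.range J.subschemeι) :=
        (VarBase.range_clIdeal x).symm ▸ isIrreducible_singleton.closure
      haveI := isIrreducible_iff_irreducibleSpace.1 h
      exact J.subschemeι.isClosedEmbedding.isEmbedding.toHomeomorph.symm.surjective.irreducibleSpace
        J.subschemeι.isClosedEmbedding.isEmbedding.toHomeomorph.symm.continuous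
    exact isIntegral_of_irreducibleSpace_of_isReduced _
  have hgen := (QCoh.mem_support_push_ideal J.subschemeι (𝟙 (Coh.structureModule J.subscheme))
    QCoh.isQCoh_structureModule fun hz => CurveEnd.not_isZero _ 1 one_pos
      (InvEnd.isFinLocFreeOfRank_one InvX.isInvertible_structureModule) hz).1
  have hcl : (closure ({J.subschemeι (genericPoint ↥J.subscheme)} : Set X)) = closure {x} :=
    (QCoh.range_eq_closure J.subschemeι).symm.trans (VarBase.range_clIdeal x)
  have hx' : x ∈ closure ({J.subschemeι (genericPoint ↥J.subscheme)} : Set X) := hcl.ge (subset_closure rfl)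
  exact (QCoh.isClosed_support_of_isFT (ParShLib.isCoh_quotMod J).1 (ParShLib.isCoh_quotMod J).2).closure_subset_iff.2
    (Set.singleton_subset_iff.2 hgen) hx'

/-- An effective divisor does not contain the generic point. -/
theorem genericPoint_notMem_support [IsIntegral X] {D : X.IdealSheafData} (hD : BlowUp.IsEffCartierIdeal D) :
    genericPoint X ∉ (D.support : Set X) := fun h => by
  obtain ⟨U, hU, a, ha, hDa⟩ := hD (genericPoint X)
  rw [SetLike.mem_coe, Scheme.IdealSheafData.mem_support_iff_of_mem hU, X.mem_zeroLocus_iff] at h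
  refine h a (by rw [hDa]; exact Ideal.mem_span_singleton_self a) ?_
  rw [X.mem_basicOpen a _ hU]
  letI : Field (X.presheaf.stalk (genericPoint X)) := inferInstanceAs (Field X.functionField)
  refine isUnit_iff_ne_zero.2 fun h0 => zero_notMem_nonZeroDivisors (M₀ := X.presheaf.stalk (genericPoint X)) ?_
  exact h0 ▸ MeroX.germ_mem_nonZeroDivisors U.2 ha _ hU

variable (k : Type u) [Field k] [X.Over (Spec (CommRingCat.of k))] [IsProper (X ↘ Spec (CommRingCat.of k))]

include k in
/-- The support of a nonzero effective divisor on an integral surface has dimension one. -/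
theorem dim_support_effCartier [IsIntegral X] (hdim : topologicalKrullDim X = 2) {D : X.IdealSheafData}
    (hD : BlowUp.IsEffCartierIdeal D) (hne : D ≠ ⊤) : topologicalKrullDim (D.support : Set X) = 1 := by
  haveI := CurveCohLib.isNoetherian_of_proper (k := k) (X := X)
  haveI : JacobsonSpace X := LocallyOfFiniteType.jacobsonSpace (X ↘ Spec (CommRingCat.of k))
  have hu : topologicalKrullDim (closure ({genericPoint X} : Set X)) = 2 := by
    rw [genericPoint_closure]
    exact ((Homeomorph.Set.univ X).isHomeomorph.topologicalKrullDim_eq).trans hdim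
  have hle : topologicalKrullDim (D.support : Set X) ≤ ((1 : ℕ) : WithBot ℕ∞) :=
    HilbPoly.le_of_lt_succ (HilbPoly.dim_lt_closure hu.le D.support.isClosed
      (by rw [genericPoint_closure]; exact Set.subset_univ _) (genericPoint_notMem_support hD))
  refine le_antisymm hle (not_lt.1 fun hlt => ?_)
  obtain ⟨x, hx⟩ : (D.support : Set X).Nonempty := by
    rw [Set.nonempty_iff_ne_empty]
    exact fun h => hne ((Scheme.IdealSheafData.support_eq_bot_iff D).1 (TopologicalSpace.Closeds.ext h))
  have hmax : ∀ y ∈ (D.support : Set X), ∀ z, y ⤳ z → y = z := fun y hy z hyz => by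
    by_contra hne'
    have hy1 : topologicalKrullDim (closure ({y} : Set X)) ≤ ((0 : ℕ) : WithBot ℕ∞) :=
      (H23.TopDim.dim_le_dim_of_subset (D.support.isClosed.closure_subset_iff.2
        (Set.singleton_subset_iff.2 hy))).trans (HilbPoly.le_of_lt_succ (by simpa using hlt))
    have h := HilbPoly.dim_lt_closure hy1 isClosed_closure
      (isClosed_closure.closure_subset_iff.2 (Set.singleton_subset_iff.2 (specializes_iff_mem_closure.1 hyz)))
      (fun hm => hne' ((hyz.antisymm (specializes_iff_mem_closure.2 hm)).eq))
    exact absurd h (not_lt.2 (VarBase.dim_nonneg_of_nonempty ⟨z, subset_closure rfl⟩))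
  have hxc : IsClosed ({x} : Set X) := isClosed_of_closure_subset fun z hz =>
    (hmax x hx z (specializes_iff_mem_closure.2 hz)).symm
  have h2 : (2 : WithBot ℕ∞) ≤ ringKrullDim (X.presheaf.stalk x) :=
    le_ringKrullDim_stalk k hxc isClosed_univ (IrreducibleSpace.isIrreducible_univ _) (Set.mem_univ x) (n := 2)
      (((Homeomorph.Set.univ X).isHomeomorph.topologicalKrullDim_eq).trans hdim)
  obtain ⟨U, hU, a, ha, hDa⟩ := hD x
  let A := Γ(X, U.1)
  letI : Algebra A (X.presheaf.stalk x) := X.presheaf.algebra_section_stalk ⟨x, hU⟩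
  let q : PrimeSpectrum A := U.2.primeIdealOf ⟨x, hU⟩
  haveI := U.2.isLocalization_stalk ⟨x, hU⟩
  let φ := algebraMap A (X.presheaf.stalk x)
  have hua : ¬ IsUnit (φ a) := by
    intro hua
    rw [SetLike.mem_coe, Scheme.IdealSheafData.mem_support_iff_of_mem hU, X.mem_zeroLocus_iff] at hx
    exact hx a (by rw [hDa]; exact Ideal.mem_span_singleton_self a) ((X.mem_basicOpen a x hU).2 hua)
  have hmin : IsLocalRing.maximalIdeal (X.presheaf.stalk x) ∈ (Ideal.span {φ a}).minimalPrimes := by
    refine ⟨⟨inferInstance, (Ideal.span_singleton_le_iff_mem _).2 ((IsLocalRing.mem_maximalIdeal _).2 hua)⟩,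
      fun P ⟨hP, haP⟩ hPm => ?_⟩
    let q' : PrimeSpectrum A := ⟨P.comap φ, hP.comap φ⟩
    have hq'U : U.2.fromSpec q' ∈ U.1 := U.2.range_fromSpec.le ⟨q', rfl⟩
    have hq'm : P.comap φ ≤ q.asIdeal := by
      refine (Ideal.comap_mono hPm).trans (le_of_eq ?_)
      exact IsLocalization.AtPrime.comap_maximalIdeal (X.presheaf.stalk x) q.asIdeal
    have hspec : U.2.fromSpec q' ⤳ x := by
      have := ((PrimeSpectrum.le_iff_specializes q' q).1 hq'm).map U.2.fromSpec.continuous
      rwa [U.2.fromSpec_primeIdealOf ⟨x, hU⟩] at this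
    have hmem' : U.2.fromSpec q' ∈ (D.support : Set X) := by
      rw [SetLike.mem_coe, Scheme.IdealSheafData.mem_support_iff_of_mem hq'U, X.mem_zeroLocus_iff]
      intro g hg hxg
      have hg' : q' ∈ PrimeSpectrum.basicOpen g := by
        rw [← U.2.fromSpec_preimage_basicOpen g]; exact hxg
      refine hg' ?_
      rw [hDa, SetLike.mem_coe, Ideal.mem_span_singleton] at hg
      obtain ⟨c, rfl⟩ := hg
      show φ (a * c) ∈ P
      rw [map_mul]
      exact P.mul_mem_right _ ((Ideal.span_singleton_le_iff_mem _).1 haP)
    have heq : q' = q := U.2.fromSpec.isOpenEmbedding.injective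
      ((hmax _ hmem' _ hspec).trans (U.2.fromSpec_primeIdealOf ⟨x, hU⟩).symm)
    calc IsLocalRing.maximalIdeal _ = q.asIdeal.map φ :=
          (IsLocalization.AtPrime.map_eq_maximalIdeal q.asIdeal _).symm
      _ = (P.comap φ).map φ := by rw [← heq]
      _ ≤ P := Ideal.map_comap_le
  haveI : IsNoetherianRing (X.presheaf.stalk x) := inferInstance
  have hh := Ideal.height_le_one_of_isPrincipal_of_mem_minimalPrimes_of_isLocalRing _ hmin
  rw [← IsLocalRing.maximalIdeal_height_eq_ringKrullDim] at h2
  exact absurd (h2.trans (WithBot.coe_le_coe.2 hh)) (by decide)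

/-- Ample modules have positive degree on one-dimensional subschemes. -/
theorem curveDeg_pos_of_ample {H : X.Modules} (hH : CohB1.IsAmple H) {I : X.IdealSheafData}
    (hI : topologicalKrullDim (I.support : Set X) = 1) : 0 < curveDeg k I H := by
  haveI := CurveCohLib.isNoetherian_of_proper (k := k) (X := X)
  have hs : topologicalKrullDim ↥(CohB1.support (ClSub.quotMod I)) = ((1 : ℕ) : WithBot ℕ∞) := by
    rw [support_quotMod_eq, hI]; rfl
  exact (HilbPoly.mult_nonneg_and_pos k hH 1 _ (ParShLib.isCoh_quotMod I) hs.le).2 hs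

/-- An invertible module does not change the Euler characteristic of a module supported on points. -/
theorem euler_tensor_of_dim_zero {B : X.Modules} (hB : PicF.IsInvertible B) {F : X.Modules} (hF : Coh.IsCoh F)
    (hd : topologicalKrullDim ↥(CohB1.support F) ≤ ((0 : ℕ) : WithBot ℕ∞)) :
    Curv2.euler k X (CohB1.tensorMod F B) = Curv2.euler k X F := by
  haveI := CurveCohLib.isNoetherian_of_proper (k := k) (X := X)
  let Ψ : X.Modules → ℤ := fun G => HilbPoly.iterD [B] (Curv2.euler k X) G
  have hA : HilbPoly.Additive Ψ :=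
    HilbPoly.additive_iterD (HilbPoly.additive_euler k) (by simp [hB])
  suffices h : Ψ F = 0 by
    simp only [Ψ, HilbPoly.iterD] at h
    exact sub_eq_zero.1 h
  rw [VarBase.eq_compSum Ψ hA.iso 0 hA.add (fun M hM hlt => ?_) hF hd]
  · refine finsum_eq_zero_of_forall_eq_zero fun ξ => ?_
    split_ifs with hξ
    swap; · rfl
    suffices h : Ψ (ClSub.quotMod (VarBase.clIdeal ξ)) = 0 by rw [h, smul_zero]
    have hpt : closure ({ξ} : Set X) ⊆ {ξ} := fun z hz => by
      by_contra hne
      have h := HilbPoly.dim_lt_closure hξ.le isClosed_closure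
        (isClosed_closure.closure_subset_iff.2 (Set.singleton_subset_iff.2 hz))
        (fun hm => hne (((specializes_iff_mem_closure.2 hm).antisymm (specializes_iff_mem_closure.2 hz)).eq))
      exact absurd h (not_lt.2 (VarBase.dim_nonneg_of_nonempty ⟨z, subset_closure rfl⟩))
    obtain ⟨t⟩ := ArSurfBase.pullback_trivial_of_range_subset (VarBase.clIdeal ξ).subschemeι hB (y := ξ)
      ((VarBase.range_clIdeal ξ).le.trans hpt)
    simp only [Ψ, HilbPoly.iterD]
    exact sub_eq_zero.2 (euler_congr k (pushTensorIso (VarBase.clIdeal ξ).subschemeι B ≪≫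
      (Coh.push (VarBase.clIdeal ξ).subschemeι).mapIso t))
  · exact hA.zero_of_isZero (CurveCohLib.isZero_of_subsingleton_stalks fun x => not_not.1 fun hx =>
      Set.eq_empty_iff_forall_notMem.1 (HilbPoly.support_eq_empty_of_dimLT_zero hlt) x hx)

/-- A module with nonpositive degree on every integral curve has nonpositive degree on every
one-dimensional subscheme. -/
theorem curveDeg_nonpos_of_curves {B : X.Modules} (hB : PicF.IsInvertible B)
    (h : ∀ Γ : X.IdealSheafData, IsIntegral Γ.subscheme → topologicalKrullDim (Γ.support : Set X) = 1 →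
      curveDeg k Γ B ≤ 0) {D : X.IdealSheafData} (hD : topologicalKrullDim (D.support : Set X) ≤ 1) :
    curveDeg k D B ≤ 0 := by
  haveI := CurveCohLib.isNoetherian_of_proper (k := k) (X := X)
  let Ψ : X.Modules → ℤ := fun G => HilbPoly.iterD [B] (Curv2.euler k X) G
  have hA : HilbPoly.Additive Ψ :=
    HilbPoly.additive_iterD (HilbPoly.additive_euler k) (by simp [hB])
  suffices h' : Ψ (ClSub.quotMod D) ≤ 0 by exact h'
  rw [VarBase.eq_compSum Ψ hA.iso 1 hA.add (fun M hM hlt => ?_) (ParShLib.isCoh_quotMod D)
    ((VarBase.dim_support_quotMod_le D).trans hD)]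
  · refine finsum_induction (fun z : ℤ => z ≤ 0) le_rfl (fun a b ha hb => by omega) fun ξ => ?_
    split_ifs with hξ
    swap; · exact le_rfl
    haveI : IsIntegral (VarBase.clIdeal ξ).subscheme := by
      haveI : IrreducibleSpace (VarBase.clIdeal ξ).subscheme := by
        have hr : IsIrreducible (Set.range (VarBase.clIdeal ξ).subschemeι) :=
          (VarBase.range_clIdeal ξ).symm ▸ isIrreducible_singleton.closure
        haveI := isIrreducible_iff_irreducibleSpace.1 hr
        exact (VarBase.clIdeal ξ).subschemeι.isClosedEmbedding.isEmbedding.toHomeomorph.symm.surjective.irreducibleSpace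
          (VarBase.clIdeal ξ).subschemeι.isClosedEmbedding.isEmbedding.toHomeomorph.symm.continuous
      exact isIntegral_of_irreducibleSpace_of_isReduced _
    have := h (VarBase.clIdeal ξ) inferInstance
      (by rw [Scheme.IdealSheafData.coe_support_vanishingIdeal]; exact hξ)
    exact smul_nonpos_of_nonneg_of_nonpos (Nat.zero_le _) this
  · simp only [Ψ, HilbPoly.iterD]
    exact sub_eq_zero.2 (euler_tensor_of_dim_zero k hB hM (HilbPoly.le_of_lt_succ (by simpa using hlt)))

end Groth.Agent.SurfInt
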