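import Groth.Agent.SurfInt.Ideal
import Groth.Agent.AmpleX.Locus
import Groth.Agent.AmpleX.Extend
import Groth.Agent.InvX.GenLocusPull

/-!
# The section of an effective Cartier divisor

The inverse of an effective Cartier ideal has a section generating exactly outside the divisor
(copied from `AVAmple` to keep the import closure small).
-/

set_option linter.style.haveILetI false
set_option backward.isDefEq.respectTransparency false
set_option backward.isDefEq.respectTransparency.types false

universe u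

open CategoryTheory CategoryTheory.Limits AlgebraicGeometry TopologicalSpace Opposite

noncomputable section

namespace Groth.Agent.SurfInt

open Groth.Agent Groth.Agent.InvX

/-- The section of the inverse of an effective Cartier ideal vanishing exactly on the divisor. -/
theorem exists_divisor_section {X : Scheme.{u}} (I : X.IdealSheafData) (hI : BlowUp.IsEffCartierIdeal I)
    {L : X.Modules} (hL : PicF.IsInvertible L) (hLI : ClSub.IsInverseOf L (ClSub.idealMod I)) :
    ∃ s : Γ(L, ⊤), ∀ x, x ∈ AmpleX.locus s ↔ x ∉ I.support := by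
  obtain ⟨φ⟩ := hLI
  have hIi := (S8914.result I).2 hI
  let val : ∀ {U : X.Opens}, Γ(L, U) → Γ(ClSub.idealMod I, U) → Γ(X, U) := fun {U} t k => φ.hom.app U (tmul t k)
  have val_smul : ∀ {U : X.Opens} (r r' : Γ(X, U)) (t : Γ(L, U)) (k : Γ(ClSub.idealMod I, U)),
      val (r • t) (r' • k) = r * (r' * val t k) := fun {U} r r' t k => by
    show (show Γ(X, U) from φ.hom.app U (tmul (r • t) (r' • k))) = _
    rw [tmul_smul_left, tmul_smul_right, Scheme.Modules.Hom.app_smul, Scheme.Modules.Hom.app_smul]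
    rfl
  let P : ∀ U : X.Opens, Γ(L, U) → Prop := fun U t => ∀ (V : X.Opens) (h : V ≤ U) (k : Γ(ClSub.idealMod I, V)),
    val (AModX.res L h t) k = OmegaSh.idealSect I V k
  have loc : ∀ x : X, ∃ (U : X.Opens) (_ : x ∈ U) (t e : Γ(L, U)) (h : Γ(ClSub.idealMod I, U)),
      IsAffineOpen U ∧ IsFrame e ∧ IsFrame h ∧ P U t ∧ IsUnit (val e h) ∧
        ∃ w : Γ(X, U), IsUnit w ∧ t = (w * OmegaSh.idealSect I U h) • e := fun x => by
    obtain ⟨U₀, hx₀, e₀, h₀, he₀, hh₀⟩ := exists_frame₂ hL hIi x
    obtain ⟨U, hU, hxU, hUU⟩ := exists_isAffineOpen_mem_and_subset hx₀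
    let e := AModX.res L hUU e₀
    let h := AModX.res (ClSub.idealMod I) hUU h₀
    have he : IsFrame e := he₀.res _
    have hh : IsFrame h := hh₀.res _
    have hv : IsUnit (val e h) := by
      have hf := (IsFrame.map_iso φ (isFrame_tmul he hh)) U le_rfl
      obtain ⟨r, hr⟩ := hf.2 (show Γ(Coh.structureModule X, U) from (1 : Γ(X, U)))
      rw [AModX.res_self] at hr
      exact IsUnit.of_mul_eq_one_right r hr
    obtain ⟨v, hv'⟩ := hv
    refine ⟨U, hxU, ((↑v⁻¹ : Γ(X, U)) * OmegaSh.idealSect I U h) • e, e, h, hU, he, hh, fun V hV k => ?_,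
      ⟨v, hv'⟩, _, Units.isUnit _, rfl⟩
    obtain ⟨r, rfl⟩ := hh.exists_coord hV k
    have hmap : OmegaSh.idealSect I V (AModX.res (ClSub.idealMod I) hV h) = AModX.resR hV (OmegaSh.idealSect I U h) :=
      OmegaLib.idealSect_map I hV h
    rw [AModX.res_smul, val_smul, OmegaLib.idealSect_smul, hmap, map_mul,
      show val (AModX.res L hV e) (AModX.res (ClSub.idealMod I) hV h) = AModX.resR hV (val e h) by
        show φ.hom.app V _ = _
        rw [← res_tmul]
        exact AModX.app_res φ.hom hV _, ← hv']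
    have h1 : AModX.resR hV (↑v⁻¹ : Γ(X, U)) * AModX.resR hV (↑v : Γ(X, U)) = 1 := by
      rw [← map_mul, Units.inv_mul, map_one]
    linear_combination (r * AModX.resR hV (OmegaSh.idealSect I U h)) * h1
  choose U hxU t e h hU he hh ht hv w hw htw using loc
  obtain ⟨s, hs, -⟩ := AModX.existsUnique_glue (M := L) (V := ⊤) U (fun _ => le_top) (fun x _ => ⟨x, hxU x⟩) t
    fun x y => by
      have hf : IsFrame (AModX.res L (inf_le_left : U x ⊓ U y ≤ U x) (e x)) := (he x).res _
      obtain ⟨a, ha⟩ := hf.exists_coord le_rfl (AModX.res L (inf_le_left : U x ⊓ U y ≤ U x) (t x))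
      obtain ⟨b, hb⟩ := hf.exists_coord le_rfl (AModX.res L (inf_le_right : U x ⊓ U y ≤ U y) (t y))
      rw [AModX.res_self] at ha hb
      have h1 := ht x _ inf_le_left (AModX.res (ClSub.idealMod I) (inf_le_left : U x ⊓ U y ≤ U x) (h x))
      have h2 := ht y _ inf_le_right (AModX.res (ClSub.idealMod I) (inf_le_left : U x ⊓ U y ≤ U x) (h x))
      have e1 : ∀ c : Γ(X, U x ⊓ U y), val (c • AModX.res L (inf_le_left : U x ⊓ U y ≤ U x) (e x))
          (AModX.res (ClSub.idealMod I) (inf_le_left : U x ⊓ U y ≤ U x) (h x)) =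
          c * AModX.resR inf_le_left (val (e x) (h x)) := fun c => by
        have := val_smul c 1 (AModX.res L (inf_le_left : U x ⊓ U y ≤ U x) (e x))
          (AModX.res (ClSub.idealMod I) (inf_le_left : U x ⊓ U y ≤ U x) (h x))
        rw [one_smul, _root_.one_mul] at this
        rw [this]
        congr 1
        show φ.hom.app _ _ = _
        rw [← res_tmul]
        exact AModX.app_res φ.hom _ _
      rw [ha, e1] at h1
      rw [hb, e1] at h2
      rw [ha, hb, ((hv x).map (AModX.resR inf_le_left)).mul_left_injective (h1.trans h2.symm)]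
  refine ⟨s, fun x => ?_⟩
  have h1 := AmpleX.locus_inf s le_top (he x) ((hs x).trans (htw x))
  rw [Scheme.basicOpen_mul, Scheme.basicOpen_of_isUnit X (hw x)] at h1
  have h2 : x ∈ AmpleX.locus s ↔ x ∈ X.basicOpen (OmegaSh.idealSect I (U x) (h x)) := by
    have h3 := congrArg (fun W : X.Opens => x ∈ W) h1
    simpa only [Opens.mem_inf, hxU x, true_and, and_true, eq_iff_iff] using h3
  rw [h2, Scheme.IdealSheafData.mem_support_iff_of_mem (U := ⟨U x, hU x⟩) (hxU x), Scheme.mem_zeroLocus_iff]
  constructor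
  · exact fun h3 h4 => h4 _ (OmegaLib.idealSect_mem I ⟨U x, hU x⟩ (h x)) h3
  · intro h3
    push Not at h3
    obtain ⟨g, hg, hxg⟩ := h3
    obtain ⟨k, rfl⟩ := OmegaLib.exists_of_mem I ⟨U x, hU x⟩ g hg
    obtain ⟨r, rfl⟩ := (hh x).exists_coord le_rfl k
    rw [OmegaLib.idealSect_smul, AModX.res_self, Scheme.basicOpen_mul] at hxg
    exact hxg.2

end Groth.Agent.SurfInt
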