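import Groth.Agent.InvX.Tensor
import Groth.Agent.InvX.GenLocusPull

/-! Maps of modules sending frames to frames are isomorphisms. -/

set_option linter.style.haveILetI false
set_option backward.isDefEq.respectTransparency false
set_option backward.isDefEq.respectTransparency.types false

universe u

open CategoryTheory AlgebraicGeometry TopologicalSpace Opposite

namespace Groth.Agent.SurfInt

open Groth.Agent.InvX Groth.Agent.AModX

variable {X : Scheme.{u}} {M N : X.Modules}

/-- A map carrying a covering family of frames to frames is an isomorphism. -/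
theorem isIso_of_frames (φ : M ⟶ N) (U : X → X.Opens) (hU : ∀ x, x ∈ U x) (e : ∀ x, Γ(M, U x))
    (he : ∀ x, IsFrame (e x)) (hn : ∀ x, IsFrame (φ.app (U x) (e x))) : IsIso φ := by
  let n : ∀ x, Γ(N, U x) := fun x => φ.app (U x) (e x)
  have hcov : ∀ x : X, ∃ a, x ∈ U a := fun x => ⟨x, hU x⟩
  have hc : ∀ (a b : X) (W : X.Opens) (ha : W ≤ U a) (hb : W ≤ U b) (g : Γ(X, W)),
      res N hb (n b) = g • res N ha (n a) → res M hb (e b) = g • res M ha (e a) := by
    intro a b W ha hb g hg
    obtain ⟨g', hg'⟩ := (he a).exists_coord ha (res M hb (e b))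
    have h1 := congrArg (φ.app W) hg'
    rw [Scheme.Modules.Hom.app_smul, app_res, app_res] at h1
    have : g' = g := (hn a).coord_unique ha (h1.symm.trans hg)
    rwa [this] at hg'
  let ψ := ofFrames hcov hn hc
  refine ⟨ψ, hom_ext_of_frames U hcov e he fun a => ?_, hom_ext_of_frames U hcov n hn fun a => ?_⟩
  · show ψ.app (U a) (n a) = _
    rw [ofFrames_app]
    rfl
  · show φ.app (U a) (ψ.app (U a) (n a)) = _
    rw [ofFrames_app]
    rfl

end Groth.Agent.SurfInt
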