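import Groth.Agent.SurfInt.Basic
import Groth.Agent.SurfInt.FrameIso
import Groth.Agent.S8914
import Groth.Agent.ModPairLib.Quot
import Groth.Agent.H23.TensorDesc
import Groth.Agent.Lib.CurvePoint
import Groth.Agent.ParShLib.ResStalk
import Groth.Agent.KFlatLib.Scheme.ProjModule

/-!
# Effective Cartier ideals as invertible modules

The ideal sequence, products of ideals as tensor products, and the projection formula for a closed subscheme.
-/

set_option linter.style.haveILetI false
set_option linter.unusedSectionVars false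
set_option backward.isDefEq.respectTransparency false
set_option backward.isDefEq.respectTransparency.types false

universe u

open CategoryTheory CategoryTheory.Limits AlgebraicGeometry TopologicalSpace Opposite

noncomputable section

namespace Groth.Agent.SurfInt

open Groth.Agent Groth.Agent.InvX Groth.Agent.AModX

variable {X : Scheme.{u}}

theorem isInvertible_idealMod {I : X.IdealSheafData} (hI : BlowUp.IsEffCartierIdeal I) :
    PicF.IsInvertible (ClSub.idealMod I) :=
  (S8914.result I).2 hI

theorem isEffCartierIdeal_of_fga {I : X.IdealSheafData} (hI : FGA.IsEffCartier I) :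
    BlowUp.IsEffCartierIdeal I := hI

theorem fga_of_isEffCartierIdeal {I : X.IdealSheafData} (hI : BlowUp.IsEffCartierIdeal I) :
    FGA.IsEffCartier I := hI

/-- `0 → I → O → O/I → 0`. -/
def idealSeq (I : X.IdealSheafData) : ShortComplex X.Modules :=
  ShortComplex.mk (ClSub.idealModι I) (ClSub.toSubscheme I) (kernel.condition _)

theorem idealSeq_shortExact (I : X.IdealSheafData) : (idealSeq I).ShortExact where
  exact := ShortComplex.exact_of_f_is_kernel _ (kernelIsKernel (ClSub.toSubscheme I))
  mono_f := inferInstanceAs (Mono (kernel.ι _))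
  epi_g := CurvePoint.epi_toSubscheme I

theorem mul_idealSect_mem_ker (I J : X.IdealSheafData) (U : X.Opens)
    (a : Γ(ClSub.idealMod I, U)) (b : Γ(ClSub.idealMod J, U)) :
    (I * J).subschemeι.app U (OmegaSh.idealSect I U a * OmegaSh.idealSect J U b) = 0 := by
  let Q := ClSub.quotMod (I * J)
  let z : Γ(Q, U) := (I * J).subschemeι.app U (OmegaSh.idealSect I U a * OmegaSh.idealSect J U b)
  suffices z = 0 from this
  refine AModX.eq_of_locally z 0 fun p hp => ?_
  obtain ⟨W, hW, hpW, hWU⟩ := exists_isAffineOpen_mem_and_subset hp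
  refine ⟨W, hWU, hpW, ?_⟩
  rw [map_zero]
  refine (AModX.app_res (ClSub.toSubscheme (I * J)) hWU
    (show Γ(Coh.structureModule X, U) from OmegaSh.idealSect I U a * OmegaSh.idealSect J U b)).symm.trans ?_
  show (I * J).subschemeι.app W (X.presheaf.map (homOfLE hWU).op (OmegaSh.idealSect I U a * OmegaSh.idealSect J U b)) = 0
  rw [← RingHom.mem_ker, (I * J).ker_subschemeι_app ⟨W, hW⟩, map_mul,
    show X.presheaf.map (homOfLE hWU).op (OmegaSh.idealSect I U a) = _ from (OmegaLib.idealSect_map I hWU a).symm,
    show X.presheaf.map (homOfLE hWU).op (OmegaSh.idealSect J U b) = _ from (OmegaLib.idealSect_map J hWU b).symm,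
    Scheme.IdealSheafData.ideal_mul, Pi.mul_apply]
  exact Ideal.mul_mem_mul (OmegaLib.idealSect_mem I ⟨W, hW⟩ _) (OmegaLib.idealSect_mem J ⟨W, hW⟩ _)

/-- The product of sections of two ideals. -/
def mulSect (I J : X.IdealSheafData) (U : X.Opens)
    (a : Γ(ClSub.idealMod I, U)) (b : Γ(ClSub.idealMod J, U)) : Γ(ClSub.idealMod (I * J), U) :=
  (OmegaLib.exists_idealSect_eq (I * J) U _ (mul_idealSect_mem_ker I J U a b)).choose

theorem idealSect_mulSect (I J : X.IdealSheafData) (U : X.Opens)
    (a : Γ(ClSub.idealMod I, U)) (b : Γ(ClSub.idealMod J, U)) :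
    OmegaSh.idealSect (I * J) U (mulSect I J U a b) = OmegaSh.idealSect I U a * OmegaSh.idealSect J U b :=
  (OmegaLib.exists_idealSect_eq (I * J) U _ (mul_idealSect_mem_ker I J U a b)).choose_spec

/-- Multiplication of ideals on sections. -/
def mulBilin (I J : X.IdealSheafData) :
    H23.TensorDesc.Bilin (ClSub.idealMod I) (ClSub.idealMod J) (ClSub.idealMod (I * J)) where
  b := mulSect I J
  add_left U m m' n := OmegaLib.idealSect_injective (I * J) U (by
    rw [map_add, idealSect_mulSect, idealSect_mulSect, idealSect_mulSect, map_add, add_mul])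
  smul_left U r m n := OmegaLib.idealSect_injective (I * J) U (by
    rw [OmegaLib.idealSect_smul, idealSect_mulSect, idealSect_mulSect, OmegaLib.idealSect_smul, mul_assoc])
  add_right U m n n' := OmegaLib.idealSect_injective (I * J) U (by
    rw [map_add, idealSect_mulSect, idealSect_mulSect, idealSect_mulSect, map_add, mul_add])
  smul_right U r m n := OmegaLib.idealSect_injective (I * J) U (by
    rw [OmegaLib.idealSect_smul, idealSect_mulSect, idealSect_mulSect, OmegaLib.idealSect_smul, mul_left_comm])
  res {U V} h m n := OmegaLib.idealSect_injective (I * J) V (by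
    rw [OmegaLib.idealSect_map, idealSect_mulSect, idealSect_mulSect, OmegaLib.idealSect_map,
      OmegaLib.idealSect_map, map_mul])

/-- `I ⊗ J ⟶ I · J`. -/
def mulMap (I J : X.IdealSheafData) :
    CohB1.tensorMod (ClSub.idealMod I) (ClSub.idealMod J) ⟶ ClSub.idealMod (I * J) :=
  H23.TensorDesc.desc (mulBilin I J)

theorem idealSect_mulMap_tmul (I J : X.IdealSheafData) (U : X.Opens)
    (a : Γ(ClSub.idealMod I, U)) (b : Γ(ClSub.idealMod J, U)) :
    OmegaSh.idealSect (I * J) U ((mulMap I J).app U (InvX.tmul a b)) =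
      OmegaSh.idealSect I U a * OmegaSh.idealSect J U b := by
  have h : (mulMap I J).app U (InvX.tmul a b) = (mulBilin I J).b U a b :=
    H23.TensorDesc.desc_tmul (mulBilin I J) U a b
  rw [h]
  exact idealSect_mulSect I J U a b

/-- An element whose image is a generating nonzerodivisor is a frame of the ideal. -/
theorem isFrame_of_generator {I : X.IdealSheafData} (hI : BlowUp.IsEffCartierIdeal I) {U : X.affineOpens}
    {g : Γ(X, U.1)} (hg : I.ideal U = Ideal.span {g}) {e : Γ(ClSub.idealMod I, U.1)}
    (he : OmegaSh.idealSect I U.1 e = g) : IsFrame e := by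
  obtain ⟨f, rfl⟩ : ∃ f, f = g := ⟨g, rfl⟩
  have hf : f ∈ nonZeroDivisors Γ(X, U.1) := ModPairLib.generator_mem_nonZeroDivisors hI hg
  have hinj : ∀ (W : X.Opens) (hW : W ≤ U.1) (r r' : Γ(X, W)),
      r • AModX.res _ hW e = r' • AModX.res _ hW e → r = r' := by
    intro W hW r r' hr
    have h1 := congrArg (OmegaSh.idealSect I W) hr
    have h2 : OmegaSh.idealSect I W (AModX.res _ hW e) = AModX.resR hW f := by
      rw [← he]
      exact OmegaLib.idealSect_map I hW e
    rw [OmegaLib.idealSect_smul, OmegaLib.idealSect_smul, h2] at h1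
    refine TopCat.Presheaf.section_ext X.sheaf W r r' fun y hy => ?_
    have h3 : X.presheaf.germ W y hy r * X.presheaf.germ W y hy (AModX.resR hW f) =
        X.presheaf.germ W y hy r' * X.presheaf.germ W y hy (AModX.resR hW f) := by
      rw [← map_mul, ← map_mul, h1]
    rw [InvX.germ_resR' hW hy f] at h3
    exact (mul_cancel_right_mem_nonZeroDivisors (MeroX.germ_mem_nonZeroDivisors U.2 hf y (hW hy))).1 h3
  refine fun V hV => ⟨fun r r' hr => hinj V hV r r' hr, fun z => ?_⟩
  have hloc : ∀ p : V, ∃ (W : X.Opens) (hW : W ≤ V) (_ : p.1 ∈ W) (r : Γ(X, W)),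
      AModX.res _ hW z = r • AModX.res _ (hW.trans hV) e := fun p => by
    obtain ⟨W, hW, hpW, hWV⟩ := exists_isAffineOpen_mem_and_subset p.2
    have hmem := OmegaLib.idealSect_mem I ⟨W, hW⟩ (AModX.res _ hWV z)
    rw [← I.map_ideal (U := ⟨W, hW⟩) (V := U) (show W ≤ U.1 from le_trans hWV hV), hg, Ideal.map_span,
      Set.image_singleton, Ideal.mem_span_singleton'] at hmem
    obtain ⟨r, hr⟩ := hmem
    refine ⟨W, hWV, hpW, r, OmegaLib.idealSect_injective I W ?_⟩
    rw [OmegaLib.idealSect_smul, show OmegaSh.idealSect I W (AModX.res _ (le_trans hWV hV) e) = _ from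
      OmegaLib.idealSect_map I _ e, he]
    exact hr.symm
  choose W hW hpW r hr using hloc
  obtain ⟨R, hR, -⟩ := TopCat.Sheaf.existsUnique_gluing' X.sheaf W V (fun p => homOfLE (hW p))
    (fun p hp => TopologicalSpace.Opens.mem_iSup.2 ⟨⟨p, hp⟩, hpW ⟨p, hp⟩⟩) r fun p q => by
      apply hinj _ (inf_le_left.trans ((hW p).trans hV))
      have h1 := congrArg (AModX.res _ (inf_le_left : W p ⊓ W q ≤ W p)) (hr p)
      have h2 := congrArg (AModX.res _ (inf_le_right : W p ⊓ W q ≤ W q)) (hr q)
      rw [AModX.res_res, AModX.res_smul, AModX.res_res] at h1 h2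
      exact h1.symm.trans h2
  refine ⟨R, AModX.eq_of_locally _ _ fun p hp => ⟨W ⟨p, hp⟩, hW _, hpW _, ?_⟩⟩
  rw [AModX.res_smul, AModX.res_res, hr]
  exact congrArg (· • _) (hR ⟨p, hp⟩)

/-- Products of effective Cartier ideals are tensor products. -/
theorem nonempty_idealMod_mul {I J : X.IdealSheafData} (hI : BlowUp.IsEffCartierIdeal I)
    (hJ : BlowUp.IsEffCartierIdeal J) :
    Nonempty (ClSub.idealMod (I * J) ≅ CohB1.tensorMod (ClSub.idealMod I) (ClSub.idealMod J)) := by
  choose U hU a b ha hb using ModPairLib.exists_chart (ModPairLib.isLocPrincipal_of_isEffCartier hI)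
    (ModPairLib.isLocPrincipal_of_isEffCartier hJ)
  choose e he using fun x => OmegaLib.exists_of_mem I (U x) (a x) (ha x ▸ Ideal.mem_span_singleton_self _)
  choose f hf using fun x => OmegaLib.exists_of_mem J (U x) (b x) (hb x ▸ Ideal.mem_span_singleton_self _)
  haveI : IsIso (mulMap I J) := isIso_of_frames (mulMap I J) (fun x => (U x).1) hU
    (fun x => InvX.tmul (e x) (f x))
    (fun x => InvX.isFrame_tmul (isFrame_of_generator hI (ha x) (he x)) (isFrame_of_generator hJ (hb x) (hf x)))
    fun x => by
      refine isFrame_of_generator (ModPairLib.isEffCartier_mul hI hJ) (U := U x) (g := a x * b x) ?_ ?_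
      · rw [Scheme.IdealSheafData.ideal_mul, Pi.mul_apply, ha x, hb x, Ideal.span_singleton_mul_span_singleton]
      · rw [idealSect_mulMap_tmul, he, hf]
  exact ⟨(asIso (mulMap I J)).symm⟩

/-- The projection formula for a closed immersion. -/
def pushTensorIso {Z : Scheme.{u}} (i : Z ⟶ X) [IsClosedImmersion i] (M : X.Modules) :
    CohB1.tensorMod ((Coh.push i).obj (Coh.structureModule Z)) M ≅
      (Coh.push i).obj ((Scheme.Modules.pullback i).obj M) :=
  haveI := KFlatLib.isIso_projMod_of_isClosedImmersion i (Coh.structureModule Z) M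
  asIso (KFlatLib.projMod i (Coh.structureModule Z) M) ≪≫
    (Coh.push i).mapIso (tUnitL ((Scheme.Modules.pullback i).obj M))

end Groth.Agent.SurfInt
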