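import Groth.Agent.AmpleVan.Tw
import Groth.Agent.Lib.InvEnd
import Groth.Agent.InvX.Tensor

/-!
# Monomorphisms of invertible modules from sections, with a small import closure
-/

set_option linter.style.haveILetI false
set_option backward.isDefEq.respectTransparency false
set_option backward.isDefEq.respectTransparency.types false

universe u

open CategoryTheory CategoryTheory.Limits AlgebraicGeometry TopologicalSpace Opposite

attribute [local instance] HasDerivedCategory.standard

noncomputable section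

namespace Groth.Agent.SurfInt

open Groth.Agent
open Groth.Agent.H23.PicMul

variable {X : Scheme.{u}}

/-- A non-zero element of `H⁰` gives a monomorphism from the structure module. -/
theorem exists_mono_of_nontrivial_H0 [IsIntegral X] {M : X.Modules} (hM : PicF.IsInvertible M)
    [Nontrivial (Coh.HH X M 0)] : ∃ s : Coh.structureModule X ⟶ M, Mono s := by
  obtain ⟨x, hx⟩ := exists_ne (0 : Coh.HH X M 0)
  let σ : Γ(M, ⊤) := Sheaf.H.equiv₀ (Coh.toAb M) isTerminalTop x
  have hσ : σ ≠ 0 := fun h0 => hx ((Sheaf.H.equiv₀ (Coh.toAb M) isTerminalTop).injective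
    (h0.trans (map_zero _).symm))
  refine ⟨InvX.ofSect σ, InvEnd.mono_of_ne_zero InvX.isInvertible_structureModule hM _ fun h0 => hσ ?_⟩
  have h1 := congrArg InvX.one h0
  rw [InvX.one_ofSect] at h1
  exact h1

/-- If `D` is inverse to `A` then a non-zero section of `D` gives a monomorphism `A ⟶ O`. -/
theorem exists_mono_to_structure [IsIntegral X] {A D : X.Modules} (hA : PicF.IsInvertible A)
    (hD : PicF.IsInvertible D) (hAD : PicF.cl A * PicF.cl D = 1) [Nontrivial (Coh.HH X D 0)] :
    ∃ φ : A ⟶ Coh.structureModule X, Mono φ := by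
  obtain ⟨s, hs⟩ := exists_mono_of_nontrivial_H0 hD
  haveI := hs
  haveI := AmpleVan.isEquivalence_tw hA
  haveI : Mono ((AmpleVan.tw A).map s) := Functor.map_mono _ _
  obtain ⟨e₁⟩ := cl_eq_iff.1 (show PicF.cl A = PicF.cl ((AmpleVan.tw A).obj (Coh.structureModule X)) by
    show PicF.cl A = PicF.cl (CohB1.tensorMod (Coh.structureModule X) A)
    rw [cl_tensor, ← H23.PicMul.one_def, one_mul])
  obtain ⟨e₂⟩ := cl_eq_iff.1 (show PicF.cl ((AmpleVan.tw A).obj D) = PicF.cl (Coh.structureModule X) by
    show PicF.cl (CohB1.tensorMod D A) = _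
    rw [cl_tensor, ← H23.PicMul.one_def, mul_comm, hAD])
  exact ⟨e₁.hom ≫ (AmpleVan.tw A).map s ≫ e₂.hom, inferInstance⟩

/-- A monomorphism `A ⟶ O` of invertible modules gives one on every tensor power. -/
theorem exists_mono_pow_to_structure [IsIntegral X] {A : X.Modules} (hA : PicF.IsInvertible A)
    (φ : A ⟶ Coh.structureModule X) [Mono φ] :
    ∀ n : ℕ, ∃ ψ : CohB1.tensorPow A n ⟶ Coh.structureModule X, Mono ψ
  | 0 => ⟨𝟙 _, inferInstance⟩
  | n + 1 => by
    obtain ⟨ψ, hψ⟩ := exists_mono_pow_to_structure hA φ n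
    haveI := hψ
    haveI := AmpleVan.isEquivalence_tw hA
    haveI : Mono ((AmpleVan.tw A).map ψ) := Functor.map_mono _ _
    obtain ⟨e⟩ := cl_eq_iff.1 (show PicF.cl ((AmpleVan.tw A).obj (Coh.structureModule X)) = PicF.cl A by
      show PicF.cl (CohB1.tensorMod (Coh.structureModule X) A) = _
      rw [cl_tensor, ← H23.PicMul.one_def, one_mul])
    obtain ⟨e₁⟩ := cl_eq_iff.1
      (show PicF.cl (CohB1.tensorPow A (n + 1)) = PicF.cl (CohB1.tensorMod (CohB1.tensorPow A n) A) by
        rw [cl_tensor, cl_tensorPow, cl_tensorPow, pow_succ])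
    exact ⟨e₁.hom ≫ (AmpleVan.tw A).map ψ ≫ e.hom ≫ φ, inferInstance⟩

end Groth.Agent.SurfInt
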