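import Groth.Agent.HilbPoly.Poly
import Groth.Agent.Lib.CurveTensor
import Groth.Agent.Snapper.DimVanish
import Groth.Agent.Lib.Euler
import Groth.Agent.InvX.Tensor
import Groth.Agent.H23.PicInv
import Groth.Prelude.Def_FGA
import Groth.Prelude.Def_CurvBase
import Groth.Prelude.Def_ClSub2

/-!
# The intersection pairing of invertible modules on a proper scheme of dimension at most two

`pair k A B = χ(O) - χ(A) - χ(B) + χ(A ⊗ B)`, its agreement with `FGA.intNum`, symmetry and bilinearity.
-/

set_option linter.style.haveILetI false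
set_option linter.unusedSectionVars false
set_option backward.isDefEq.respectTransparency false
set_option backward.isDefEq.respectTransparency.types false

universe u

open CategoryTheory CategoryTheory.Limits AlgebraicGeometry TopologicalSpace Opposite MonoidalCategory

noncomputable section

namespace Groth.Agent.SurfInt

open Groth.Agent

variable {X : Scheme.{u}}

/-- `M ⊗ N ≅ N ⊗ M`. -/
def tComm (M N : X.Modules) : CohB1.tensorMod M N ≅ CohB1.tensorMod N M := CurveTensor.commIso M N

/-- `M ⊗ O ≅ M`. -/
def tUnit (M : X.Modules) : CohB1.tensorMod M (Coh.structureModule X) ≅ M := AmpleVan.twUnit.app M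

/-- `O ⊗ M ≅ M`. -/
def tUnitL (M : X.Modules) : CohB1.tensorMod (Coh.structureModule X) M ≅ M := CurveTensor.structureTensorIso M

/-- `(A ⊗ B) ⊗ C ≅ A ⊗ (B ⊗ C)`. -/
def tAssoc (A B C : X.Modules) :
    CohB1.tensorMod (CohB1.tensorMod A B) C ≅ CohB1.tensorMod A (CohB1.tensorMod B C) :=
  (AmpleVan.twComp B C).app A

/-- Tensoring an isomorphism on the left factor. -/
def tMapL {A A' : X.Modules} (e : A ≅ A') (B : X.Modules) : CohB1.tensorMod A B ≅ CohB1.tensorMod A' B :=
  (AmpleVan.tw B).mapIso e

/-- Tensoring an isomorphism on the right factor. -/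
def tMapR (A : X.Modules) {B B' : X.Modules} (e : B ≅ B') : CohB1.tensorMod A B ≅ CohB1.tensorMod A B' :=
  ((DCoh.tensorBi (X := X)).obj A).mapIso e

theorem isSeparated_of_proper (k : Type u) [Field k] [X.Over (Spec (CommRingCat.of k))]
    [IsProper (X ↘ Spec (CommRingCat.of k))] : X.IsSeparated :=
  ⟨by rw [← terminal.comp_from (X ↘ Spec (CommRingCat.of k))]; infer_instance⟩

theorem isInvertible_O (X : Scheme.{u}) : PicF.IsInvertible (Coh.structureModule X) :=
  InvX.isInvertible_structureModule

variable (k : Type u) [Field k] [X.Over (Spec (CommRingCat.of k))]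

/-- The intersection pairing `χ(O) - χ(A) - χ(B) + χ(A ⊗ B)`. -/
def pair (A B : X.Modules) : ℤ :=
  Curv2.euler k X (Coh.structureModule X) - Curv2.euler k X A - Curv2.euler k X B
    + Curv2.euler k X (CohB1.tensorMod A B)

theorem euler_congr {M N : X.Modules} (e : M ≅ N) : Curv2.euler k X M = Curv2.euler k X N :=
  finsum_congr fun i => by rw [HilbPoly.finrank_HH_iso k e i]

theorem pair_comm (A B : X.Modules) : pair k A B = pair k B A := by
  unfold pair
  rw [euler_congr k (tComm A B)]
  ring

theorem pair_congr {A A' B B' : X.Modules} (e : A ≅ A') (e' : B ≅ B') : pair k A B = pair k A' B' := by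
  unfold pair
  rw [euler_congr k e, euler_congr k e', euler_congr k (tMapL e B ≪≫ tMapR A' e')]

theorem pair_O_left (B : X.Modules) : pair k (Coh.structureModule X) B = 0 := by
  unfold pair
  rw [euler_congr k (tUnitL B)]
  ring

theorem pair_O_right (A : X.Modules) : pair k A (Coh.structureModule X) = 0 := by
  rw [pair_comm, pair_O_left]

/-- The second difference of the Euler characteristic is the pairing. -/
theorem euler_tensor_eq (A B : X.Modules) :
    Curv2.euler k X (CohB1.tensorMod A B) =
      Curv2.euler k X A + Curv2.euler k X B - Curv2.euler k X (Coh.structureModule X) + pair k A B := by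
  unfold pair
  ring

variable [IsProper (X ↘ Spec (CommRingCat.of k))] (hdim : topologicalKrullDim X ≤ (2 : ℕ))

include hdim in
theorem eulerCharLE_two {M : X.Modules} (hM : Coh.IsQCoh M) :
    FGA.eulerCharLE k X M 2 = Curv2.euler k X M := by
  haveI := CurveCohLib.isNoetherian_of_proper (k := k) (X := X)
  haveI : X.IsSeparated := isSeparated_of_proper k (X := X)
  refine (Euler.euler_eq_sum k M 3 fun i hi => ?_).symm
  exact Snapper.subsingleton_HH_of_dim_le (d := 2) hdim hM (by omega)

include hdim in
theorem intNum_eq_pair {A B : X.Modules} (hA : PicF.IsInvertible A) (hB : PicF.IsInvertible B) :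
    FGA.intNum k X 2 ![A, B] (Coh.structureModule X) = pair k A B := by
  haveI := CurveCohLib.isNoetherian_of_proper (k := k) (X := X)
  have hu : (Finset.univ : Finset (Finset (Fin 2))) = {∅, {0}, {1}, {0, 1}} := by decide
  have h01 : (insert 0 {1} : Finset (Fin 2)).sort (· ≤ ·) = [0, 1] := by
    rw [Finset.sort_insert (r := (· ≤ ·)) (fun b _ => Fin.zero_le b) (by decide), Finset.sort_singleton]
  have hO := AmpleVan.isCoh_invertible (isInvertible_O X)
  have hA' := AmpleVan.isCoh_invertible hA
  have hB' := AmpleVan.isCoh_invertible hB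
  have ct : ∀ {M N : X.Modules}, Coh.IsCoh M → Coh.IsCoh N → Coh.IsQCoh (CohB1.tensorMod M N) :=
    fun hM hN => (AmpleVan.isCoh_tensor hM hN).1
  unfold FGA.intNum
  rw [hu, Finset.sum_insert (by decide), Finset.sum_insert (by decide), Finset.sum_insert (by decide),
    Finset.sum_singleton, h01, Finset.sort_empty, Finset.sort_singleton, Finset.sort_singleton]
  simp only [List.map_nil, List.map_cons, FGA.tensorList, Matrix.cons_val_zero, Matrix.cons_val_one,
    Finset.card_empty, Finset.card_singleton, pow_zero, pow_one, one_mul]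
  have c2 : ({0, 1} : Finset (Fin 2)).card = 2 := by decide
  rw [c2]
  have e0 : CohB1.tensorMod (Coh.structureModule X) (Coh.structureModule X) ≅ Coh.structureModule X := tUnit _
  have eA : ∀ M : X.Modules, CohB1.tensorMod (CohB1.tensorMod M (Coh.structureModule X)) (Coh.structureModule X) ≅ M :=
    fun M => tUnit _ ≪≫ tUnit M
  have eAB : CohB1.tensorMod (CohB1.tensorMod A (CohB1.tensorMod B (Coh.structureModule X))) (Coh.structureModule X) ≅
      CohB1.tensorMod A B := tUnit _ ≪≫ tMapR A (tUnit B)
  rw [eulerCharLE_two k hdim (ct hO hO),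
    eulerCharLE_two k hdim (ct (AmpleVan.isCoh_tensor hA' hO) hO),
    eulerCharLE_two k hdim (ct (AmpleVan.isCoh_tensor hB' hO) hO),
    eulerCharLE_two k hdim (ct (AmpleVan.isCoh_tensor hA' (AmpleVan.isCoh_tensor hB' hO)) hO),
    euler_congr k e0, euler_congr k (eA A), euler_congr k (eA B), euler_congr k eAB]
  unfold pair
  ring

include hdim in
/-- The third difference vanishes. -/
theorem pair_tensor_left {A A' B : X.Modules} (hA : PicF.IsInvertible A) (hA' : PicF.IsInvertible A')
    (hB : PicF.IsInvertible B) : pair k (CohB1.tensorMod A A') B = pair k A B + pair k A' B := by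
  haveI := CurveCohLib.isNoetherian_of_proper (k := k) (X := X)
  have hz := HilbPoly.iterD_eq_zero 3 (HilbPoly.additive_euler k) [A, A', B] rfl
    (by simp [hA, hA', hB]) (Coh.structureModule X) (AmpleVan.isCoh_invertible (isInvertible_O X))
    (lt_of_le_of_lt ((topologicalKrullDim_subspace_le X _).trans hdim) (by norm_num))
  simp only [HilbPoly.iterD] at hz
  have eA := tUnitL (X := X) A
  have e1 : (AmpleVan.tw B).obj ((AmpleVan.tw A').obj ((AmpleVan.tw A).obj (Coh.structureModule X))) ≅
      CohB1.tensorMod (CohB1.tensorMod A A') B := tMapL (tMapL eA A') B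
  have e2 : (AmpleVan.tw A').obj ((AmpleVan.tw A).obj (Coh.structureModule X)) ≅ CohB1.tensorMod A A' := tMapL eA A'
  have e3 : (AmpleVan.tw B).obj ((AmpleVan.tw A).obj (Coh.structureModule X)) ≅ CohB1.tensorMod A B := tMapL eA B
  have e4 : (AmpleVan.tw B).obj ((AmpleVan.tw A').obj (Coh.structureModule X)) ≅ CohB1.tensorMod A' B := tMapL (tUnitL A') B
  have eA1 : (AmpleVan.tw A').obj (Coh.structureModule X) ≅ A' := tUnitL A'
  have eA0 : (AmpleVan.tw A).obj (Coh.structureModule X) ≅ A := tUnitL A
  have eB : (AmpleVan.tw B).obj (Coh.structureModule X) ≅ B := tUnitL B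
  rw [euler_congr k e1, euler_congr k e2, euler_congr k e3, euler_congr k e4,
    euler_congr k eA1, euler_congr k eA0, euler_congr k eB] at hz
  unfold pair
  linarith

include hdim in
theorem pair_tensor_right {A B B' : X.Modules} (hA : PicF.IsInvertible A) (hB : PicF.IsInvertible B)
    (hB' : PicF.IsInvertible B') : pair k A (CohB1.tensorMod B B') = pair k A B + pair k A B' := by
  rw [pair_comm, pair_tensor_left k hdim hB hB' hA, pair_comm k B A, pair_comm k B' A]

include hdim in
theorem pair_inverse_left {A A' B : X.Modules} (hA : PicF.IsInvertible A) (hA' : PicF.IsInvertible A')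
    (hB : PicF.IsInvertible B) (e : CohB1.tensorMod A A' ≅ Coh.structureModule X) :
    pair k A' B = - pair k A B := by
  have h := pair_tensor_left k hdim hA hA' hB
  rw [pair_congr k e (Iso.refl B), pair_O_left] at h
  linarith

include hdim in
theorem pair_inverse_both {A A' B B' : X.Modules} (hA : PicF.IsInvertible A) (hA' : PicF.IsInvertible A')
    (hB : PicF.IsInvertible B) (hB' : PicF.IsInvertible B')
    (e : CohB1.tensorMod A A' ≅ Coh.structureModule X) (e' : CohB1.tensorMod B B' ≅ Coh.structureModule X) :
    pair k A' B' = pair k A B := by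
  rw [pair_inverse_left k hdim hA hA' hB' e, pair_comm, pair_inverse_left k hdim hB hB' hA e', pair_comm k B A]
  ring

include hdim in
theorem pair_tensorPow_left {A B : X.Modules} (hA : PicF.IsInvertible A) (hB : PicF.IsInvertible B) (n : ℕ) :
    pair k (CohB1.tensorPow A n) B = (n : ℤ) * pair k A B := by
  induction n with
  | zero => simp [CohB1.tensorPow, pair_O_left]
  | succ n ih =>
    rw [CohB1.tensorPow, pair_tensor_left k hdim (InvX.isInvertible_tensorPow hA n) hA hB, ih]
    push_cast
    ring

include hdim in
theorem pair_tensorPow_tensorPow {A B : X.Modules} (hA : PicF.IsInvertible A) (hB : PicF.IsInvertible B) (m n : ℕ) :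
    pair k (CohB1.tensorPow A m) (CohB1.tensorPow B n) = (m : ℤ) * n * pair k A B := by
  rw [pair_tensorPow_left k hdim hA (InvX.isInvertible_tensorPow hB n), pair_comm,
    pair_tensorPow_left k hdim hB hA, pair_comm k B A]
  ring

include hdim in
/-- The quadratic polynomial of the Euler characteristic of powers. -/
theorem two_mul_euler_tensorPow {A : X.Modules} (hA : PicF.IsInvertible A) (n : ℕ) :
    2 * Curv2.euler k X (CohB1.tensorPow A n) =
      2 * Curv2.euler k X (Coh.structureModule X) +
        2 * n * (Curv2.euler k X A - Curv2.euler k X (Coh.structureModule X)) + n * (n - 1) * pair k A A := by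
  induction n with
  | zero => simp [CohB1.tensorPow]
  | succ n ih =>
    have h : Curv2.euler k X (CohB1.tensorPow A (n + 1)) = _ := euler_tensor_eq k (CohB1.tensorPow A n) A
    rw [pair_tensorPow_left k hdim hA hA] at h
    rw [h]
    push_cast
    linarith

end Groth.Agent.SurfInt
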