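import Groth.Agent.SurfInt.Degrees
import Groth.Agent.HilbPoly.Pos
import Groth.Agent.VarBase.CurveDeg
import Groth.Agent.VanGrowth.Bound
import Groth.Agent.CohCore23.PushSupport

/-!
# Degrees of invertible modules with sections

An invertible module with a section that generates at the generic point of an integral curve has
nonnegative degree on it, positive unless the section generates on all of it. The intersection number with
a module of nonnegative degree on curves is then nonnegative.
-/

set_option linter.style.haveILetI false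
set_option linter.unusedSectionVars false
set_option backward.isDefEq.respectTransparency false
set_option backward.isDefEq.respectTransparency.types false

universe u

open CategoryTheory CategoryTheory.Limits AlgebraicGeometry TopologicalSpace Opposite

noncomputable section

namespace Groth.Agent.SurfInt

open Groth.Agent

variable {X : Scheme.{u}}

theorem isIntegral_clIdeal (ξ : X) : IsIntegral (VarBase.clIdeal ξ).subscheme := by
  haveI : IrreducibleSpace (VarBase.clIdeal ξ).subscheme := by
    have hr : IsIrreducible (Set.range (VarBase.clIdeal ξ).subschemeι) :=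
      (VarBase.range_clIdeal ξ).symm ▸ isIrreducible_singleton.closure
    haveI := isIrreducible_iff_irreducibleSpace.1 hr
    exact (VarBase.clIdeal ξ).subschemeι.isClosedEmbedding.isEmbedding.toHomeomorph.symm.surjective.irreducibleSpace
      (VarBase.clIdeal ξ).subschemeι.isClosedEmbedding.isEmbedding.toHomeomorph.symm.continuous
  exact isIntegral_of_irreducibleSpace_of_isReduced _

theorem support_O (X : Scheme.{u}) : CohB1.support (Coh.structureModule X) = Set.univ :=
  Set.eq_univ_of_forall fun x => by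
    obtain ⟨U, hU, hxU⟩ := QCoh.exists_affine_mem x
    refine (QCoh.mem_support_iff QCoh.isQCoh_structureModule hU hxU).2 ⟨(1 : Γ(X, U)), fun a ha h0 => ?_⟩
    change a * 1 = 0 at h0
    rw [mul_one] at h0
    subst h0
    rw [Scheme.basicOpen_zero] at ha
    exact ha

theorem dim_range' {Z : Scheme.{u}} (i : Z ⟶ X) [IsClosedImmersion i] :
    topologicalKrullDim ↥(Set.range i) = topologicalKrullDim Z :=
  (IsHomeomorph.topologicalKrullDim_eq _ (i.isEmbedding.toHomeomorph).isHomeomorph).symm

/-- The generic point of a closed integral subscheme generates its range. -/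
theorem range_eq_closure_genericPoint {Z : Scheme.{u}} (i : Z ⟶ X) [IsClosedImmersion i] [IsIntegral Z] :
    Set.range i = closure ({i (genericPoint Z)} : Set X) :=
  QCoh.range_eq_closure i

theorem clIdeal_genericPoint (ξ : X) :
    haveI := isIntegral_clIdeal ξ
    (VarBase.clIdeal ξ).subschemeι (genericPoint ↥(VarBase.clIdeal ξ).subscheme) = ξ := by
  haveI := isIntegral_clIdeal ξ
  have h := (range_eq_closure_genericPoint (VarBase.clIdeal ξ).subschemeι).symm.trans (VarBase.range_clIdeal ξ)
  exact ((specializes_iff_mem_closure.2 (h.ge (subset_closure rfl))).antisymm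
    (specializes_iff_mem_closure.2 (h.le (subset_closure rfl)))).eq

/-- Multiplication by a section generating somewhere is injective on the structure module. -/
theorem mono_mulHom_structure [IsIntegral X] {L : X.Modules} (hL : PicF.IsInvertible L)
    {t : Coh.structureModule X ⟶ L} (hgen : genericPoint X ∈ CohB1.genLocus L t) :
    Mono (HilbPoly.mulHom t (Coh.structureModule X)) := by
  refine InvEnd.mono_of_ne_zero InvX.isInvertible_structureModule
    (InvX.isInvertible_tensorMod InvX.isInvertible_structureModule hL) _ fun h0 => ?_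
  obtain ⟨U, hU, hξ⟩ : ∃ U : X.Opens,
      IsIso ((Scheme.Modules.restrictFunctor U.ι).map t) ∧ genericPoint X ∈ U := Opens.mem_sSup.1 hgen
  haveI : IsIso ((Scheme.Modules.restrictFunctor U.ι).map t) := hU
  haveI := HilbPoly.isIso_restrict_mulHom t (Coh.structureModule X) (U := U)
  rw [h0, Functor.map_zero] at this
  have hz : IsZero ((Scheme.Modules.restrictFunctor U.ι).obj (Coh.structureModule X)) := by
    haveI := this
    refine (IsZero.iff_id_eq_zero _).2 ?_
    rw [← IsIso.hom_inv_id (0 : (Scheme.Modules.restrictFunctor U.ι).obj (Coh.structureModule X) ⟶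
      (Scheme.Modules.restrictFunctor U.ι).obj (CohB1.tensorMod (Coh.structureModule X) L)), zero_comp]
  exact HilbPoly.notMem_support_of_isZero_restrict hz hξ
    (by rw [support_O]; exact Set.mem_univ _)

variable (k : Type u) [Field k] [X.Over (Spec (CommRingCat.of k))] [IsProper (X ↘ Spec (CommRingCat.of k))]

/-- The degree on an integral curve of a module with a section generating at its generic point. -/
theorem deg_push_nonneg {Z : Scheme.{u}} (i : Z ⟶ X) [IsClosedImmersion i] [IsIntegral Z]
    (hd : topologicalKrullDim Z ≤ ((1 : ℕ) : WithBot ℕ∞)) {L : X.Modules} (hL : PicF.IsInvertible L)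
    (t : Coh.structureModule X ⟶ L) (hξ : i (genericPoint Z) ∈ CohB1.genLocus L t) :
    0 ≤ Curv2.euler k X (CohB1.tensorMod ((Coh.push i).obj (Coh.structureModule Z)) L) -
        Curv2.euler k X ((Coh.push i).obj (Coh.structureModule Z)) ∧
    (∀ z : Z, i z ∉ CohB1.genLocus L t →
      0 < Curv2.euler k X (CohB1.tensorMod ((Coh.push i).obj (Coh.structureModule Z)) L) -
        Curv2.euler k X ((Coh.push i).obj (Coh.structureModule Z))) := by
  haveI := CurveCohLib.isNoetherian_of_proper (k := k) (X := X)
  have hM : Coh.IsCoh ((Coh.push i).obj (Coh.structureModule Z)) := QCoh.isCoh_push_structure i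
  set M := (Coh.push i).obj (Coh.structureModule Z) with hMdef
  have hMs : CohB1.support M = Set.range i := CohCore23.support_push_structure i i.isClosedEmbedding.isClosed_range
  haveI : Mono (HilbPoly.mulHom t M) := VanGrowth.mono_mulHom_push i t hξ
  have hP : Coh.IsCoh (CohB1.tensorMod M L) := AmpleVan.isCoh_tensor hM (AmpleVan.isCoh_invertible hL)
  have hC : Coh.IsCoh (cokernel (HilbPoly.mulHom t M)) := QCoh.isCoh_cokernel hM.1 hP _
  have hsub : CohB1.support (cokernel (HilbPoly.mulHom t M)) ⊆ Set.range i :=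
    (((QCoh.support_of_epi hP.1 hC.1 (cokernel.π _)).trans (HilbPoly.support_tensor_subset M _)).trans hMs.le)
  obtain ⟨U, hU, hξU⟩ : ∃ U : X.Opens, IsIso ((Scheme.Modules.restrictFunctor U.ι).map t) ∧
      i (genericPoint Z) ∈ U := Opens.mem_sSup.1 hξ
  haveI : IsIso ((Scheme.Modules.restrictFunctor U.ι).map t) := hU
  haveI := HilbPoly.isIso_restrict_mulHom t M (U := U)
  have hξC : i (genericPoint Z) ∉ CohB1.support (cokernel (HilbPoly.mulHom t M)) :=
    HilbPoly.notMem_support_of_isZero_restrict (HilbPoly.isZero_restrict_cokernel U _) hξU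
  have hCcl := QCoh.isClosed_support_of_isFT hC.1 hC.2
  have hcl : ∀ x ∈ CohB1.support (cokernel (HilbPoly.mulHom t M)), IsClosed ({x} : Set X) := by
    have hd' : topologicalKrullDim ↥(closure ({i (genericPoint Z)} : Set X)) ≤ ((1 : ℕ) : WithBot ℕ∞) := by
      rw [← range_eq_closure_genericPoint i, dim_range' i]; exact hd
    exact VarBase.isClosed_of_dim_lt_one hCcl
      (HilbPoly.dim_lt_closure hd' hCcl (hsub.trans (range_eq_closure_genericPoint i).le) hξC)
  have hadd := CurveCohLib.euler_additive (k := k)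
    (ShortComplex.ShortExact.mk' (S := ShortComplex.mk (HilbPoly.mulHom t M) (cokernel.π _) (cokernel.condition _))
      (ShortComplex.exact_of_g_is_cokernel _ (cokernelIsCokernel _)) inferInstance inferInstance) hM hP hC
  dsimp only at hadd
  have he : Curv2.euler k X (CohB1.tensorMod M L) - Curv2.euler k X M =
      Curv2.euler k X (cokernel (HilbPoly.mulHom t M)) := by linarith
  rw [he]
  refine ⟨?_, fun z hz => ?_⟩
  · rw [CurveCohLib.euler_eq_finrank_zero hC hcl]; positivity
  · refine lt_of_le_of_ne ?_ fun h0 => ?_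
    · rw [CurveCohLib.euler_eq_finrank_zero hC hcl]; positivity
    · have hz0 := CurveCohLib.isZero_of_euler_eq_zero (k := k) hC hcl h0.symm
      have hmem := HilbPoly.mem_support_cokernel_mulHom hM hL t (x := i z) (hMs ▸ ⟨z, rfl⟩) hz
      rw [QCoh.support_eq_empty_of_isZero hz0 hC.1] at hmem
      exact hmem

/-- Nonnegativity of the degree on an integral curve. -/
theorem curveDeg_nonneg_of_section {ξ : X}
    (hdim : topologicalKrullDim ↥(closure ({ξ} : Set X)) ≤ ((1 : ℕ) : WithBot ℕ∞))
    {L : X.Modules} (hL : PicF.IsInvertible L)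
    (t : Coh.structureModule X ⟶ L) (hξ : ξ ∈ CohB1.genLocus L t) :
    0 ≤ curveDeg k (VarBase.clIdeal ξ) L := by
  haveI := isIntegral_clIdeal ξ
  refine (deg_push_nonneg k (VarBase.clIdeal ξ).subschemeι ?_ hL t (by rwa [clIdeal_genericPoint ξ])).1
  rwa [← dim_range' (VarBase.clIdeal ξ).subschemeι, VarBase.range_clIdeal]

/-- Positivity of the degree on an integral curve. -/
theorem curveDeg_pos_of_section {ξ : X}
    (hdim : topologicalKrullDim ↥(closure ({ξ} : Set X)) ≤ ((1 : ℕ) : WithBot ℕ∞))
    {L : X.Modules} (hL : PicF.IsInvertible L)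
    (t : Coh.structureModule X ⟶ L) (hξ : ξ ∈ CohB1.genLocus L t)
    {x : X} (hx : x ∈ closure ({ξ} : Set X)) (hxt : x ∉ CohB1.genLocus L t) :
    0 < curveDeg k (VarBase.clIdeal ξ) L := by
  haveI := isIntegral_clIdeal ξ
  obtain ⟨z, rfl⟩ : x ∈ Set.range (VarBase.clIdeal ξ).subschemeι := by rwa [VarBase.range_clIdeal]
  refine (deg_push_nonneg k (VarBase.clIdeal ξ).subschemeι ?_ hL t (by rwa [clIdeal_genericPoint ξ])).2 z hxt
  rwa [← dim_range' (VarBase.clIdeal ξ).subschemeι, VarBase.range_clIdeal]

include k in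
/-- Intersection numbers with the divisor of a section are sums of degrees over its components. -/
theorem exists_pair_eq_sum [IsIntegral X] (hdim : topologicalKrullDim X ≤ ((2 : ℕ) : WithBot ℕ∞))
    {L : X.Modules} (hL : PicF.IsInvertible L)
    (t : Coh.structureModule X ⟶ L) (hgen : genericPoint X ∈ CohB1.genLocus L t) :
    ∃ a : X → ℕ,
      (∀ ξ, a ξ ≠ 0 → topologicalKrullDim ↥(closure ({ξ} : Set X)) = ((1 : ℕ) : WithBot ℕ∞) ∧
        ξ ∉ CohB1.genLocus L t) ∧
      (∀ ξ, topologicalKrullDim ↥(closure ({ξ} : Set X)) = ((1 : ℕ) : WithBot ℕ∞) →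
        ξ ∉ CohB1.genLocus L t → a ξ ≠ 0) ∧
      {ξ | a ξ ≠ 0}.Finite ∧
      ∀ B : X.Modules, PicF.IsInvertible B →
        pair k L B = ∑ᶠ ξ, (a ξ : ℤ) * curveDeg k (VarBase.clIdeal ξ) B := by
  classical
  haveI := CurveCohLib.isNoetherian_of_proper (k := k) (X := X)
  haveI := mono_mulHom_structure hL hgen
  have hO : Coh.IsCoh (Coh.structureModule X) := QCoh.isCoh_structureModule'
  have hP : Coh.IsCoh (CohB1.tensorMod (Coh.structureModule X) L) :=
    AmpleVan.isCoh_tensor hO (AmpleVan.isCoh_invertible hL)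
  set μ := HilbPoly.mulHom t (Coh.structureModule X) with hμ
  have hC : Coh.IsCoh (cokernel μ) := QCoh.isCoh_cokernel hO.1 hP _
  let S := ShortComplex.mk μ (cokernel.π μ) (cokernel.condition μ)
  have hS : S.ShortExact :=
    .mk' (ShortComplex.exact_of_g_is_cokernel _ (cokernelIsCokernel _)) inferInstance inferInstance
  have hnot : ∀ ξ ∈ CohB1.genLocus L t, ξ ∉ CohB1.support (cokernel μ) := fun ξ hξ => by
    obtain ⟨U, hU, hgU⟩ : ∃ U : X.Opens, IsIso ((Scheme.Modules.restrictFunctor U.ι).map t) ∧ ξ ∈ U :=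
      Opens.mem_sSup.1 hξ
    haveI : IsIso ((Scheme.Modules.restrictFunctor U.ι).map t) := hU
    haveI := HilbPoly.isIso_restrict_mulHom t (Coh.structureModule X) (U := U)
    exact HilbPoly.notMem_support_of_isZero_restrict (HilbPoly.isZero_restrict_cokernel U _) hgU
  have hu : topologicalKrullDim (closure ({genericPoint X} : Set X)) ≤ ((2 : ℕ) : WithBot ℕ∞) :=
    (topologicalKrullDim_subspace_le ↥X _).trans hdim
  have hdC : topologicalKrullDim ↥(CohB1.support (cokernel μ)) ≤ ((1 : ℕ) : WithBot ℕ∞) :=
    HilbPoly.le_of_lt_succ (HilbPoly.dim_lt_closure hu (QCoh.isClosed_support_of_isFT hC.1 hC.2)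
      (by rw [genericPoint_closure]; exact Set.subset_univ _) (hnot _ hgen))
  let a : X → ℕ := fun ξ => if topologicalKrullDim ↥(closure ({ξ} : Set X)) = ((1 : ℕ) : WithBot ℕ∞) then
    VarBase.lenAt (cokernel μ) ξ else 0
  have ha : ∀ ξ, a ξ ≠ 0 → topologicalKrullDim ↥(closure ({ξ} : Set X)) = ((1 : ℕ) : WithBot ℕ∞) ∧
      ξ ∈ CohB1.support (cokernel μ) := fun ξ h => by
    simp only [a] at h
    split_ifs at h with h1
    · exact ⟨h1, by_contra fun hn => h (VarBase.lenAt_eq_zero hn)⟩
    · exact absurd rfl h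
  refine ⟨a, fun ξ h => ⟨(ha ξ h).1, fun hg => hnot ξ hg (ha ξ h).2⟩, fun ξ h hg h0 => ?_,
    (VarBase.finite_top_points hC hdC).subset fun ξ h => ha ξ h, fun B hB => ?_⟩
  · have hmem : ξ ∈ CohB1.support (cokernel μ) := HilbPoly.mem_support_cokernel_mulHom hO hL t
      (by rw [support_O]; exact Set.mem_univ _) hg
    simp only [a, if_pos h] at h0
    rw [VarBase.lenAt, ENat.toNat_eq_zero] at h0
    rcases h0 with h0 | h0
    · rw [Module.length_eq_zero_iff] at h0
      exact hmem h0
    · exact VarBase.length_ne_top hC hdC h h0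
  haveI := AmpleVan.isEquivalence_tw hB
  have hBc := AmpleVan.isCoh_invertible hB
  have h0 := CurveCohLib.euler_additive (k := k) hS hO hP hC
  have hS' : (S.map (AmpleVan.tw B)).ShortExact := hS.map_of_exact _
  have h1 := CurveCohLib.euler_additive (k := k) hS' (AmpleVan.isCoh_tensor hO hBc)
    (AmpleVan.isCoh_tensor hP hBc) (AmpleVan.isCoh_tensor hC hBc)
  change Curv2.euler k X (CohB1.tensorMod (Coh.structureModule X) L) = _ + Curv2.euler k X (cokernel μ) at h0
  change Curv2.euler k X (CohB1.tensorMod (CohB1.tensorMod (Coh.structureModule X) L) B) =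
    Curv2.euler k X (CohB1.tensorMod (Coh.structureModule X) B) +
      Curv2.euler k X (CohB1.tensorMod (cokernel μ) B) at h1
  let Ψ : X.Modules → ℤ := fun G => HilbPoly.iterD [B] (Curv2.euler k X) G
  have hpair : pair k L B = Ψ (cokernel μ) := by
    show _ = Curv2.euler k X (CohB1.tensorMod (cokernel μ) B) - Curv2.euler k X (cokernel μ)
    unfold pair
    rw [euler_congr k (tUnitL L)] at h0
    rw [euler_congr k (tMapL (tUnitL L) B), euler_congr k (tUnitL B)] at h1
    change Curv2.euler k X L = Curv2.euler k X (Coh.structureModule X) + _ at h0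
    linarith
  have hA : HilbPoly.Additive Ψ :=
    HilbPoly.additive_iterD (HilbPoly.additive_euler k) (by simp [hB])
  rw [hpair, VarBase.eq_compSum Ψ hA.iso 1 hA.add (fun M hM hlt => ?_) hC hdC, VarBase.compSum]
  · refine finsum_congr fun ξ => ?_
    simp only [a]
    split_ifs with h
    · rw [nsmul_eq_mul]; rfl
    · simp
  · simp only [Ψ, HilbPoly.iterD]
    exact sub_eq_zero.2 (euler_tensor_of_dim_zero k hB hM (HilbPoly.le_of_lt_succ (by simpa using hlt)))

include k in
/-- The intersection number of a module with a section and a module of nonnegative degree on curves. -/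
theorem pair_nonneg_of_section [IsIntegral X] (hdim : topologicalKrullDim X ≤ ((2 : ℕ) : WithBot ℕ∞))
    {L B : X.Modules} (hL : PicF.IsInvertible L) (hB : PicF.IsInvertible B)
    (t : Coh.structureModule X ⟶ L) (hgen : genericPoint X ∈ CohB1.genLocus L t)
    (hnef : ∀ ξ : X, topologicalKrullDim ↥(closure ({ξ} : Set X)) = ((1 : ℕ) : WithBot ℕ∞) →
      0 ≤ curveDeg k (VarBase.clIdeal ξ) B) :
    0 ≤ pair k L B ∧ ∀ ξ : X, topologicalKrullDim ↥(closure ({ξ} : Set X)) = ((1 : ℕ) : WithBot ℕ∞) →
      ξ ∉ CohB1.genLocus L t → 0 < curveDeg k (VarBase.clIdeal ξ) B → 0 < pair k L B := by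
  obtain ⟨a, ha, ha', hfin, hsum⟩ := exists_pair_eq_sum k hdim hL t hgen
  rw [hsum B hB]
  have hnn : ∀ ξ : X, 0 ≤ (a ξ : ℤ) * curveDeg k (VarBase.clIdeal ξ) B := fun ξ => by
    by_cases h : a ξ = 0
    · simp [h]
    · exact mul_nonneg (Int.natCast_nonneg _) (hnef ξ (ha ξ h).1)
  refine ⟨finsum_nonneg hnn, fun ξ hξ hξt hpos => ?_⟩
  refine finsum_pos hnn ⟨ξ, ?_⟩ (hfin.subset fun η hη h0 => hη (by simp [h0]))
  exact mul_pos (Int.natCast_pos.2 (Nat.pos_of_ne_zero (ha' ξ hξ hξt))) hpos

end Groth.Agent.SurfInt
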