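import Groth.Agent.LC.ExtDim

/-!
# Two parameters in a two-dimensional Cohen–Macaulay local ring
-/

set_option linter.style.haveILetI false

universe u

open IsLocalRing RingTheory.Sequence

namespace Groth.Agent.SurfInt

open Groth.Agent

variable {R : Type u} [CommRing R]

/-- If `b` is regular modulo `(a)`, then `(a) ∩ (b) = (ab)`. -/
theorem inf_le_mul_of_regular_mod {a b : R}
    (h : ∀ z : R, b * z ∈ Ideal.span {a} → z ∈ Ideal.span {a}) :
    Ideal.span {a} ⊓ Ideal.span {b} ≤ Ideal.span {a} * Ideal.span {b} := by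
  rintro z ⟨hza, hzb⟩
  obtain ⟨c, rfl⟩ := Ideal.mem_span_singleton'.1 hzb
  obtain ⟨d, rfl⟩ := Ideal.mem_span_singleton'.1 (h c (by rw [mul_comm]; exact hza))
  rw [Ideal.span_singleton_mul_span_singleton]
  exact Ideal.mem_span_singleton'.2 ⟨d, by ring⟩

/-- In a Cohen–Macaulay local ring of dimension at least two, two parameters `a`, `b` with `a` regular
form a regular sequence. -/
theorem regular_mod_of_isCM [IsLocalRing R] [IsNoetherianRing R] (hCM : LocCoh.IsCohenMacaulayLocalRing R)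
    (hdim : (2 : WithBot ℕ∞) ≤ ringKrullDim R) {a b : R} (ha : a ∈ nonZeroDivisors R)
    (ham : a ∈ maximalIdeal R)
    (hrad : ∀ P : Ideal R, P.IsPrime → a ∈ P → b ∈ P → P = maximalIdeal R) :
    ∀ z : R, b * z ∈ Ideal.span {a} → z ∈ Ideal.span {a} := by
  have hCMM : LocCoh.IsCohenMacaulayModule R R := hCM.supportDim_eq_depth
  have hreg : IsWeaklyRegular R [a] := by
    rw [isWeaklyRegular_singleton_iff]
    intro x y hxy
    exact (mul_cancel_left_mem_nonZeroDivisors ha).1 hxy
  have hmem : ∀ r ∈ [a], r ∈ maximalIdeal R := by simpa using ham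
  let T : Submodule R R := Ideal.ofList [a] • ⊤
  have hT : T = Ideal.span {a} := by
    show Ideal.ofList [a] • (⊤ : Submodule R R) = _
    rw [Ideal.ofList_singleton, Ideal.smul_eq_mul, Ideal.mul_top]
  have hM := LC.isCM_quot_ofList R hCMM hreg hmem
  intro z hz
  by_contra hzn
  let zb : R ⧸ T := Submodule.Quotient.mk z
  have hzb : zb ≠ 0 := fun h => hzn (hT ▸ (Submodule.Quotient.mk_eq_zero T).1 h)
  have hbz : b • zb = 0 := by
    show Submodule.Quotient.mk (b • z) = 0
    rw [Submodule.Quotient.mk_eq_zero, hT]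
    exact hz
  have hmemU : b ∈ {r : R | ∃ x : R ⧸ T, x ≠ 0 ∧ r • x = 0} := ⟨zb, hzb, hbz⟩
  rw [← biUnion_associatedPrimes_eq_zero_divisors] at hmemU
  obtain ⟨P, hP, hbP⟩ := Set.mem_iUnion₂.1 hmemU
  haveI := hP.isPrime
  obtain ⟨_, w, hw⟩ := Groth.Agent.Alg6.mem_ass_iff.1 hP
  have haP : a ∈ P := by
    refine (hw a).2 ?_
    obtain ⟨y, rfl⟩ := Submodule.Quotient.mk_surjective T w
    show Submodule.Quotient.mk (a • y) = 0
    rw [Submodule.Quotient.mk_eq_zero, hT]
    exact Ideal.mem_span_singleton'.2 ⟨y, by rw [smul_eq_mul, mul_comm]⟩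
  have hPm := hrad P inferInstance haP hbP
  have h1 := LC.coheight_eq_of_ass_of_isCM _ hM (p := ⟨P, inferInstance⟩) hP
  have hmax : IsMax (⟨P, inferInstance⟩ : PrimeSpectrum R) := fun Q hQ => by
    show Q.asIdeal ≤ P
    exact (IsLocalRing.le_maximalIdeal Q.isPrime.ne_top).trans hPm.ge
  rw [Order.coheight_eq_zero.2 hmax] at h1
  haveI : Nontrivial R := inferInstance
  have h2 := Module.supportDim_add_length_eq_supportDim_of_isRegular [a]
    (IsRegular.of_isWeaklyRegular_of_mem_maximalIdeal R hmem hreg)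
  rw [← h1, Module.supportDim_self_eq_ringKrullDim] at h2
  rw [← h2] at hdim
  norm_num at hdim

end Groth.Agent.SurfInt
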