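import Groth.Agent.SurfInt.Restrict
import Groth.Agent.SurfInt.InterAlg

/-!
# Intersection of two effective Cartier divisors as the length of their intersection

`χ(O) - χ(I) - χ(J) + χ(I ∩ J) = χ(O/(I+J))`, and `I ∩ J = I·J` when the two divisors meet properly.
-/

set_option linter.style.haveILetI false
set_option linter.unusedSectionVars false
set_option backward.isDefEq.respectTransparency false
set_option backward.isDefEq.respectTransparency.types false

universe u

open CategoryTheory CategoryTheory.Limits AlgebraicGeometry TopologicalSpace Opposite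

noncomputable section

namespace Groth.Agent.SurfInt

open Groth.Agent

variable {X : Scheme.{u}}

theorem app_toSubscheme_zero_of_mem (K : X.IdealSheafData) (U : X.Opens) (x : Γ(X, U))
    (h : ∀ (W : X.affineOpens) (hW : W.1 ≤ U), X.presheaf.map (homOfLE hW).op x ∈ K.ideal W) :
    K.subschemeι.app U x = 0 := by
  let Q := ClSub.quotMod K
  let z : Γ(Q, U) := K.subschemeι.app U x
  suffices z = 0 from this
  refine AModX.eq_of_locally z 0 fun p hp => ?_
  obtain ⟨W, hW, hpW, hWU⟩ := exists_isAffineOpen_mem_and_subset hp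
  refine ⟨W, hWU, hpW, ?_⟩
  rw [map_zero]
  refine (AModX.app_res (ClSub.toSubscheme K) hWU (show Γ(Coh.structureModule X, U) from x)).symm.trans ?_
  show K.subschemeι.app W (X.presheaf.map (homOfLE hWU).op x) = 0
  rw [← RingHom.mem_ker, K.ker_subschemeι_app ⟨W, hW⟩]
  exact h ⟨W, hW⟩ hWU

theorem idealSect_res_mem (I : X.IdealSheafData) {U : X.Opens} (W : X.affineOpens) (hW : W.1 ≤ U)
    (a : Γ(ClSub.idealMod I, U)) : X.presheaf.map (homOfLE hW).op (OmegaSh.idealSect I U a) ∈ I.ideal W := by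
  rw [← OmegaLib.idealSect_map I hW a]
  exact OmegaLib.idealSect_mem I W _

theorem idealModι_toSubscheme {I K : X.IdealSheafData} (h : I ≤ K) :
    ClSub.idealModι I ≫ ClSub.toSubscheme K = 0 := by
  apply Scheme.Modules.hom_ext
  intro U
  ext a
  exact app_toSubscheme_zero_of_mem K U (OmegaSh.idealSect I U a)
    fun W hW => h W (idealSect_res_mem I W hW a)

/-- The inclusion of ideals. -/
def inclMap {I K : X.IdealSheafData} (h : I ≤ K) : ClSub.idealMod I ⟶ ClSub.idealMod K :=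
  kernel.lift _ (ClSub.idealModι I) (idealModι_toSubscheme h)

theorem inclMap_ι {I K : X.IdealSheafData} (h : I ≤ K) :
    inclMap h ≫ ClSub.idealModι K = ClSub.idealModι I :=
  kernel.lift_ι _ _ _

theorem idealSect_inclMap {I K : X.IdealSheafData} (h : I ≤ K) (U : X.Opens) (a : Γ(ClSub.idealMod I, U)) :
    OmegaSh.idealSect K U ((inclMap h).app U a) = OmegaSh.idealSect I U a := by
  have := congrArg (fun φ : ClSub.idealMod I ⟶ Coh.structureModule X => φ.app U a) (inclMap_ι h)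
  exact this

instance {I K : X.IdealSheafData} (h : I ≤ K) : Mono (inclMap h) := by
  haveI : Mono (ClSub.idealModι I) := inferInstanceAs (Mono (kernel.ι _))
  exact mono_of_mono_fac (inclMap_ι h)

/-- A map out of `I + J` is determined by its restrictions to `I` and `J`. -/
theorem sup_hom_eq_zero {I J : X.IdealSheafData} {T : X.Modules} (φ : ClSub.idealMod (I ⊔ J) ⟶ T)
    (h₁ : inclMap (le_sup_left : I ≤ I ⊔ J) ≫ φ = 0) (h₂ : inclMap (le_sup_right : J ≤ I ⊔ J) ≫ φ = 0) :
    φ = 0 := by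
  apply Scheme.Modules.hom_ext
  intro U
  ext z
  show φ.app U z = 0
  refine AModX.eq_of_locally _ 0 fun p hp => ?_
  obtain ⟨W, hW, hpW, hWU⟩ := exists_isAffineOpen_mem_and_subset hp
  refine ⟨W, hWU, hpW, ?_⟩
  rw [map_zero, ← AModX.app_res φ hWU z]
  have hmem : OmegaSh.idealSect (I ⊔ J) W (AModX.res _ hWU z) ∈ I.ideal ⟨W, hW⟩ ⊔ J.ideal ⟨W, hW⟩ :=
    OmegaLib.idealSect_mem (I ⊔ J) ⟨W, hW⟩ _
  obtain ⟨a, ha, b, hb, hab⟩ := Submodule.mem_sup.1 hmem
  obtain ⟨a', rfl⟩ := OmegaLib.exists_of_mem I ⟨W, hW⟩ a ha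
  obtain ⟨b', rfl⟩ := OmegaLib.exists_of_mem J ⟨W, hW⟩ b hb
  have hz : AModX.res _ hWU z = (inclMap (le_sup_left : I ≤ I ⊔ J)).app W a' +
      (inclMap (le_sup_right : J ≤ I ⊔ J)).app W b' :=
    OmegaLib.idealSect_injective _ W (by rw [map_add, idealSect_inclMap, idealSect_inclMap]; exact hab.symm)
  have e₁ := congrArg (fun ψ : ClSub.idealMod I ⟶ T => ψ.app W a') h₁
  have e₂ := congrArg (fun ψ : ClSub.idealMod J ⟶ T => ψ.app W b') h₂
  rw [hz, map_add]
  refine (congrArg₂ (· + ·) e₁ e₂).trans ?_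
  exact add_zero 0

/-- `I ∩ J` is the fibre product of `I` and `J` over `O`. -/
theorem inf_lift_zero {I J : X.IdealSheafData} {T : X.Modules} (g₁ : T ⟶ ClSub.idealMod I)
    (g₂ : T ⟶ ClSub.idealMod J) (hg : g₁ ≫ ClSub.idealModι I = g₂ ≫ ClSub.idealModι J) :
    g₁ ≫ ClSub.idealModι I ≫ ClSub.toSubscheme (I ⊓ J) = 0 := by
  apply Scheme.Modules.hom_ext
  intro U
  ext t
  refine app_toSubscheme_zero_of_mem (I ⊓ J) U (OmegaSh.idealSect I U (g₁.app U t)) fun W hW => ⟨?_, ?_⟩
  · exact idealSect_res_mem I W hW _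
  · have h : OmegaSh.idealSect I U (g₁.app U t) = OmegaSh.idealSect J U (g₂.app U t) :=
      congrArg (fun ψ : T ⟶ Coh.structureModule X => ψ.app U t) hg
    rw [h]
    exact idealSect_res_mem J W hW _

variable (I J : X.IdealSheafData)

/-- `J → I + J → M`. -/
def supSeq : ShortComplex X.Modules :=
  ShortComplex.mk (inclMap (le_sup_right : J ≤ I ⊔ J)) (cokernel.π _) (cokernel.condition _)

theorem supSeq_shortExact : (supSeq I J).ShortExact where
  exact := ShortComplex.exact_of_g_is_cokernel _ (cokernelIsCokernel (inclMap (le_sup_right : J ≤ I ⊔ J)))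
  mono_f := inferInstanceAs (Mono (inclMap (le_sup_right : J ≤ I ⊔ J)))
  epi_g := inferInstanceAs (Epi (cokernel.π _))

theorem infSeq_zero : inclMap (inf_le_left : I ⊓ J ≤ I) ≫
    (inclMap (le_sup_left : I ≤ I ⊔ J) ≫ (supSeq I J).g) = 0 := by
  have h : inclMap (inf_le_left : I ⊓ J ≤ I) ≫ inclMap (le_sup_left : I ≤ I ⊔ J) =
      inclMap (inf_le_right : I ⊓ J ≤ J) ≫ (supSeq I J).f := by
    haveI : Mono (ClSub.idealModι (I ⊔ J)) := inferInstanceAs (Mono (kernel.ι _))
    rw [← cancel_mono (ClSub.idealModι (I ⊔ J))]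
    show (_ ≫ _) ≫ _ = (_ ≫ inclMap (le_sup_right : J ≤ I ⊔ J)) ≫ _
    rw [Category.assoc, Category.assoc, inclMap_ι, inclMap_ι, inclMap_ι, inclMap_ι]
  rw [reassoc_of% h, ShortComplex.zero, comp_zero]

/-- `I ∩ J → I → M`. -/
def infSeq : ShortComplex X.Modules :=
  ShortComplex.mk (inclMap (inf_le_left : I ⊓ J ≤ I)) (inclMap (le_sup_left : I ≤ I ⊔ J) ≫ (supSeq I J).g)
    (infSeq_zero I J)

theorem infSeq_shortExact : (infSeq I J).ShortExact := by
  haveI hm : Mono (infSeq I J).f := inferInstanceAs (Mono (inclMap (inf_le_left : I ⊓ J ≤ I)))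
  haveI he : Epi (infSeq I J).g := by
    refine Preadditive.epi_of_cancel_zero _ fun h hh => ?_
    haveI := (supSeq_shortExact I J).epi_g
    rw [← cancel_epi (supSeq I J).g, comp_zero]
    refine sup_hom_eq_zero _ ?_ ?_
    · exact (Category.assoc _ _ _).symm.trans hh
    · exact (supSeq I J).zero_assoc h |>.trans zero_comp
  haveI hmI : Mono (ClSub.idealModι I) := inferInstanceAs (Mono (kernel.ι _))
  refine ⟨ShortComplex.exact_of_f_is_kernel _ (KernelFork.IsLimit.ofι' _ _ fun {T} g hg => ?_)⟩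
  let lim := (supSeq_shortExact I J).fIsKernel
  let g₂ : T ⟶ ClSub.idealMod J :=
    lim.lift (KernelFork.ofι (g ≫ inclMap (le_sup_left : I ≤ I ⊔ J)) ((Category.assoc _ _ _).trans hg))
  have hg₂ : g₂ ≫ inclMap (le_sup_right : J ≤ I ⊔ J) = g ≫ inclMap (le_sup_left : I ≤ I ⊔ J) :=
    lim.fac _ WalkingParallelPair.zero
  have he : g ≫ ClSub.idealModι I = g₂ ≫ ClSub.idealModι J := by
    rw [← inclMap_ι (le_sup_left : I ≤ I ⊔ J), ← inclMap_ι (le_sup_right : J ≤ I ⊔ J), reassoc_of% hg₂]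
  have hl : (g ≫ ClSub.idealModι I) ≫ ClSub.toSubscheme (I ⊓ J) = 0 :=
    (Category.assoc _ _ _).trans (inf_lift_zero g g₂ he)
  refine ⟨kernel.lift _ _ hl, ?_⟩
  rw [← cancel_mono (ClSub.idealModι I)]
  show (kernel.lift _ _ hl ≫ inclMap (inf_le_left : I ⊓ J ≤ I)) ≫ _ = _
  rw [Category.assoc, inclMap_ι]
  exact kernel.lift_ι _ _ _

variable (k : Type u) [Field k] [X.Over (Spec (CommRingCat.of k))] [IsProper (X ↘ Spec (CommRingCat.of k))]

/-- `χ(O) - χ(I) - χ(J) + χ(I ∩ J) = χ(O/(I+J))`. -/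
theorem euler_inf :
    Curv2.euler k X (Coh.structureModule X) - Curv2.euler k X (ClSub.idealMod I)
      - Curv2.euler k X (ClSub.idealMod J) + Curv2.euler k X (ClSub.idealMod (I ⊓ J)) =
      Curv2.euler k X (ClSub.quotMod (I ⊔ J)) := by
  haveI := CurveCohLib.isNoetherian_of_proper (k := k) (X := X)
  have hM : Coh.IsCoh (supSeq I J).X₃ :=
    QCoh.isCoh_cokernel (isCoh_idealMod J).1 (isCoh_idealMod (I ⊔ J)) (supSeq I J).f
  have h1 := CurveCohLib.euler_additive (k := k) (supSeq_shortExact I J)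
    (isCoh_idealMod J) (isCoh_idealMod (I ⊔ J)) hM
  have h2 := CurveCohLib.euler_additive (k := k) (infSeq_shortExact I J)
    (isCoh_idealMod (I ⊓ J)) (isCoh_idealMod I) hM
  have h3 := euler_ideal k (I ⊔ J)
  dsimp only [supSeq, infSeq] at h1 h2
  linarith

theorem support_quotMod_subset' (K : X.IdealSheafData) :
    CohB1.support (ClSub.quotMod K) ⊆ (K.support : Set X) := fun x hx => by
  by_contra h
  exact hx (ParShLib.subsingleton_stalk_quotMod K h)

/-- Two divisors with `I ∩ J = I·J` and finite intersection. -/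
theorem pair_eq_h0_of_inf_eq_mul (hI : BlowUp.IsEffCartierIdeal I) (hJ : BlowUp.IsEffCartierIdeal J)
    (heq : I ⊓ J = I * J) (hcl : ∀ x ∈ ((I ⊔ J).support : Set X), IsClosed ({x} : Set X)) :
    pair k (ClSub.idealMod I) (ClSub.idealMod J) =
      (Module.finrank k (Coh.HH X (ClSub.quotMod (I ⊔ J)) 0) : ℤ) := by
  haveI := CurveCohLib.isNoetherian_of_proper (k := k) (X := X)
  obtain ⟨e⟩ := nonempty_idealMod_mul hI hJ
  have h := euler_inf I J k
  rw [CurveCohLib.euler_eq_finrank_zero (k := k) (ParShLib.isCoh_quotMod _)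
    (fun x hx => hcl x (support_quotMod_subset' _ hx))] at h
  rw [heq, euler_congr k e] at h
  unfold pair
  linarith

end Groth.Agent.SurfInt
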