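import Groth.Agent.SurfInt.H2Bound
import Groth.Agent.SurfInt.SecMono

/-!
# Divisors of positive square and the Hodge index theorem

If `(L·L) > 0` then `(L·A) ≠ 0` for every ample `A`, and `h⁰` of the multiples of `L` or of its inverse
grows quadratically. The index theorem follows formally.
-/

set_option linter.style.haveILetI false
set_option linter.unusedSectionVars false
set_option backward.isDefEq.respectTransparency false

universe u

open CategoryTheory CategoryTheory.Limits AlgebraicGeometry TopologicalSpace Opposite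

noncomputable section

namespace Groth.Agent.SurfInt

open Groth.Agent
open Groth.Agent.H23.PicMul

variable {X : Scheme.{u}} (k : Type u) [Field k] [X.Over (Spec (CommRingCat.of k))]
  [IsProper (X ↘ Spec (CommRingCat.of k))] [IsIntegral X]

include k in
/-- A nonzero endomorphism of the structure module is an isomorphism. -/
theorem isIso_end_structure (e : Coh.structureModule X ⟶ Coh.structureModule X) [Mono e] : IsIso e := by
  have hO : PicF.IsInvertible (Coh.structureModule X) := InvX.isInvertible_structureModule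
  have hr := InvEnd.isFinLocFreeOfRank_one hO
  haveI : Nontrivial (End (Coh.structureModule X)) := ⟨⟨𝟙 _, 0, fun h =>
    CurveEnd.not_isZero _ 1 one_pos hr ((IsZero.iff_id_eq_zero _).mpr h)⟩⟩
  haveI : NoZeroDivisors (End (Coh.structureModule X)) := ⟨fun {f g} h => by
    by_cases hf : f = 0
    · exact Or.inl hf
    right
    haveI := InvEnd.mono_of_ne_zero hO hO f hf
    apply (cancel_mono (f : Coh.structureModule X ⟶ Coh.structureModule X)).mp
    rw [Limits.zero_comp]
    exact h⟩
  haveI : IsDomain (End (Coh.structureModule X)) := NoZeroDivisors.to_isDomain _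
  let e' : End (Coh.structureModule X) := e
  have he : e' ≠ 0 := fun h => one_ne_zero (α := End (Coh.structureModule X)) (by
    apply (cancel_mono e).mp
    have h0 : e = 0 := h
    rw [h0]; simp only [Limits.comp_zero])
  let s := X ↘ Spec (CommRingCat.of k)
  let ψ : k →+* Γ(X, ⊤) := s.appTop.hom.comp (Scheme.ΓSpecIso (CommRingCat.of k)).inv.hom
  letI : Algebra k Γ(X, ⊤) := ψ.toAlgebra
  haveI : Module.Finite k Γ(X, ⊤) :=
    (finite_appTop_of_universallyClosed (K := k) s).comp
      (RingHom.Finite.of_surjective _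
        (ConcreteCategory.bijective_of_isIso (Scheme.ΓSpecIso (CommRingCat.of k)).inv).2)
  letI : Field Γ(X, ⊤) := (isField_of_isIntegral_of_isField' (Field.toIsField k)).toField
  obtain ⟨p, hp, hpe⟩ := CurveEnd.exists_monic_aeval_eq_zero (X := X) _ 1 hr e'
  letI : Algebra Γ(X, ⊤) (End (Coh.structureModule X)) :=
    (CurveEnd.scalar (Coh.structureModule X)).toAlgebra' fun c f => CurveEnd.scalar_commute _ c f
  rcases CurveEnd.isUnit_or_isNilpotent (k := Γ(X, ⊤)) (fun f hf => by
    have h0 : f * (f - 1) = 0 := by rw [mul_sub, mul_one, hf, sub_self]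
    rcases mul_eq_zero.1 h0 with h | h
    · exact Or.inl h
    · exact Or.inr (sub_eq_zero.1 h)) e' p hp.ne_zero hpe with h | h
  · exact (isUnit_iff_isIso _).1 h
  · exact absurd (IsNilpotent.eq_zero h) he

include k in
/-- An invertible module with sections whose inverse has sections is trivial. -/
theorem nonempty_iso_structure_of_sections {A A' : X.Modules} (hA : PicF.IsInvertible A)
    (hA' : PicF.IsInvertible A') (h : PicF.cl A * PicF.cl A' = 1) [Nontrivial (Coh.HH X A 0)]
    [Nontrivial (Coh.HH X A' 0)] : Nonempty (A ≅ Coh.structureModule X) := by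
  obtain ⟨t, ht⟩ := exists_mono_of_nontrivial_H0 hA
  obtain ⟨φ, hφ⟩ := exists_mono_to_structure hA hA' h
  haveI := ht
  haveI := hφ
  haveI := isIso_end_structure k (t ≫ φ)
  haveI : IsSplitEpi φ := IsSplitEpi.mk' ⟨inv (t ≫ φ) ≫ t, by rw [Category.assoc, IsIso.inv_hom_id]⟩
  haveI := isIso_of_mono_of_isSplitEpi φ
  exact ⟨asIso φ⟩

theorem cl_mul_of_iso {A B : X.Modules} (e : CohB1.tensorMod A B ≅ Coh.structureModule X) :
    PicF.cl A * PicF.cl B = 1 := by
  rw [← cl_tensor, H23.PicMul.one_def]; exact cl_eq_iff.2 ⟨e⟩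

variable (hdim : topologicalKrullDim X ≤ (2 : ℕ))

include hdim in
/-- Quadratic growth of sections. -/
theorem exists_quadratic_growth {A L : X.Modules} (hA : CohB1.IsAmple A) (hL : PicF.IsInvertible L)
    (hLA : 0 < pair k L A) (hLL : 0 < pair k L L) :
    ∃ N : ℕ, ∀ n : ℕ, N ≤ n →
      pair k L L * n * n < 4 * (Module.finrank k (Coh.HH X (CohB1.tensorPow L n) 0) : ℤ) := by
  haveI := CurveCohLib.isNoetherian_of_proper (k := k) (X := X)
  obtain ⟨n₀, hn₀⟩ := exists_bound_h2_vanish k hdim hA
  let c : ℤ := Curv2.euler k X L - Curv2.euler k X (Coh.structureModule X)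
  let o : ℤ := Curv2.euler k X (Coh.structureModule X)
  let P := pair k L L
  refine ⟨(|n₀| + 4 * |o| + 4 * |c| + 2 * P + 1).toNat, fun n hn => ?_⟩
  have hn' : |n₀| + 4 * |o| + 4 * |c| + 2 * P + 1 ≤ (n : ℤ) := by
    have := Int.self_le_toNat (|n₀| + 4 * |o| + 4 * |c| + 2 * P + 1)
    have h2 : ((|n₀| + 4 * |o| + 4 * |c| + 2 * P + 1).toNat : ℤ) ≤ n := by exact_mod_cast hn
    linarith
  have ha := abs_nonneg n₀
  have hb := abs_nonneg o
  have hc := abs_nonneg c
  have hP : 1 ≤ P := hLL
  have hLn := InvX.isInvertible_tensorPow hL n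
  haveI : Subsingleton (Coh.HH X (CohB1.tensorPow L n) 2) := by
    refine hn₀ _ hLn ?_
    rw [pair_tensorPow_left k hdim hL hA.1]
    have h1 : (n : ℤ) * 1 ≤ (n : ℤ) * pair k L A := mul_le_mul_of_nonneg_left hLA (Int.natCast_nonneg n)
    have := le_abs_self n₀
    linarith
  have hχ : Curv2.euler k X (CohB1.tensorPow L n) ≤
      (Module.finrank k (Coh.HH X (CohB1.tensorPow L n) 0) : ℤ) := by
    rw [← eulerCharLE_two k hdim (AmpleVan.isCoh_invertible hLn).1]
    unfold FGA.eulerCharLE
    simp only [Finset.sum_range_succ, Finset.sum_range_zero,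
      Module.finrank_zero_of_subsingleton (M := Coh.HH X (CohB1.tensorPow L n) 2)]
    ring_nf
    omega
  have h2 := two_mul_euler_tensorPow k hdim hL n
  have hn1 : (1 : ℤ) ≤ n := by linarith
  have hkey : P * n * n < 2 * (2 * o + 2 * n * c + n * (n - 1) * P) := by
    have hpos : (n : ℤ) ≤ P * n := le_mul_of_one_le_left (by linarith) hP
    have e1 : -(4 * |o|) ≤ 4 * o := by linarith [neg_abs_le o]
    have e2 : (n : ℤ) * (-(4 * |c|)) ≤ n * (4 * c) :=
      mul_le_mul_of_nonneg_left (by linarith [neg_abs_le c]) (by linarith)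
    have e3 : (n : ℤ) * (4 * |o| + 4 * |c| + 2 * P + 1) ≤ n * (P * n) :=
      mul_le_mul_of_nonneg_left (by linarith) (by linarith)
    have e4 : 1 * (4 * |o|) ≤ (n : ℤ) * (4 * |o|) := mul_le_mul_of_nonneg_right hn1 (by positivity)
    nlinarith
  show P * n * n < _
  linarith

include hdim in
/-- Sections of multiples exist. -/
theorem exists_nontrivial_h0 {A L : X.Modules} (hA : CohB1.IsAmple A) (hL : PicF.IsInvertible L)
    (hLA : 0 < pair k L A) (hLL : 0 < pair k L L) :
    ∃ N : ℕ, ∀ n : ℕ, N ≤ n → Nontrivial (Coh.HH X (CohB1.tensorPow L n) 0) := by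
  obtain ⟨N, hN⟩ := exists_quadratic_growth k hdim hA hL hLA hLL
  refine ⟨N, fun n hn => Module.nontrivial_of_finrank_pos (R := k) ?_⟩
  have h := hN n hn
  have : 0 ≤ pair k L L * n * n := by positivity
  omega

include hdim in
/-- A class of positive square has degrees of one sign against ample modules. -/
theorem false_of_opposite_signs {A B L L' : X.Modules} (hA : CohB1.IsAmple A) (hB : CohB1.IsAmple B)
    (hL : PicF.IsInvertible L) (hL' : PicF.IsInvertible L')
    (e : CohB1.tensorMod L L' ≅ Coh.structureModule X) (hLL : 0 < pair k L L)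
    (hLA : 0 < pair k L A) (hLB : 0 < pair k L' B) : False := by
  haveI := CurveCohLib.isNoetherian_of_proper (k := k) (X := X)
  have hL'L' : pair k L' L' = pair k L L := pair_inverse_both k hdim hL hL' hL hL' e e
  obtain ⟨N, hN⟩ := exists_nontrivial_h0 k hdim hA hL hLA hLL
  obtain ⟨N', hN'⟩ := exists_nontrivial_h0 k hdim hB hL' hLB (hL'L'.symm ▸ hLL)
  let n := N + N' + 1
  haveI := hN n (by omega)
  haveI := hN' n (by omega)
  obtain ⟨i⟩ := nonempty_iso_structure_of_sections k (InvX.isInvertible_tensorPow hL n)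
    (InvX.isInvertible_tensorPow hL' n)
    (by rw [cl_tensorPow, cl_tensorPow, ← mul_pow, cl_mul_of_iso e, one_pow])
  have h := pair_tensorPow_tensorPow k hdim hL hL n n
  rw [pair_congr k i i, pair_O_left] at h
  have : (0 : ℤ) < (n : ℤ) * n * pair k L L := by positivity
  linarith

include hdim in
/-- A class of positive square is not orthogonal to an ample class. -/
theorem pair_ample_ne_zero {H L : X.Modules} (hH : CohB1.IsAmple H) (hL : PicF.IsInvertible L)
    (hLL : 0 < pair k L L) : pair k L H ≠ 0 := fun h0 => by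
  haveI := CurveCohLib.isNoetherian_of_proper (k := k) (X := X)
  haveI : X.IsSeparated := isSeparated_of_proper k (X := X)
  obtain ⟨L', hL', ⟨e⟩⟩ := H23.PicInv.exists_inverse hL
  obtain ⟨n, -, hn⟩ := AmpleX.eventually_ample_tensor hH hL
  obtain ⟨n', -, hn'⟩ := AmpleX.eventually_ample_tensor hH hL'
  have hP := InvX.isInvertible_tensorPow hH.1 (n + n')
  refine false_of_opposite_signs k hdim (hn (n + n') (by omega)).1 (hn' (n + n') (by omega)).1 hL hL' e hLL ?_ ?_
  · rw [pair_tensor_right k hdim hL hP hL, pair_comm, pair_tensorPow_left k hdim hH.1 hL,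
      pair_comm k H L, h0]
    linarith
  · rw [pair_tensor_right k hdim hL' hP hL', pair_comm, pair_tensorPow_left k hdim hH.1 hL',
      pair_comm k H L', pair_inverse_left k hdim hL hL' hH.1 e, h0,
      pair_inverse_both k hdim hL hL' hL hL' e e]
    linarith

include hdim in
/-- **The Hodge index theorem.** -/
theorem hodge_index {H L M : X.Modules} (hH : CohB1.IsAmple H) (hL : PicF.IsInvertible L)
    (hM : PicF.IsInvertible M) (hLL : 0 < pair k L L) (hLM : pair k L M = 0) : pair k M M ≤ 0 := by
  haveI := CurveCohLib.isNoetherian_of_proper (k := k) (X := X)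
  obtain ⟨L', hL', ⟨eL⟩⟩ := H23.PicInv.exists_inverse hL
  obtain ⟨M', hM', ⟨eM⟩⟩ := H23.PicInv.exists_inverse hM
  -- orient both classes positively
  suffices key : ∀ A B B' : X.Modules, PicF.IsInvertible A → PicF.IsInvertible B → PicF.IsInvertible B' →
      (CohB1.tensorMod B B' ≅ Coh.structureModule X) → 0 < pair k A A → pair k A B = 0 →
      0 < pair k A H → 0 < pair k B H → pair k B B ≤ 0 by
    by_contra hMM
    have hMM' : 0 < pair k M M := not_le.1 hMM
    have hM'M' : pair k M' M' = pair k M M := pair_inverse_both k hdim hM hM' hM hM' eM eM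
    have hL'L' : pair k L' L' = pair k L L := pair_inverse_both k hdim hL hL' hL hL' eL eL
    have eM' : CohB1.tensorMod M' M ≅ Coh.structureModule X := tComm M' M ≪≫ eM
    rcases lt_or_gt_of_ne (pair_ample_ne_zero k hdim hH hL hLL) with hl | hl <;>
      rcases lt_or_gt_of_ne (pair_ample_ne_zero k hdim hH hM hMM') with hm | hm
    · exact absurd (key L' M' M hL' hM' hM eM' (hL'L'.symm ▸ hLL)
        (by rw [pair_inverse_both k hdim hL hL' hM hM' eL eM, hLM])
        (by rw [pair_inverse_left k hdim hL hL' hH.1 eL]; linarith)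
        (by rw [pair_inverse_left k hdim hM hM' hH.1 eM]; linarith)) (by linarith)
    · exact absurd (key L' M M' hL' hM hM' eM (hL'L'.symm ▸ hLL)
        (by rw [pair_inverse_left k hdim hL hL' hM eL, hLM, neg_zero])
        (by rw [pair_inverse_left k hdim hL hL' hH.1 eL]; linarith) hm) (by linarith)
    · exact absurd (key L M' M hL hM' hM eM' hLL
        (by rw [pair_comm, pair_inverse_left k hdim hM hM' hL eM, pair_comm, hLM, neg_zero])
        hl (by rw [pair_inverse_left k hdim hM hM' hH.1 eM]; linarith)) (by linarith)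
    · exact absurd (key L M M' hL hM hM' eM hLL hLM hl hm) (by linarith)
  intro A B B' hA hB hB' eB hAA hAB ha hb
  by_contra hBB
  obtain ⟨a, ha'⟩ := Int.eq_ofNat_of_zero_le ha.le
  obtain ⟨b, hb'⟩ := Int.eq_ofNat_of_zero_le hb.le
  have hAb := InvX.isInvertible_tensorPow hA b
  have hBa := InvX.isInvertible_tensorPow hB' a
  have hN := InvX.isInvertible_tensorMod hAb hBa
  have hAB' : pair k A B' = 0 := by
    rw [pair_comm, pair_inverse_left k hdim hB hB' hA eB, pair_comm, hAB, neg_zero]
  have hB'B' : pair k B' B' = pair k B B := pair_inverse_both k hdim hB hB' hB hB' eB eB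
  have hNH : pair k (CohB1.tensorMod (CohB1.tensorPow A b) (CohB1.tensorPow B' a)) H = 0 := by
    rw [pair_tensor_left k hdim hAb hBa hH.1, pair_tensorPow_left k hdim hA hH.1,
      pair_tensorPow_left k hdim hB' hH.1, pair_inverse_left k hdim hB hB' hH.1 eB, ha', hb']
    ring
  refine pair_ample_ne_zero k hdim hH hN ?_ hNH
  rw [pair_tensor_left k hdim hAb hBa hN, pair_tensor_right k hdim hAb hAb hBa,
    pair_tensor_right k hdim hBa hAb hBa, pair_tensorPow_tensorPow k hdim hA hA,
    pair_tensorPow_tensorPow k hdim hA hB', pair_tensorPow_tensorPow k hdim hB' hA,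
    pair_tensorPow_tensorPow k hdim hB' hB', pair_comm k B' A, hAB', hB'B']
  have hbpos : (0 : ℤ) < b := hb' ▸ hb
  have hapos : (0 : ℤ) < a := ha' ▸ ha
  have hBB' : 0 < pair k B B := not_le.1 hBB
  positivity

include hdim in
/-- The index inequality `(L·L)(M·M) ≤ (L·M)²`. -/
theorem hodge_ineq {H L M : X.Modules} (hH : CohB1.IsAmple H) (hL : PicF.IsInvertible L)
    (hM : PicF.IsInvertible M) (hLL : 0 < pair k L L) : pair k L L * pair k M M ≤ pair k L M ^ 2 := by
  haveI := CurveCohLib.isNoetherian_of_proper (k := k) (X := X)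
  obtain ⟨M', hM', ⟨eM⟩⟩ := H23.PicInv.exists_inverse hM
  suffices key : ∀ B : X.Modules, PicF.IsInvertible B → pair k L B ≤ 0 →
      pair k L L * pair k B B ≤ pair k L B ^ 2 by
    rcases le_total (pair k L M) 0 with h | h
    · exact key M hM h
    · have h' : pair k L M' = - pair k L M := by
        rw [pair_comm, pair_inverse_left k hdim hM hM' hL eM, pair_comm]
      have := key M' hM' (by linarith)
      rwa [pair_inverse_both k hdim hM hM' hM hM' eM eM, h', neg_sq] at this
  intro B hB hLB
  obtain ⟨p, hp⟩ := Int.eq_ofNat_of_zero_le hLL.le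
  obtain ⟨m, hm⟩ := Int.eq_ofNat_of_zero_le (neg_nonneg.2 hLB)
  have hBp := InvX.isInvertible_tensorPow hB p
  have hLm := InvX.isInvertible_tensorPow hL m
  have hm' : pair k L B = -(m : ℤ) := by linarith
  have hN := InvX.isInvertible_tensorMod hBp hLm
  have h0 : pair k L (CohB1.tensorMod (CohB1.tensorPow B p) (CohB1.tensorPow L m)) = 0 := by
    rw [pair_tensor_right k hdim hL hBp hLm, pair_comm, pair_tensorPow_left k hdim hB hL,
      pair_comm k B L, pair_comm k L (CohB1.tensorPow L m), pair_tensorPow_left k hdim hL hL, hm', hp]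
    ring
  have h := hodge_index k hdim hH hL hN hLL h0
  rw [pair_tensor_left k hdim hBp hLm hN, pair_tensor_right k hdim hBp hBp hLm,
    pair_tensor_right k hdim hLm hBp hLm, pair_tensorPow_tensorPow k hdim hB hB,
    pair_tensorPow_tensorPow k hdim hB hL, pair_tensorPow_tensorPow k hdim hL hB,
    pair_tensorPow_tensorPow k hdim hL hL, pair_comm k B L, hm', hp] at h
  have hppos : (0 : ℤ) < p := hp ▸ hLL
  rw [hm', hp]
  nlinarith

end Groth.Agent.SurfInt
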