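import Groth.Agent.SurfInt.Degrees
import Groth.Agent.SurfInt.Hodge

/-!
# Orthogonal effective divisors

An effective divisor orthogonal to a class of positive square has negative square.
-/

set_option linter.style.haveILetI false
set_option linter.unusedSectionVars false
set_option backward.isDefEq.respectTransparency false
set_option backward.isDefEq.respectTransparency.types false

universe u

open CategoryTheory CategoryTheory.Limits AlgebraicGeometry TopologicalSpace Opposite

noncomputable section

namespace Groth.Agent.SurfInt

open Groth.Agent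

variable {X : Scheme.{u}} (k : Type u) [Field k] [X.Over (Spec (CommRingCat.of k))]
  [IsProper (X ↘ Spec (CommRingCat.of k))] [IsIntegral X]

/-- Two classes with negative degree against an ample class, orthogonal, cannot have positive and zero
square. -/
theorem false_of_isotropic (hdim : topologicalKrullDim X ≤ (2 : ℕ)) {H A B : X.Modules}
    (hH : CohB1.IsAmple H) (hA : PicF.IsInvertible A) (hB : PicF.IsInvertible B)
    (hAA : 0 < pair k A A) (hAB : pair k A B = 0) (hBB : pair k B B = 0)
    (hAH : pair k A H < 0) (hBH : pair k B H < 0) : False := by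
  haveI := CurveCohLib.isNoetherian_of_proper (k := k) (X := X)
  obtain ⟨B', hB', ⟨e⟩⟩ := H23.PicInv.exists_inverse hB
  obtain ⟨p, hp⟩ := Int.eq_ofNat_of_zero_le (neg_nonneg.2 hAH.le)
  obtain ⟨x, hx⟩ := Int.eq_ofNat_of_zero_le hAA.le
  have hHx := InvX.isInvertible_tensorPow hH.1 x
  have hAp := InvX.isInvertible_tensorPow hA p
  have hM := InvX.isInvertible_tensorMod hHx hAp
  let M := CohB1.tensorMod (CohB1.tensorPow H x) (CohB1.tensorPow A p)
  have hAM : pair k A M = 0 := by
    rw [pair_tensor_right k hdim hA hHx hAp, pair_comm, pair_tensorPow_left k hdim hH.1 hA,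
      pair_comm k A (CohB1.tensorPow A p), pair_tensorPow_left k hdim hA hA, pair_comm k H A, hx,
      show pair k A H = -(p : ℤ) by linarith]
    ring
  have hBM : pair k B M = (x : ℤ) * pair k B H := by
    rw [pair_tensor_right k hdim hB hHx hAp, pair_comm, pair_tensorPow_left k hdim hH.1 hB,
      pair_comm k B (CohB1.tensorPow A p), pair_tensorPow_left k hdim hA hB, pair_comm k H B, hAB]
    ring
  let m := (pair k M M).natAbs + 1
  have hBm := InvX.isInvertible_tensorPow hB' m
  have hN := InvX.isInvertible_tensorMod hBm hM
  have hAB' : pair k A B' = 0 := by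
    rw [pair_comm, pair_inverse_left k hdim hB hB' hA e, pair_comm, hAB, neg_zero]
  have hAN : pair k A (CohB1.tensorMod (CohB1.tensorPow B' m) M) = 0 := by
    rw [pair_tensor_right k hdim hA hBm hM, pair_comm, pair_tensorPow_left k hdim hB' hA,
      pair_comm k B' A, hAB', hAM]
    ring
  have h := hodge_index k hdim hH hA hN hAA hAN
  rw [pair_tensor_left k hdim hBm hM hN, pair_tensor_right k hdim hBm hBm hM,
    pair_tensor_right k hdim hM hBm hM, pair_tensorPow_tensorPow k hdim hB' hB',
    pair_inverse_both k hdim hB hB' hB hB' e e, hBB, pair_comm k M (CohB1.tensorPow B' m),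
    pair_tensorPow_left k hdim hB' hM, pair_inverse_left k hdim hB hB' hM e, hBM] at h
  have hx1 : (1 : ℤ) ≤ x := by omega
  have hm : (m : ℤ) = |pair k M M| + 1 := by simp [m, Int.natCast_natAbs]
  have h1 : (x : ℤ) * pair k B H ≤ -1 := by nlinarith
  have h2 : (m : ℤ) * -((x : ℤ) * pair k B H) ≥ m := by nlinarith
  have h3 := neg_abs_le (pair k M M)
  have h4 := abs_nonneg (pair k M M)
  linarith

end Groth.Agent.SurfInt
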