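import Groth.Agent.SurfInt.Ample
import Groth.Agent.SurfInt.Connected
import Groth.Agent.ZeroSchX.Basic

/-!
# Ample divisors supported on the boundary of an affine open

The boundary divisor of an affine open of a regular proper surface can be changed to be positive on all
boundary curves: by the index theorem positivity spreads along the boundary (Goodman).
-/

set_option linter.style.haveILetI false
set_option linter.unusedSectionVars false
set_option backward.isDefEq.respectTransparency false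
set_option backward.isDefEq.respectTransparency.types false

universe u

open CategoryTheory CategoryTheory.Limits AlgebraicGeometry TopologicalSpace Opposite

noncomputable section

namespace Groth.Agent.SurfInt

open Groth.Agent Groth.Agent.InvX

variable {X : Scheme.{u}}

/-- A section generating everywhere is an isomorphism. -/
theorem isIso_of_genLocus_eq_top {M : X.Modules} {s : Coh.structureModule X ⟶ M}
    (h : CohB1.genLocus M s = ⊤) : IsIso s := by
  refine Scheme.Modules.Hom.isIso_iff_isIso_app.2 fun W => (ConcreteCategory.isIso_iff_bijective _).2 ?_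
  have hf := AmpleX.isFrame_res_of_le (one s) (h.ge.trans (AmpleX.genLocus_eq_locus s).le) W le_top
  simp only [AModX.res_res] at hf
  have key : (s.app W : _ → _) = fun r : Γ(X, W) => r • AModX.res M (le_top : W ≤ ⊤) (one s) :=
    funext fun r => app_eq_smul s r
  rw [key]
  exact hf

variable [IsIntegral X]

/-- The divisor of a section. -/
theorem exists_effCartier_of_section {L : X.Modules} (hL : PicF.IsInvertible L)
    (s : Coh.structureModule X ⟶ L) (hgen : genericPoint X ∈ CohB1.genLocus L s) :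
    ∃ I : X.IdealSheafData, BlowUp.IsEffCartierIdeal I ∧
      (I.support : Set X) = (CohB1.genLocus L s : Set X)ᶜ ∧
      Nonempty (CohB1.tensorMod L (ClSub.idealMod I) ≅ Coh.structureModule X) := by
  let I := PicF2.zeroScheme L s
  have hspan : ∀ (W : X.affineOpens) (e : Γ(L, W.1)), IsFrame e → ∀ g : Γ(X, W.1),
      AModX.res L (le_top : W.1 ≤ ⊤) (one s) = g • e → I.ideal W = Ideal.span {g} := fun W e he g hg => by
    rw [ZeroSchX.ideal_zeroScheme hL s W]
    refine ZeroSchX.zeroIdealOn_eq_span s he ?_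
    rw [← hg]
    exact (app_eq_smul s (1 : Γ(X, W.1))).trans (one_smul _ _)
  have hchart : ∀ x : X, ∃ (W : X.affineOpens) (e : Γ(L, W.1)) (g : Γ(X, W.1)), x ∈ W.1 ∧ IsFrame e ∧
      AModX.res L (le_top : W.1 ≤ ⊤) (one s) = g • e ∧ g ∈ nonZeroDivisors Γ(X, W.1) := fun x => by
    obtain ⟨U, hxU, e, he⟩ := InvX.exists_frame hL x
    obtain ⟨W, hW, hxW, hWU⟩ := exists_isAffineOpen_mem_and_subset hxU
    have heW := he.res (show W ≤ U from hWU)
    obtain ⟨g, hg⟩ := heW.exists_coord le_rfl (AModX.res L (le_top : W ≤ ⊤) (one s))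
    rw [AModX.res_self] at hg
    haveI : Nonempty W := ⟨⟨x, hxW⟩⟩
    refine ⟨⟨W, hW⟩, _, g, hxW, heW, hg, mem_nonZeroDivisors_of_ne_zero fun h0 => ?_⟩
    have hgW : genericPoint X ∈ W :=
      ((genericPoint_spec (X : Type u)).specializes (Set.mem_univ x)).mem_open W.isOpen hxW
    have h1 : genericPoint X ∈ X.basicOpen g := (genLocus_inf s heW hg).le ⟨hgen, hgW⟩
    rw [h0, Scheme.basicOpen_zero] at h1
    exact h1
  have hI : BlowUp.IsEffCartierIdeal I := fun x => by
    obtain ⟨W, e, g, hxW, he, hg, hgn⟩ := hchart x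
    exact ⟨W, hxW, g, hgn, hspan W e he g hg⟩
  refine ⟨I, hI, Set.ext fun x => ?_, ?_⟩
  · obtain ⟨W, e, g, hxW, he, hg, -⟩ := hchart x
    rw [SetLike.mem_coe, Scheme.IdealSheafData.mem_support_iff_of_mem hxW, hspan W e he g hg,
      X.mem_zeroLocus_iff]
    refine ⟨fun h hx => h g (Ideal.mem_span_singleton_self g) ((genLocus_inf s he hg).le ⟨hx, hxW⟩),
      fun hx f hf hxf => hx ?_⟩
    obtain ⟨c, rfl⟩ := Ideal.mem_span_singleton'.1 hf
    rw [Scheme.basicOpen_mul] at hxf
    exact ((genLocus_inf s he hg).ge hxf.2).1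
  obtain ⟨s', hs'⟩ := exists_divide hL hI s fun W e he g hg => by
    rw [hspan W e he g hg]; exact Ideal.mem_span_singleton_self g
  have htop : CohB1.genLocus _ s' = ⊤ := top_le_iff.1 fun x _ => by
    obtain ⟨W, hxW, e, e', a, he, he', ha, hIa, hφ⟩ := exists_chart_idealMul hL hI x
    obtain ⟨c, hc⟩ := he'.exists_coord le_rfl (AModX.res _ (le_top : W.1 ≤ ⊤) (one s'))
    rw [AModX.res_self] at hc
    have hg : AModX.res L (le_top : W.1 ≤ ⊤) (one s) = (c * a) • e := by
      rw [← hs', ← AModX.app_res, hc, Scheme.Modules.Hom.app_smul, hφ, mul_smul]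
    have h1 := (hspan W e he _ hg).symm.trans hIa
    obtain ⟨d, hd⟩ := Ideal.mem_span_singleton'.1 (h1.ge (Ideal.mem_span_singleton_self a))
    have hu : d * c = 1 := (mul_cancel_right_mem_nonZeroDivisors ha).1 (by rw [one_mul, mul_assoc]; exact hd)
    refine ((genLocus_inf s' he' hc).ge ?_).1
    rw [X.basicOpen_of_isUnit (IsUnit.of_mul_eq_one_right d hu)]
    exact hxW
  haveI := isIso_of_genLocus_eq_top htop
  exact ⟨(asIso s').symm⟩

variable (k : Type u) [Field k] [X.Over (Spec (CommRingCat.of k))] [IsProper (X ↘ Spec (CommRingCat.of k))]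

include k in
/-- The module of a combination of curves. -/
theorem exists_divisor_module (hdim : topologicalKrullDim X = 2)
    (hreg : ∀ x : X, IsRegularLocalRing (X.presheaf.stalk x)) (a : X → ℕ) (T : Finset X)
    (hT : ∀ η ∈ T, IsCurvePt η) :
    ∃ (M : X.Modules) (_ : PicF.IsInvertible M), ∀ B : X.Modules, PicF.IsInvertible B →
      pair k M B = -∑ η ∈ T, (a η : ℤ) * curveDeg k (VarBase.clIdeal η) B := by
  haveI := CurveCohLib.isNoetherian_of_proper (k := k) (X := X)
  classical
  induction T using Finset.induction with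
  | empty => exact ⟨_, isInvertible_O X, fun B _ => by simp [pair_O_left]⟩
  | insert η T hη ih =>
    obtain ⟨M, hM, hMB⟩ := ih fun ξ hξ => hT ξ (Finset.mem_insert_of_mem hξ)
    have hI := isEffCartier_clIdeal hreg hdim (hT η (Finset.mem_insert_self η T))
    have hIi := isInvertible_idealMod hI
    have hp := InvX.isInvertible_tensorPow hIi (a η)
    refine ⟨_, InvX.isInvertible_tensorMod hp hM, fun B hB => ?_⟩
    rw [pair_tensor_left k hdim.le hp hM hB, pair_tensorPow_left k hdim.le hIi hB, pair_ideal_left k _ hB,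
      hMB B hB, Finset.sum_insert hη]
    ring

include k in
/-- The inverse of the ideal of a curve with its section. -/
theorem exists_curve_section (hdim : topologicalKrullDim X = 2)
    (hreg : ∀ x : X, IsRegularLocalRing (X.presheaf.stalk x)) {F : X} (hF : IsCurvePt F) :
    ∃ (M : X.Modules) (_ : PicF.IsInvertible M) (t : Coh.structureModule X ⟶ M),
      (∀ x, x ∈ CohB1.genLocus M t ↔ x ∉ closure ({F} : Set X)) ∧
      Nonempty (CohB1.tensorMod M (ClSub.idealMod (VarBase.clIdeal F)) ≅ Coh.structureModule X) := by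
  haveI := CurveCohLib.isNoetherian_of_proper (k := k) (X := X)
  have hI := isEffCartier_clIdeal hreg hdim hF
  obtain ⟨M, hM, ⟨e⟩⟩ := H23.PicInv.exists_inverse (isInvertible_idealMod hI)
  obtain ⟨σ, hσ⟩ := exists_divisor_section _ hI hM ⟨tComm M _ ≪≫ e⟩
  refine ⟨M, hM, ofSect σ, fun x => ?_, ⟨tComm M _ ≪≫ e⟩⟩
  rw [AmpleX.genLocus_eq_locus, one_ofSect, hσ x, ← SetLike.mem_coe,
    Scheme.IdealSheafData.coe_support_vanishingIdeal]
  rfl

include k in
/-- Some boundary curve of degree zero meets one of positive degree. -/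
theorem exists_meeting (hdim : topologicalKrullDim X = 2)
    (hreg : ∀ x : X, IsRegularLocalRing (X.presheaf.stalk x)) {H L : X.Modules} (hH : CohB1.IsAmple H)
    (hL : PicF.IsInvertible L) (s : Coh.structureModule X ⟶ L) (hgen : genericPoint X ∈ CohB1.genLocus L s)
    (hnef : ∀ η : X, IsCurvePt η → 0 ≤ curveDeg k (VarBase.clIdeal η) L) (hLL : 0 < pair k L L)
    {E₀ : X} (hE₀ : IsCurvePt E₀) (hE₀s : E₀ ∉ CohB1.genLocus L s)
    (hE₀0 : curveDeg k (VarBase.clIdeal E₀) L = 0) :
    ∃ E F : X, IsCurvePt E ∧ E ∉ CohB1.genLocus L s ∧ curveDeg k (VarBase.clIdeal E) L = 0 ∧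
      IsCurvePt F ∧ F ∉ CohB1.genLocus L s ∧ 0 < curveDeg k (VarBase.clIdeal F) L ∧
      ∃ x, x ∈ closure ({E} : Set X) ∧ x ∈ closure ({F} : Set X) := by
  classical
  haveI := CurveCohLib.isNoetherian_of_proper (k := k) (X := X)
  have hd : topologicalKrullDim X ≤ (2 : ℕ) := hdim.le
  by_contra hno
  push Not at hno
  obtain ⟨a, ha, ha', hfin, hsum⟩ := exists_pair_eq_sum k hdim.le hL s hgen
  let T : Finset X := hfin.toFinset.filter fun η => curveDeg k (VarBase.clIdeal η) L = 0
  have hT : ∀ η ∈ T, IsCurvePt η ∧ η ∉ CohB1.genLocus L s ∧ curveDeg k (VarBase.clIdeal η) L = 0 :=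
    fun η hη => by
      obtain ⟨h1, h2⟩ := Finset.mem_filter.1 hη
      exact ⟨(ha η (hfin.mem_toFinset.1 h1)).1, (ha η (hfin.mem_toFinset.1 h1)).2, h2⟩
  have hsum' : ∀ B : X.Modules, PicF.IsInvertible B →
      pair k L B = ∑ η ∈ hfin.toFinset, (a η : ℤ) * curveDeg k (VarBase.clIdeal η) B := fun B hB => by
    rw [hsum B hB]
    refine finsum_eq_sum_of_support_subset _ fun η hη => ?_
    rw [Function.mem_support] at hη
    exact hfin.mem_toFinset.2 fun h0 => hη (by simp [h0])
  have horth : ∀ E ∈ T, ∑ F ∈ T, (a F : ℤ) *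
      curveDeg k (VarBase.clIdeal F) (ClSub.idealMod (VarBase.clIdeal E)) = 0 := fun E hE => by
    obtain ⟨hEc, hEs, hE0⟩ := hT E hE
    have hIi := isInvertible_idealMod (isEffCartier_clIdeal hreg hdim hEc)
    have h := hsum' _ hIi
    rw [pair_comm, pair_ideal_left k _ hL, hE0, neg_zero] at h
    rw [h]
    refine Finset.sum_subset (Finset.filter_subset _ _) fun F hF hFT => mul_eq_zero_of_right _ ?_
    obtain ⟨hFc, hFs⟩ := ha F (hfin.mem_toFinset.1 hF)
    have hFpos : 0 < curveDeg k (VarBase.clIdeal F) L :=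
      lt_of_le_of_ne (hnef F hFc) fun h0 => hFT (Finset.mem_filter.2 ⟨hF, h0.symm⟩)
    obtain ⟨M, hM, t, ht, ⟨e⟩⟩ := exists_curve_section k hdim hreg hEc
    have hf : IsFrame (AModX.res M (le_top : CohB1.genLocus M t ≤ ⊤) (one t)) :=
      AmpleX.isFrame_res_of_le (one t) (AmpleX.genLocus_eq_locus t).le
    have hsub : ((VarBase.clIdeal F).support : Set X) ⊆ CohB1.genLocus M t := fun x hx => by
      rw [Scheme.IdealSheafData.coe_support_vanishingIdeal] at hx
      exact (ht x).2 fun hxE => hno E F hEc hEs hE0 hFc hFs hFpos x hxE hx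
    have h1 := pair_ideal_inverse k hd (isEffCartier_clIdeal hreg hdim hFc) hM hIi e
    rw [curveDeg_eq_zero_of_frame k _ hf hsub, pair_ideal_left k _ hIi, neg_eq_zero] at h1
    exact h1
  obtain ⟨M₀, hM₀, hM₀B⟩ := exists_divisor_module k hdim hreg a T fun η hη => (hT η hη).1
  have hLM : pair k L M₀ = 0 := by
    rw [pair_comm, hM₀B L hL, neg_eq_zero]
    exact Finset.sum_eq_zero fun η hη => by rw [(hT η hη).2.2, mul_zero]
  have hMM : pair k M₀ M₀ = 0 := by
    rw [hM₀B M₀ hM₀, neg_eq_zero]
    refine Finset.sum_eq_zero fun η hη => mul_eq_zero_of_right _ ?_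
    have hIi := isInvertible_idealMod (isEffCartier_clIdeal hreg hdim (hT η hη).1)
    have h1 := hM₀B _ hIi
    rw [pair_comm, pair_ideal_left k _ hM₀, horth η hη, neg_zero, neg_eq_zero] at h1
    exact h1
  have hHpos : ∀ η : X, IsCurvePt η → 0 < curveDeg k (VarBase.clIdeal η) H := fun η hη =>
    curveDeg_pos_of_ample k hH (by rw [Scheme.IdealSheafData.coe_support_vanishingIdeal]; exact hη)
  have hE₀T : E₀ ∈ T := Finset.mem_filter.2 ⟨hfin.mem_toFinset.2 (ha' E₀ hE₀ hE₀s), hE₀0⟩
  have hMH : pair k M₀ H < 0 := by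
    rw [hM₀B H hH.1, neg_lt_zero]
    refine Finset.sum_pos (fun η hη => mul_pos ?_ (hHpos η (hT η hη).1)) ⟨E₀, hE₀T⟩
    exact Int.natCast_pos.2 (Nat.pos_of_ne_zero (hfin.mem_toFinset.1 (Finset.mem_filter.1 hη).1))
  have hLH : 0 < pair k L H :=
    lt_of_le_of_ne (pair_nonneg_of_section k hdim.le hL hH.1 s hgen fun η hη => (hHpos η hη).le).1
      (pair_ample_ne_zero k hd hH hL hLL).symm
  obtain ⟨L', hL', ⟨eL⟩⟩ := H23.PicInv.exists_inverse hL
  refine false_of_isotropic k hd hH hL' hM₀ ?_ ?_ hMM ?_ hMH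
  · rwa [pair_inverse_both k hd hL hL' hL hL' eL eL]
  · rw [pair_inverse_left k hd hL hL' hM₀ eL, hLM, neg_zero]
  · rw [pair_inverse_left k hd hL hL' hH.1 eL]; linarith

include k in
/-- **Goodman's theorem**: an ample divisor supported exactly outside a given affine open. -/
theorem exists_ample_boundary (hdim : topologicalKrullDim X = 2)
    (hreg : ∀ x : X, IsRegularLocalRing (X.presheaf.stalk x)) {U : X.Opens} (hU : IsAffineOpen U)
    (hne : (U : Set X).Nonempty) :
    ∃ (L : X.Modules) (_ : CohB1.IsAmple L) (s : Coh.structureModule X ⟶ L), CohB1.genLocus L s = U := by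
  classical
  haveI := CurveCohLib.isNoetherian_of_proper (k := k) (X := X)
  have hd : topologicalKrullDim X ≤ (2 : ℕ) := hdim.le
  obtain ⟨H, hH⟩ := exists_isAmple k hdim hreg
  have hgenU : genericPoint X ∈ U := by
    obtain ⟨p, hp⟩ := hne
    exact ((genericPoint_spec (X : Type u)).specializes (Set.mem_univ p)).mem_open U.isOpen hp
  obtain ⟨L₀, hL₀, s₀, hs₀, hnef₀, -, hpair₀⟩ := exists_nef_boundary k hdim hreg hU hne
  obtain ⟨a, -, ha', hfin, -⟩ := exists_pair_eq_sum k hdim.le hL₀ s₀ (hs₀ ▸ hgenU)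
  let S : Finset X := hfin.toFinset.filter fun η => IsCurvePt η ∧ η ∉ U
  have hS : ∀ η, IsCurvePt η → η ∉ U → η ∈ S := fun η h1 h2 =>
    Finset.mem_filter.2 ⟨hfin.mem_toFinset.2 (ha' η h1 (hs₀ ▸ h2)), h1, h2⟩
  suffices key : ∀ (n : ℕ) (L : X.Modules), PicF.IsInvertible L → ∀ s : Coh.structureModule X ⟶ L,
      CohB1.genLocus L s = U → (∀ η, IsCurvePt η → 0 ≤ curveDeg k (VarBase.clIdeal η) L) → 0 < pair k L L →
      (S.filter fun η => curveDeg k (VarBase.clIdeal η) L = 0).card = n →
      ∃ (L : X.Modules) (_ : CohB1.IsAmple L) (s : Coh.structureModule X ⟶ L), CohB1.genLocus L s = U from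
    key _ L₀ hL₀ s₀ hs₀ hnef₀ hpair₀ rfl
  intro n
  induction n using Nat.strong_induction_on with
  | _ n ih =>
    intro L hL s hs hnef hpair hn
    by_cases hall : ∀ η, IsCurvePt η → 0 < curveDeg k (VarBase.clIdeal η) L
    · exact ⟨L, isAmple_of_pos k hdim hL hall hpair, s, hs⟩
    push Not at hall
    obtain ⟨E₀, hE₀, hE₀le⟩ := hall
    have hE₀0 : curveDeg k (VarBase.clIdeal E₀) L = 0 := le_antisymm hE₀le (hnef E₀ hE₀)
    have hE₀s : E₀ ∉ CohB1.genLocus L s := fun h => by
      obtain ⟨x, hx, hxU⟩ := exists_notMem_of_affine k hE₀ hU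
      have := curveDeg_pos_of_section k hE₀.le hL s h hx (hs ▸ hxU)
      omega
    obtain ⟨E, F, hE, hEs, hE0, hF, hFs, hFpos, x, hxE, hxF⟩ :=
      exists_meeting k hdim hreg hH hL s (hs ▸ hgenU) hnef hpair hE₀ hE₀s hE₀0
    obtain ⟨M, hM, t, ht, -⟩ := exists_curve_section k hdim hreg hF
    have hne_of : ∀ η, IsCurvePt η → η ≠ F → η ∈ CohB1.genLocus M t := fun η hη hne' => (ht η).2 fun h =>
      hne' (VarBase.eq_of_specializes_of_dim isClosed_closure hF.le (subset_closure rfl)
        (specializes_iff_mem_closure.2 h) hη).symm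
    let N := (curveDeg k (VarBase.clIdeal F) M).natAbs + (pair k M M).natAbs + 1
    have hLN := InvX.isInvertible_tensorPow hL N
    have hL₁ := InvX.isInvertible_tensorMod hLN hM
    let L₁ := CohB1.tensorMod (CohB1.tensorPow L N) M
    have hdeg : ∀ η, IsCurvePt η → curveDeg k (VarBase.clIdeal η) L₁ =
        (N : ℤ) * curveDeg k (VarBase.clIdeal η) L + curveDeg k (VarBase.clIdeal η) M := fun η hη => by
      have hI := isEffCartier_clIdeal hreg hdim hη
      have h1 := pair_tensorPow_left k hd hL (isInvertible_idealMod hI) N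
      rw [pair_comm k L, pair_ideal_left k _ hL, pair_comm, pair_ideal_left k _ hLN] at h1
      rw [curveDeg_tensor k hd hI hLN hM]
      linarith
    have hMnn : ∀ η, IsCurvePt η → η ≠ F → 0 ≤ curveDeg k (VarBase.clIdeal η) M := fun η hη hne' =>
      curveDeg_nonneg_of_section k hη.le hM t (hne_of η hη hne')
    have hFge : (N : ℤ) ≤ (N : ℤ) * curveDeg k (VarBase.clIdeal F) L :=
      le_mul_of_one_le_right (Int.natCast_nonneg N) hFpos
    have hNabs : (N : ℤ) = |curveDeg k (VarBase.clIdeal F) M| + |pair k M M| + 1 := by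
      simp [N, Int.natCast_natAbs]
    have hFpos₁ : 0 < curveDeg k (VarBase.clIdeal F) L₁ := by
      rw [hdeg F hF]
      have := neg_abs_le (curveDeg k (VarBase.clIdeal F) M)
      have := abs_nonneg (pair k M M)
      linarith
    have hnef₁ : ∀ η, IsCurvePt η → 0 ≤ curveDeg k (VarBase.clIdeal η) L₁ := fun η hη => by
      by_cases h : η = F
      · exact h ▸ hFpos₁.le
      · rw [hdeg η hη]
        exact add_nonneg (mul_nonneg (Int.natCast_nonneg N) (hnef η hη)) (hMnn η hη h)
    have hEF : E ≠ F := fun h => by rw [h] at hE0; omega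
    have hEpos : 0 < curveDeg k (VarBase.clIdeal E) L₁ := by
      rw [hdeg E hE, hE0, mul_zero, zero_add]
      exact curveDeg_pos_of_section k hE.le hM t (hne_of E hE hEF) hxE fun h => (ht x).1 h hxF
    have hgN : CohB1.genLocus (CohB1.tensorPow L N) (powHom s N) = U :=
      (genLocus_powHom hL s ((curveDeg k (VarBase.clIdeal F) M).natAbs + (pair k M M).natAbs)).trans hs
    have hgen₁ : CohB1.genLocus L₁ (InvX.mulHom (powHom s N) t) = U := by
      rw [genLocus_mulHom hLN hM, hgN]
      refine inf_eq_left.2 fun y hy => (ht y).2 fun h => hFs ?_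
      exact hs.symm ▸ (specializes_iff_mem_closure.2 h).mem_open U.isOpen hy
    have hpair₁ : 0 < pair k L₁ L₁ := by
      rw [pair_tensor_left k hd hLN hM hL₁, pair_tensor_right k hd hLN hLN hM,
        pair_tensor_right k hd hM hLN hM, pair_tensorPow_tensorPow k hd hL hL,
        pair_comm k M (CohB1.tensorPow L N), pair_tensorPow_left k hd hL hM]
      have hLM : 0 ≤ pair k M L :=
        (pair_nonneg_of_section k hdim.le hM hL t
          ((ht _).2 fun h => genericPoint_ne_of_curvePt hdim hF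
            (((genericPoint_spec (X : Type u)).specializes (Set.mem_univ F)).antisymm
              (specializes_iff_mem_closure.2 h)).eq.symm) hnef).1
      rw [pair_comm k M L] at hLM
      have h1 : (N : ℤ) ≤ (N : ℤ) * N * pair k L L := by
        have : (1 : ℤ) ≤ N := by omega
        calc (N : ℤ) = N * 1 * 1 := by ring
          _ ≤ N * N * pair k L L := by gcongr <;> omega
      have := neg_abs_le (pair k M M)
      have := abs_nonneg (curveDeg k (VarBase.clIdeal F) M)
      have := mul_nonneg (Int.natCast_nonneg N) hLM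
      linarith
    refine ih _ ?_ L₁ hL₁ _ hgen₁ hnef₁ hpair₁ rfl
    rw [← hn]
    refine Finset.card_lt_card (Finset.ssubset_iff_subset_ne.2 ⟨fun η hη => ?_, fun heq => ?_⟩)
    · obtain ⟨h1, h2⟩ := Finset.mem_filter.1 hη
      refine Finset.mem_filter.2 ⟨h1, ?_⟩
      have hηc := (Finset.mem_filter.1 h1).2.1
      have hηF : η ≠ F := fun h => by rw [h] at h2; omega
      rw [hdeg η hηc] at h2
      by_contra h0
      have hp : 0 < curveDeg k (VarBase.clIdeal η) L := lt_of_le_of_ne (hnef η hηc) (Ne.symm h0)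
      have := hMnn η hηc hηF
      have : (0 : ℤ) < N * curveDeg k (VarBase.clIdeal η) L := mul_pos (by omega) hp
      omega
    · have hEin : E ∈ S.filter fun η => curveDeg k (VarBase.clIdeal η) L = 0 :=
        Finset.mem_filter.2 ⟨hS E hE (hs ▸ hEs), hE0⟩
      rw [← heq] at hEin
      have := (Finset.mem_filter.1 hEin).2
      omega

end Groth.Agent.SurfInt
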