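import Groth.Agent.SurfInt.InterCM
import Groth.Agent.ArSurfBase.Deg
import Groth.Agent.SurfInt.Curve
import Groth.Agent.CurveCohLib.SubBundle

/-!
# Degrees of divisors on integral curves of a surface

A divisor not containing a curve meets it nonnegatively; fibres of maps to curves meet every curve
nonnegatively.
-/

set_option linter.style.haveILetI false
set_option linter.unusedSectionVars false
set_option backward.isDefEq.respectTransparency false

universe u

open CategoryTheory CategoryTheory.Limits AlgebraicGeometry TopologicalSpace Opposite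

noncomputable section

namespace Groth.Agent.SurfInt

open Groth.Agent Groth.Agent.InvX Groth.Agent.AModX

variable {X : Scheme.{u}}

/-- A locally principal ideal on an integral scheme not vanishing at the generic point is invertible. -/
theorem isEffCartier_of_locPrincipal [IsIntegral X] {I : X.IdealSheafData} (h : ModPairLib.IsLocPrincipal I)
    (hη : genericPoint X ∉ (I.support : Set X)) : BlowUp.IsEffCartierIdeal I := by
  intro x
  obtain ⟨U, hxU, a, ha⟩ := h x
  haveI : Nonempty U.1 := ⟨⟨x, hxU⟩⟩
  refine ⟨U, hxU, a, mem_nonZeroDivisors_of_ne_zero fun h0 => hη ?_, ha⟩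
  have hηU : genericPoint X ∈ U.1 :=
    (genericPoint_spec X).mem_open_set_iff U.1.isOpen |>.2 ⟨x, trivial, hxU⟩
  rw [SetLike.mem_coe, Scheme.IdealSheafData.mem_support_iff_of_mem hηU, X.mem_zeroLocus_iff]
  intro g hg hxg
  rw [ha, h0, SetLike.mem_coe, Ideal.mem_span_singleton] at hg
  rw [zero_dvd_iff.1 hg, Scheme.basicOpen_zero] at hxg
  exact hxg

variable (k : Type u) [Field k] [X.Over (Spec (CommRingCat.of k))] [IsProper (X ↘ Spec (CommRingCat.of k))]

/-- Additivity of the degree on a divisor. -/
theorem curveDeg_tensor (hdim : topologicalKrullDim X ≤ (2 : ℕ)) {Γ : X.IdealSheafData}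
    (hΓ : BlowUp.IsEffCartierIdeal Γ) {A B : X.Modules} (hA : PicF.IsInvertible A) (hB : PicF.IsInvertible B) :
    curveDeg k Γ (CohB1.tensorMod A B) = curveDeg k Γ A + curveDeg k Γ B := by
  have h := pair_tensor_right k hdim (isInvertible_idealMod hΓ) hA hB
  rw [pair_ideal_left k Γ (InvX.isInvertible_tensorMod hA hB), pair_ideal_left k Γ hA,
    pair_ideal_left k Γ hB] at h
  linarith

/-- A module trivial near the curve has degree zero on it. -/
theorem curveDeg_eq_zero_of_frame (Γ : X.IdealSheafData) {B : X.Modules} {V : X.Opens} {e : Γ(B, V)}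
    (he : IsFrame e) (hV : (Γ.support : Set X) ⊆ V) : curveDeg k Γ B = 0 := by
  have hr : Set.range Γ.subschemeι.base ⊆ Set.range V.ι.base := by
    rw [V.range_ι]
    exact (Scheme.IdealSheafData.range_subschemeι Γ).le.trans hV
  obtain ⟨e'⟩ := PicClLib.nonempty_pullback_structureModule (IsOpenImmersion.lift V.ι Γ.subschemeι hr)
  obtain ⟨φ⟩ := InvX.nonempty_iso_of_isFrame he
  let t : (Scheme.Modules.pullback Γ.subschemeι).obj B ≅ Coh.structureModule Γ.subscheme :=
    (Scheme.Modules.pullbackCongr (IsOpenImmersion.lift_fac V.ι Γ.subschemeι hr)).symm.app B ≪≫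
      ((Scheme.Modules.pullbackComp (IsOpenImmersion.lift V.ι Γ.subschemeι hr) V.ι).app B).symm ≪≫
      (Scheme.Modules.pullback _).mapIso
        (((Scheme.Modules.restrictFunctorIsoPullback V.ι).app B).symm ≪≫ φ) ≪≫ e'
  unfold curveDeg
  rw [euler_congr k (pushTensorIso Γ.subschemeι B ≪≫ (Coh.push Γ.subschemeι).mapIso t)]
  exact sub_self _

/-- An effective divisor given by one equation near the curve has degree zero on it. -/
theorem curveDeg_idealMod_eq_zero_of_principal_near (Γ : X.IdealSheafData) {D : X.IdealSheafData}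
    (hD : BlowUp.IsEffCartierIdeal D) {V : X.Opens} (t : Γ(X, V)) (hV : (Γ.support : Set X) ⊆ V)
    (ht : ∀ (U : X.affineOpens) (hU : U.1 ≤ V),
      D.ideal U = Ideal.span {X.presheaf.map (homOfLE hU).op t}) :
    curveDeg k Γ (ClSub.idealMod D) = 0 := by
  obtain ⟨e, he⟩ := OmegaLib.exists_idealSect_eq D V t (app_toSubscheme_zero_of_mem D V t fun W hW => by
    rw [ht W hW]
    exact Ideal.mem_span_singleton_self _)
  refine curveDeg_eq_zero_of_frame k Γ (e := e) (InvX.isFrame_of_germ fun x hx => ?_) hV
  obtain ⟨W, hW, hxW, hWV⟩ := exists_isAffineOpen_mem_and_subset hx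
  have hf : IsFrame (AModX.res (ClSub.idealMod D) hWV e) :=
    isFrame_of_generator hD (U := ⟨W, hW⟩) (ht ⟨W, hW⟩ hWV)
      ((OmegaLib.idealSect_map D hWV e).trans (congrArg _ he))
  have h := hf.germ_bijective hxW
  rw [InvX.germ_res' hWV hxW e] at h
  exact h

variable [IrreducibleSpace X] in
/-- On a surface an effective divisor not containing an integral curve meets it nonnegatively. -/
theorem curveDeg_idealMod_nonpos {Γ : X.IdealSheafData} [IsIntegral Γ.subscheme]
    (hΓ : BlowUp.IsEffCartierIdeal Γ) (hΓdim : topologicalKrullDim (Γ.support : Set X) = 1)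
    {D : X.IdealSheafData} (hD : BlowUp.IsEffCartierIdeal D)
    (hsub : ¬ (Γ.support : Set X) ⊆ D.support) :
    curveDeg k Γ (ClSub.idealMod D) ≤ 0 := by
  set f := X ↘ Spec (CommRingCat.of k)
  let γ := Γ.subschemeι (genericPoint ↥Γ.subscheme)
  have hclo : closure ({γ} : Set X) = Γ.support := by
    rw [← Scheme.IdealSheafData.range_subschemeι]
    exact (QCoh.range_eq_closure Γ.subschemeι).symm
  have hγD : γ ∉ (D.support : Set X) := fun h =>
    hsub (hclo ▸ D.support.isClosed.closure_subset_iff.2 (Set.singleton_subset_iff.2 h))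
  have hdγ : VarDim.deg f γ = 1 := by
    have h := VarDim.topologicalKrullDim_closure_singleton f γ
    rw [hclo, hΓdim] at h
    exact_mod_cast h.symm
  have heq : Γ ⊓ D = Γ * D := by
    refine inf_eq_mul_of_local hΓ hD fun U a b ha hb => inf_le_mul_of_regular_mod ?_
    let ψ := (Γ.subschemeι.app U.1).hom
    have hker : RingHom.ker ψ = Ideal.span {a} := by rw [← ha]; exact Γ.ker_subschemeι_app U
    intro z hz
    rw [← hker, RingHom.mem_ker] at hz ⊢
    by_cases hne : Nonempty (Γ.subschemeι ⁻¹ᵁ U.1 : Γ.subscheme.Opens)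
    · haveI := hne
      rw [map_mul, mul_eq_zero] at hz
      refine hz.resolve_left fun hb0 => hγD ?_
      have hγU : γ ∈ U.1 := ((genericPoint_spec ↥Γ.subscheme).mem_open_set_iff
        (Γ.subschemeι ⁻¹ᵁ U.1).isOpen).2 ⟨hne.some.1, trivial, hne.some.2⟩
      have hbmem : b ∈ Γ.ideal U := by rw [← Γ.ker_subschemeι_app U, RingHom.mem_ker]; exact hb0
      have hγs : γ ∈ (Γ.support : Set X) := hclo ▸ subset_closure rfl
      rw [SetLike.mem_coe, Scheme.IdealSheafData.mem_support_iff_of_mem hγU] at hγs ⊢
      refine Scheme.zeroLocus_mono _ ?_ hγs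
      rw [SetLike.coe_subset_coe, hb, Ideal.span_singleton_le_iff_mem]
      exact hbmem
    · haveI : IsEmpty (Γ.subschemeι ⁻¹ᵁ U.1 : Γ.subscheme.Opens) := not_nonempty_iff.1 hne
      haveI : Subsingleton Γ(Γ.subscheme, Γ.subschemeι ⁻¹ᵁ U.1) := by
        have hbot : Γ.subschemeι ⁻¹ᵁ U.1 = ⊥ := Opens.ext (Set.isEmpty_coe_sort.1 ‹_›)
        rw [hbot]
        infer_instance
      exact Subsingleton.elim _ _
  have hcl : ∀ x ∈ ((Γ ⊔ D).support : Set X), IsClosed ({x} : Set X) := by
    intro x hx
    have hxΓ : x ∈ (Γ.support : Set X) := Scheme.IdealSheafData.support_antitone le_sup_left hx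
    have hxD : x ∈ (D.support : Set X) := Scheme.IdealSheafData.support_antitone le_sup_right hx
    have hsp : γ ⤳ x := specializes_iff_mem_closure.2 (hclo.ge hxΓ)
    have hlt : VarDim.deg f x < VarDim.deg f γ := by
      refine VarDim.deg_strictMono f (lt_iff_le_not_ge.2 ⟨hsp, fun h => hγD ?_⟩)
      exact D.support.isClosed.stableUnderSpecialization h hxD
    refine isClosed_of_closure_subset fun y hy => ?_
    by_contra hne
    have hsp' : x ⤳ y := specializes_iff_mem_closure.2 hy
    have hlt' : VarDim.deg f y < VarDim.deg f x :=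
      VarDim.deg_strictMono f (lt_iff_le_not_ge.2 ⟨hsp', fun h => hne (hsp'.antisymm h).eq.symm⟩)
    omega
  have h := pair_eq_h0_of_inf_eq_mul Γ D k hΓ hD heq hcl
  rw [pair_ideal_left k Γ (isInvertible_idealMod hD)] at h
  linarith [Int.natCast_nonneg (Module.finrank k (Coh.HH X (ClSub.quotMod (Γ ⊔ D)) 0))]

omit [X.Over (Spec (CommRingCat.of k))] [IsProper (X ↘ Spec (CommRingCat.of k))] in
include k in
/-- The ideal of a closed point of a smooth curve is invertible. -/
theorem isEffCartier_point {C : Scheme.{u}} [IsIntegral C] [IsLocallyNoetherian C]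
    [C.Over (Spec (CommRingCat.of k))] [LocallyOfFiniteType (C ↘ Spec (CommRingCat.of k))]
    (hdim : topologicalKrullDim C = 1) (hreg : ∀ x : C, IsRegularLocalRing (C.presheaf.stalk x))
    {p : C} (hp : IsClosed ({p} : Set C)) [IsClosedImmersion (C.fromSpecResidueField p)] :
    BlowUp.IsEffCartierIdeal (C.fromSpecResidueField p).ker := by
  haveI := isIntegral_ker (C.fromSpecResidueField p)
  have himg : (C.fromSpecResidueField p).ker.subschemeι
      (genericPoint ↥(C.fromSpecResidueField p).ker.subscheme) = p := by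
    have h : Set.range (C.fromSpecResidueField p).ker.subschemeι = {p} := by
      rw [Scheme.IdealSheafData.range_subschemeι, Scheme.Hom.support_ker,
        Scheme.range_fromSpecResidueField, hp.closure_eq]
    exact Set.mem_singleton_iff.1 (h ▸ Set.mem_range_self _)
  refine DivX.isEffCartier_of_codim_one _ ?_ fun x _ =>
    haveI := hreg x
    RegUFD.ufd _
  rw [himg]
  refine le_antisymm (hdim ▸ CurveCohLib.ringKrullDim_stalk_le_topologicalKrullDim p) ?_
  exact le_ringKrullDim_stalk k hp isClosed_univ (IrreducibleSpace.isIrreducible_univ _) (Set.mem_univ p)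
    (n := 1) (((Homeomorph.Set.univ C).isHomeomorph.topologicalKrullDim_eq).trans hdim)

omit [X.Over (Spec (CommRingCat.of k))] [IsProper (X ↘ Spec (CommRingCat.of k))] in
/-- The fibre over a closed point with invertible ideal is an effective divisor. -/
theorem isEffCartier_fibre [IsIntegral X] {C : Scheme.{u}} {p : C} (hp : IsClosed ({p} : Set C))
    [IsClosedImmersion (C.fromSpecResidueField p)]
    (hC : BlowUp.IsEffCartierIdeal (C.fromSpecResidueField p).ker) (g : X ⟶ C) (hη : g (genericPoint X) ≠ p) :
    BlowUp.IsEffCartierIdeal (g.fiberι p).ker := by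
  have hker : (g.fiberι p).ker = (C.fromSpecResidueField p).ker.comap g :=
    Scheme.IdealSheafData.ker_fst_of_isClosedImmersion (C.fromSpecResidueField p) g
  rw [hker]
  refine isEffCartier_of_locPrincipal ((ModPairLib.isLocPrincipal_of_isEffCartier hC).comap g) fun h => hη ?_
  rw [Scheme.IdealSheafData.support_comap] at h
  have h' : g (genericPoint X) ∈ ((C.fromSpecResidueField p).ker.support : Set C) := h
  rw [Scheme.Hom.support_ker, Scheme.range_fromSpecResidueField, hp.closure_eq] at h'
  exact h'

/-- Fibres meet every integral curve nonnegatively. -/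
theorem curveDeg_fibre_nonpos [IsIntegral X] {C : Scheme.{u}} {p : C} (hp : IsClosed ({p} : Set C))
    [IsClosedImmersion (C.fromSpecResidueField p)]
    (hC : BlowUp.IsEffCartierIdeal (C.fromSpecResidueField p).ker) (g : X ⟶ C) (hη : g (genericPoint X) ≠ p)
    {Γ : X.IdealSheafData} [IsIntegral Γ.subscheme] (hΓ : BlowUp.IsEffCartierIdeal Γ)
    (hΓdim : topologicalKrullDim (Γ.support : Set X) = 1) :
    curveDeg k Γ (ClSub.idealMod (g.fiberι p).ker) ≤ 0 := by
  have hF := isEffCartier_fibre hp hC g hη
  by_cases hsub : (Γ.support : Set X) ⊆ (g.fiberι p).ker.support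
  swap
  · exact curveDeg_idealMod_nonpos k hΓ hΓdim hF hsub
  have hker : (g.fiberι p).ker = (C.fromSpecResidueField p).ker.comap g :=
    Scheme.IdealSheafData.ker_fst_of_isClosedImmersion (C.fromSpecResidueField p) g
  obtain ⟨U, hpU, t, -, ht⟩ := hC p
  refine le_of_eq (curveDeg_idealMod_eq_zero_of_principal_near k Γ hF (V := g ⁻¹ᵁ U.1) (g.app U.1 t)
    (fun x hx => ?_) fun W hW => ?_)
  · have h := hsub hx
    rw [SetLike.mem_coe, hker, Scheme.IdealSheafData.support_comap] at h
    have h' : g x ∈ ((C.fromSpecResidueField p).ker.support : Set C) := h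
    rw [Scheme.Hom.support_ker, Scheme.range_fromSpecResidueField, hp.closure_eq] at h'
    show g x ∈ U.1
    rw [Set.mem_singleton_iff.1 h']
    exact hpU
  · rw [hker, ModPairLib.ideal_comap _ g U W hW, ht, Ideal.map_span, Set.image_singleton]
    rfl

end Groth.Agent.SurfInt
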