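import Groth.Agent.SurfInt.Inter
import Groth.Agent.VarDim.Local
import Groth.Agent.VarDim.Top

/-!
# Proper intersections on Cohen–Macaulay surfaces
-/

set_option linter.style.haveILetI false
set_option linter.unusedSectionVars false
set_option backward.isDefEq.respectTransparency false

universe u

open CategoryTheory CategoryTheory.Limits AlgebraicGeometry TopologicalSpace Opposite

noncomputable section

namespace Groth.Agent.SurfInt

open Groth.Agent

variable {X : Scheme.{u}}

/-- It suffices to compare `I ∩ J` and `I·J` on charts where both are principal. -/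
theorem inf_eq_mul_of_local {I J : X.IdealSheafData} (hI : BlowUp.IsEffCartierIdeal I)
    (hJ : BlowUp.IsEffCartierIdeal J)
    (h : ∀ (U : X.affineOpens) (a b : Γ(X, U.1)), I.ideal U = Ideal.span {a} → J.ideal U = Ideal.span {b} →
      Ideal.span {a} ⊓ Ideal.span {b} ≤ Ideal.span {a} * Ideal.span {b}) :
    I ⊓ J = I * J := by
  choose U hU a b ha hb using ModPairLib.exists_chart (ModPairLib.isLocPrincipal_of_isEffCartier hI)
    (ModPairLib.isLocPrincipal_of_isEffCartier hJ)
  refine Scheme.IdealSheafData.ext_of_iSup_eq_top U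
    (eq_top_iff.2 fun x _ => Opens.mem_iSup.2 ⟨x, hU x⟩) fun x => ?_
  rw [Scheme.IdealSheafData.ideal_inf, Scheme.IdealSheafData.ideal_mul, Pi.inf_apply, Pi.mul_apply]
  refine le_antisymm ?_ Ideal.mul_le_inf
  rw [ha x, hb x]
  exact h (U x) _ _ (ha x) (hb x)

/-- In a Jacobson space a finite closed set consists of closed points. -/
theorem isClosed_singleton_of_finite_closed {Y : Type*} [TopologicalSpace Y] [JacobsonSpace Y] {S : Set Y}
    (hS : IsClosed S) (hfin : S.Finite) {x : Y} (hx : x ∈ S) : IsClosed ({x} : Set Y) := by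
  have h : IsClosed (S ∩ closedPoints Y) := by
    have hu : S ∩ closedPoints Y = ⋃ y ∈ S ∩ closedPoints Y, ({y} : Set Y) :=
      (Set.biUnion_of_singleton _).symm
    rw [hu]
    exact Set.Finite.isClosed_biUnion (hfin.inter_of_left _) fun y hy => hy.2
  have h2 : S ∩ closedPoints Y = S := h.closure_eq.symm.trans (closure_inter_closedPoints hS)
  exact (h2.ge hx).2

theorem isClosed_of_finite_support {I : X.IdealSheafData} [JacobsonSpace X] (hfin : (I.support : Set X).Finite) :
    ∀ x ∈ (I.support : Set X), IsClosed ({x} : Set X) := fun _ hx =>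
  isClosed_singleton_of_finite_closed I.support.isClosed hfin hx

/-- Local equations of a proper intersection in Cohen–Macaulay local rings of dimension two. -/
theorem inf_eq_mul_of_cohenMacaulay {I J : X.IdealSheafData} (hI : BlowUp.IsEffCartierIdeal I)
    (hJ : BlowUp.IsEffCartierIdeal J) (hCM : ∀ x : X, LocCoh.IsCohenMacaulayLocalRing (X.presheaf.stalk x))
    (hcl : ∀ x ∈ ((I ⊔ J).support : Set X), IsClosed ({x} : Set X))
    (hdim : ∀ x ∈ ((I ⊔ J).support : Set X), (2 : WithBot ℕ∞) ≤ ringKrullDim (X.presheaf.stalk x)) :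
    I ⊓ J = I * J := by
  refine inf_eq_mul_of_local hI hJ fun U a b ha hb z hz => ?_
  have ha0 : a ∈ nonZeroDivisors Γ(X, U.1) := ModPairLib.generator_mem_nonZeroDivisors hI ha
  let A := Γ(X, U.1)
  let T : Ideal A := (Ideal.span {a} * Ideal.span {b}).colon {z}
  suffices hT : T = ⊤ by
    have h1 : (1 : A) ∈ T := hT.symm ▸ Submodule.mem_top
    have := Submodule.mem_colon_singleton.1 h1
    rwa [one_smul] at this
  by_contra hne
  obtain ⟨m, hm, hTm⟩ := Ideal.exists_le_maximal T hne
  haveI := hm.isPrime
  let q : PrimeSpectrum A := ⟨m, hm.isPrime⟩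
  have hqU : U.2.fromSpec q ∈ U.1 := U.2.range_fromSpec.le ⟨q, rfl⟩
  let x := U.2.fromSpec q
  letI : Algebra A (X.presheaf.stalk x) := X.presheaf.algebra_section_stalk ⟨x, hqU⟩
  haveI hloc : IsLocalization.AtPrime (X.presheaf.stalk x) m := U.2.isLocalization_stalk' q hqU
  let φ := algebraMap A (X.presheaf.stalk x)
  have key : Ideal.span {φ a} ⊓ Ideal.span {φ b} ≤ Ideal.span {φ a} * Ideal.span {φ b} := by
    by_cases hua : IsUnit (φ a)
    · rw [Ideal.span_singleton_eq_top.2 hua, Ideal.top_mul]
      exact inf_le_right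
    by_cases hub : IsUnit (φ b)
    · rw [Ideal.span_singleton_eq_top.2 hub, Ideal.mul_top]
      exact inf_le_left
    refine inf_le_mul_of_regular_mod ?_
    haveI := hCM x
    have hxs : x ∈ ((I ⊔ J).support : Set X) := by
      rw [SetLike.mem_coe, Scheme.IdealSheafData.mem_support_iff_of_mem hqU]
      rw [X.mem_zeroLocus_iff]
      intro g hg hxg
      rw [Scheme.IdealSheafData.ideal_sup, Pi.sup_apply, ha, hb] at hg
      have hgu : IsUnit (φ g) := (X.mem_basicOpen g x hqU).1 hxg
      have hle : Ideal.span {a} ⊔ Ideal.span {b} ≤ m := by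
        refine sup_le ?_ ?_ <;> rw [Ideal.span_singleton_le_iff_mem] <;> by_contra hn
        · exact hua (IsLocalization.map_units (X.presheaf.stalk x) (⟨a, hn⟩ : m.primeCompl))
        · exact hub (IsLocalization.map_units (X.presheaf.stalk x) (⟨b, hn⟩ : m.primeCompl))
      exact (IsLocalization.AtPrime.isUnit_to_map_iff (X.presheaf.stalk x) m g).1 hgu (hle hg)
    refine regular_mod_of_isCM (hCM x) (hdim x hxs) (MeroX.germ_mem_nonZeroDivisors U.2 ha0 x hqU)
      ((IsLocalRing.mem_maximalIdeal _).2 hua) fun P hP haP hbP => ?_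
    -- a prime containing both equations is a point of the finite intersection
    let q' : PrimeSpectrum A := ⟨P.comap φ, hP.comap φ⟩
    have hq'U : U.2.fromSpec q' ∈ U.1 := U.2.range_fromSpec.le ⟨q', rfl⟩
    have hq'm : P.comap φ ≤ m := by
      refine (Ideal.comap_mono (IsLocalRing.le_maximalIdeal hP.ne_top)).trans (le_of_eq ?_)
      exact IsLocalization.AtPrime.comap_maximalIdeal (X.presheaf.stalk x) m
    have hspec : U.2.fromSpec q' ⤳ U.2.fromSpec q :=
      ((PrimeSpectrum.le_iff_specializes q' q).1 hq'm).map U.2.fromSpec.continuous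
    have hmem' : U.2.fromSpec q' ∈ ((I ⊔ J).support : Set X) := by
      rw [SetLike.mem_coe, Scheme.IdealSheafData.mem_support_iff_of_mem hq'U, X.mem_zeroLocus_iff]
      intro g hg hxg
      rw [Scheme.IdealSheafData.ideal_sup, Pi.sup_apply, ha, hb] at hg
      have hle : Ideal.span {a} ⊔ Ideal.span {b} ≤ P.comap φ :=
        sup_le ((Ideal.span_singleton_le_iff_mem _).2 haP) ((Ideal.span_singleton_le_iff_mem _).2 hbP)
      have hg' : q' ∈ PrimeSpectrum.basicOpen g := by
        rw [← U.2.fromSpec_preimage_basicOpen g]; exact hxg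
      exact hg' (hle hg)
    have heq : q' = q := U.2.fromSpec.isOpenEmbedding.injective
      (Set.mem_singleton_iff.1 (((hcl _ hmem').closure_eq.le (specializes_iff_mem_closure.1 hspec)))).symm
    have hPm : P.comap φ = m := congrArg PrimeSpectrum.asIdeal heq
    calc P = (P.comap φ).map φ := (IsLocalization.map_comap m.primeCompl _ P).symm
      _ = m.map φ := by rw [hPm]
      _ = IsLocalRing.maximalIdeal _ := IsLocalization.AtPrime.map_eq_maximalIdeal m _
  have hmem : φ z ∈ (Ideal.span {a} * Ideal.span {b}).map φ := by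
    rw [Ideal.map_mul, Ideal.map_span, Ideal.map_span, Set.image_singleton, Set.image_singleton]
    refine key ⟨?_, ?_⟩
    · have := Ideal.mem_map_of_mem φ hz.1
      rwa [Ideal.map_span, Set.image_singleton] at this
    · have := Ideal.mem_map_of_mem φ hz.2
      rwa [Ideal.map_span, Set.image_singleton] at this
  obtain ⟨s, hs, hsz⟩ :=
    (IsLocalization.algebraMap_mem_map_algebraMap_iff m.primeCompl (X.presheaf.stalk x) _ z).1 hmem
  exact hs (hTm (Submodule.mem_colon_singleton.2 hsz))

variable (k : Type u) [Field k] [X.Over (Spec (CommRingCat.of k))]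

include k in
/-- A closed point lying on a component of dimension at least `n` has a local ring of dimension at least `n`. -/
theorem le_ringKrullDim_stalk [LocallyOfFiniteType (X ↘ Spec (CommRingCat.of k))] {x : X}
    (hx : IsClosed ({x} : Set X)) {Z : Set X} (hZ : IsClosed Z) (hZi : IsIrreducible Z) (hxZ : x ∈ Z) {n : ℕ}
    (hn : topologicalKrullDim Z = n) :
    (n : WithBot ℕ∞) ≤ ringKrullDim (X.presheaf.stalk x) := by
  set f := X ↘ Spec (CommRingCat.of k)
  obtain ⟨η, hη⟩ := QuasiSober.sober hZi hZ
  have hdη : VarDim.deg f η = n := by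
    have h := VarDim.topologicalKrullDim_closure_singleton f η
    rw [hη.def, hn] at h
    exact_mod_cast h.symm
  have hdx : VarDim.deg f x = 0 := by
    have h := VarDim.topologicalKrullDim_closure_singleton f x
    rw [hx.closure_eq] at h
    have h0 : ((VarDim.deg f x : ℕ∞) : WithBot ℕ∞) ≤ 0 :=
      h ▸ topologicalKrullDim_zero_of_discreteTopology ({x} : Set X)
    have h1 : (VarDim.deg f x : ℕ∞) ≤ 0 := WithBot.coe_le_coe.1 h0
    exact Nat.le_zero.1 (by exact_mod_cast h1)
  obtain ⟨b, hb, -, hle⟩ := VarDim.exists_deg_add_stalk f x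
  have := hle η (hη.specializes hxZ)
  rw [hdη, hdx, zero_add] at this
  rw [hb]
  exact_mod_cast this

/-- The intersection number of two divisors without common component on a Cohen–Macaulay surface. -/
theorem pair_eq_h0_of_cohenMacaulay [IsProper (X ↘ Spec (CommRingCat.of k))]
    (hdim : ∀ Z ∈ irreducibleComponents (X : Type u), topologicalKrullDim Z = 2)
    (hCM : ∀ x : X, LocCoh.IsCohenMacaulayLocalRing (X.presheaf.stalk x)) {I J : X.IdealSheafData}
    (hI : BlowUp.IsEffCartierIdeal I) (hJ : BlowUp.IsEffCartierIdeal J)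
    (hfin : ((I ⊔ J).support : Set X).Finite) :
    pair k (ClSub.idealMod I) (ClSub.idealMod J) =
      (Module.finrank k (Coh.HH X (ClSub.quotMod (I ⊔ J)) 0) : ℤ) := by
  haveI : JacobsonSpace X := LocallyOfFiniteType.jacobsonSpace (X ↘ Spec (CommRingCat.of k))
  have hcl := isClosed_of_finite_support (I := I ⊔ J) hfin
  refine pair_eq_h0_of_inf_eq_mul I J k hI hJ
    (inf_eq_mul_of_cohenMacaulay hI hJ hCM hcl fun x hx => ?_) hcl
  exact le_ringKrullDim_stalk k (hcl x hx) isClosed_irreducibleComponent
    isIrreducible_irreducibleComponent mem_irreducibleComponent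
    (hdim _ (irreducibleComponent_mem_irreducibleComponents x))

end Groth.Agent.SurfInt
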