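import Groth.Agent.SurfInt.Ample
import Groth.Agent.SurfInt.Hodge

/-!
# Nef modules

A functional on coherent modules which is nonnegative on curves is monotone on one-dimensional closed
subschemes; nef modules have nonnegative square.
-/

set_option linter.style.haveILetI false
set_option linter.unusedSectionVars false
set_option backward.isDefEq.respectTransparency false
set_option backward.isDefEq.respectTransparency.types false

universe u v

open CategoryTheory CategoryTheory.Limits AlgebraicGeometry TopologicalSpace Opposite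

noncomputable section

namespace Groth.Agent.SurfInt

open Groth.Agent

variable {X : Scheme.{u}}

section Functional

variable {A : Type v} [AddCommGroup A] [PartialOrder A] [IsOrderedAddMonoid A] [IsNoetherian X]

/-- An additive functional vanishing on points and nonnegative on curves is nonnegative in dimension
one. -/
theorem nonneg_of_curves (Ψ : X.Modules → A)
    (hiso : ∀ M N : X.Modules, Nonempty (M ≅ N) → Ψ M = Ψ N)
    (hadd : ∀ S : ShortComplex X.Modules, S.ShortExact → Coh.IsCoh S.X₁ → Coh.IsCoh S.X₂ → Coh.IsCoh S.X₃ →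
      Ψ S.X₂ = Ψ S.X₁ + Ψ S.X₃)
    (hsmall : ∀ M : X.Modules, Coh.IsCoh M → topologicalKrullDim ↥(CohB1.support M) ≤ ((0 : ℕ) : WithBot ℕ∞) →
      Ψ M = 0)
    (hcurve : ∀ η : X, IsCurvePt η → 0 ≤ Ψ (ClSub.quotMod (VarBase.clIdeal η))) {F : X.Modules}
    (hF : Coh.IsCoh F) (hd : topologicalKrullDim ↥(CohB1.support F) ≤ ((1 : ℕ) : WithBot ℕ∞)) : 0 ≤ Ψ F := by
  rw [VarBase.eq_compSum Ψ hiso 1 hadd
    (fun M hM hlt => hsmall M hM (HilbPoly.le_of_lt_succ (by simpa using hlt))) hF hd, VarBase.compSum]
  refine finsum_nonneg fun η => ?_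
  split_ifs with h
  · exact nsmul_nonneg (hcurve η h) _
  · exact le_rfl

/-- An additive functional nonnegative on curves is monotone on closed subschemes of dimension one. -/
theorem le_of_curves (Ψ : X.Modules → A)
    (hiso : ∀ M N : X.Modules, Nonempty (M ≅ N) → Ψ M = Ψ N)
    (hadd : ∀ S : ShortComplex X.Modules, S.ShortExact → Coh.IsCoh S.X₁ → Coh.IsCoh S.X₂ → Coh.IsCoh S.X₃ →
      Ψ S.X₂ = Ψ S.X₁ + Ψ S.X₃)
    (hsmall : ∀ M : X.Modules, Coh.IsCoh M → topologicalKrullDim ↥(CohB1.support M) ≤ ((0 : ℕ) : WithBot ℕ∞) →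
      Ψ M = 0)
    (hcurve : ∀ η : X, IsCurvePt η → 0 ≤ Ψ (ClSub.quotMod (VarBase.clIdeal η))) {I J : X.IdealSheafData}
    (hIJ : I ≤ J) (hd : topologicalKrullDim ↥(I.support : Set X) ≤ ((1 : ℕ) : WithBot ℕ∞)) :
    Ψ (ClSub.quotMod J) ≤ Ψ (ClSub.quotMod I) := by
  haveI : Epi (ClSub.toSubscheme J) := CurvePoint.epi_toSubscheme J
  let φ : ClSub.quotMod I ⟶ ClSub.quotMod J :=
    (idealSeq_shortExact I).gIsCokernel.desc (CokernelCofork.ofπ (ClSub.toSubscheme J) (idealModι_toSubscheme hIJ))
  have hφ : ClSub.toSubscheme I ≫ φ = ClSub.toSubscheme J :=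
    (idealSeq_shortExact I).gIsCokernel.fac _ WalkingParallelPair.one
  haveI : Epi φ := epi_of_epi_fac hφ
  have hI := ParShLib.isCoh_quotMod I
  have hJ := ParShLib.isCoh_quotMod J
  have hK := QCoh.isCoh_kernel hI hJ φ
  have hS : (ShortComplex.mk (kernel.ι φ) φ (kernel.condition φ)).ShortExact :=
    { exact := ShortComplex.exact_kernel φ, mono_f := inferInstance, epi_g := inferInstance }
  rw [show Ψ (ClSub.quotMod I) = Ψ (kernel φ) + Ψ (ClSub.quotMod J) from hadd _ hS hK hI hJ]
  refine le_add_of_nonneg_left (nonneg_of_curves Ψ hiso hadd hsmall hcurve hK ?_)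
  refine (H23.TopDim.dim_le_dim_of_subset ?_).trans hd
  exact (QCoh.mem_support_of_mono hK.1 hI.1 (kernel.ι φ)).trans (VarBase.support_quotMod_subset I)

end Functional

variable (k : Type u) [Field k] [X.Over (Spec (CommRingCat.of k))] [IsProper (X ↘ Spec (CommRingCat.of k))]

/-- The rational degree against a module, as a functional. -/
def degFun (B : X.Modules) (F : X.Modules) : ℚ := (HilbPoly.iterD [B] (Curv2.euler k X) F : ℤ)

theorem degFun_add {B : X.Modules} (hB : PicF.IsInvertible B) (S : ShortComplex X.Modules) (hS : S.ShortExact)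
    (h1 : Coh.IsCoh S.X₁) (h2 : Coh.IsCoh S.X₂) (h3 : Coh.IsCoh S.X₃) :
    degFun k B S.X₂ = degFun k B S.X₁ + degFun k B S.X₃ := by
  haveI := CurveCohLib.isNoetherian_of_proper (k := k) (X := X)
  simp only [degFun]
  exact_mod_cast ((HilbPoly.additive_iterD (l := [B]) (HilbPoly.additive_euler k) (by simp [hB])).add
    S hS h1 h2 h3)

theorem degFun_iso {B : X.Modules} (hB : PicF.IsInvertible B) {M N : X.Modules} (h : Nonempty (M ≅ N)) :
    degFun k B M = degFun k B N := by
  haveI := CurveCohLib.isNoetherian_of_proper (k := k) (X := X)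
  simp only [degFun]
  exact_mod_cast (HilbPoly.additive_iterD (l := [B]) (HilbPoly.additive_euler k) (by simp [hB])).iso M N h

theorem degFun_eq_zero {B : X.Modules} (hB : PicF.IsInvertible B) {M : X.Modules} (hM : Coh.IsCoh M)
    (hd : topologicalKrullDim ↥(CohB1.support M) ≤ ((0 : ℕ) : WithBot ℕ∞)) : degFun k B M = 0 := by
  simp only [degFun, HilbPoly.iterD]
  exact_mod_cast sub_eq_zero.2 (euler_tensor_of_dim_zero k hB hM hd)

theorem degFun_quotMod (B : X.Modules) (I : X.IdealSheafData) :
    degFun k B (ClSub.quotMod I) = (curveDeg k I B : ℚ) := rfl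

/-- The empty subscheme has degree zero. -/
theorem curveDeg_top {B : X.Modules} (hB : PicF.IsInvertible B) : curveDeg k (⊤ : X.IdealSheafData) B = 0 := by
  haveI := CurveCohLib.isNoetherian_of_proper (k := k) (X := X)
  have hs : CohB1.support (ClSub.quotMod (⊤ : X.IdealSheafData)) = ∅ := by
    rw [support_quotMod_eq, Scheme.IdealSheafData.support_top]; rfl
  have hz := CurveCohLib.isZero_of_subsingleton_stalks (M := ClSub.quotMod (⊤ : X.IdealSheafData))
    fun x => not_not.1 fun hx => Set.eq_empty_iff_forall_notMem.1 hs x hx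
  have hA := HilbPoly.additive_iterD (l := [B]) (HilbPoly.additive_euler (X := X) k) (by simp [hB])
  have h := hA.zero_of_isZero hz
  simp only [HilbPoly.iterD] at h
  unfold curveDeg
  exact h

omit [X.Over (Spec (CommRingCat.of k))] [IsProper (X ↘ Spec (CommRingCat.of k))] in
/-- A nonzero section generates at the generic point. -/
theorem genericPoint_mem_genLocus [IsIntegral X] {M : X.Modules} (hM : PicF.IsInvertible M)
    (s : Coh.structureModule X ⟶ M) (hs : s ≠ 0) : genericPoint X ∈ CohB1.genLocus M s := by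
  obtain ⟨W, hW, e, he⟩ := InvX.exists_frame hM (genericPoint X)
  obtain ⟨g, hg⟩ := he.exists_coord le_rfl (AModX.res M (le_top : W ≤ ⊤) (InvX.one s))
  rw [AModX.res_self] at hg
  by_contra hgen
  have hg0 : g = 0 := by
    refine (basicOpen_eq_bot_iff g).1 (TopologicalSpace.Opens.ext (Set.eq_empty_iff_forall_notMem.2
      fun y hy => ?_))
    exact hgen ((InvX.genLocus_inf s he hg).ge
      (((genericPoint_spec (X : Type u)).specializes (Set.mem_univ y)).mem_open (X.basicOpen g).isOpen hy)).1
  haveI : Nonempty W := ⟨⟨_, hW⟩⟩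
  have hinj := InvEnd.app_injective_of_ne_zero InvX.isInvertible_structureModule hM s hs W
  have h1 : s.app W (show Γ(Coh.structureModule X, W) from (1 : Γ(X, W))) = s.app W 0 := by
    rw [InvX.app_eq_smul, one_smul, hg, hg0, zero_smul, map_zero]
  exact one_ne_zero (α := Γ(X, W)) (hinj h1)

include k in
/-- **Nef modules have nonnegative square.** -/
theorem pair_self_nonneg_of_nef [IsIntegral X] (hdim : topologicalKrullDim X ≤ ((2 : ℕ) : WithBot ℕ∞))
    {H N : X.Modules} (hH : CohB1.IsAmple H) (hN : PicF.IsInvertible N)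
    (hnef : ∀ η : X, IsCurvePt η → 0 ≤ curveDeg k (VarBase.clIdeal η) N)
    (hHH : 0 < pair k H H) :
    0 ≤ pair k N N := by
  haveI := CurveCohLib.isNoetherian_of_proper (k := k) (X := X)
  -- effective classes meet `N` nonnegatively
  have heff : ∀ (P : X.Modules), PicF.IsInvertible P → ∀ t : Coh.structureModule X ⟶ P,
      genericPoint X ∈ CohB1.genLocus P t → 0 ≤ pair k P N :=
    fun P hP t ht => (pair_nonneg_of_section k hdim hP hN t ht hnef).1
  obtain ⟨m, t, ht, -⟩ := hH.2.2 (genericPoint X)
  have hHN : 0 ≤ pair k H N := by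
    have hm := heff _ (InvX.isInvertible_tensorPow hH.1 (m + 1)) t ht
    rw [pair_tensorPow_left k hdim hH.1 hN] at hm
    exact nonneg_of_mul_nonneg_right hm (by positivity)
  by_contra hneg
  obtain ⟨c, hc⟩ := Int.eq_ofNat_of_zero_le (show 0 ≤ -pair k N N by linarith)
  obtain ⟨a, ha⟩ := Int.eq_ofNat_of_zero_le hHN
  have hc1 : 1 ≤ c := by omega
  -- a class of positive square meeting `N` negatively
  suffices key : ∀ q p : ℕ, (q : ℤ) * pair k N N + p * pair k H N < 0 →
      0 < (q : ℤ) * q * pair k N N + 2 * p * q * pair k H N + p * p * pair k H H → False by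
    rcases Nat.eq_zero_or_pos a with rfl | hapos
    · refine key 1 (c + 1) ?_ ?_
      · rw [ha, show pair k N N = -(c : ℤ) by linarith]; push_cast; nlinarith
      · rw [ha, show pair k N N = -(c : ℤ) by linarith]; push_cast; nlinarith
    · obtain ⟨c', rfl⟩ := Nat.exists_eq_add_of_le hc1
      refine key (2 * a) (2 * c' + 1) ?_ ?_
      · rw [ha, show pair k N N = -((1 + c' : ℕ) : ℤ) by linarith]; push_cast; nlinarith
      · rw [ha, show pair k N N = -((1 + c' : ℕ) : ℤ) by linarith]; push_cast
        have : (0 : ℤ) < (2 * c' + 1) * (2 * c' + 1) * pair k H H := by positivity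
        nlinarith [mul_nonneg (mul_nonneg (Int.natCast_nonneg a) (Int.natCast_nonneg a)) (Int.natCast_nonneg c')]
  intro q p hlt hpos
  have hq := InvX.isInvertible_tensorPow hN q
  have hp := InvX.isInvertible_tensorPow hH.1 p
  have hP := InvX.isInvertible_tensorMod hq hp
  let P := CohB1.tensorMod (CohB1.tensorPow N q) (CohB1.tensorPow H p)
  have hPP : 0 < pair k P P := by
    rw [pair_tensor_left k hdim hq hp hP, pair_tensor_right k hdim hq hq hp, pair_tensor_right k hdim hp hq hp,
      pair_tensorPow_tensorPow k hdim hN hN, pair_tensorPow_tensorPow k hdim hN hH.1,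
      pair_tensorPow_tensorPow k hdim hH.1 hN, pair_tensorPow_tensorPow k hdim hH.1 hH.1, pair_comm k N H]
    linarith
  have hPN : pair k P N < 0 := by
    rw [pair_tensor_left k hdim hq hp hN, pair_tensorPow_left k hdim hN hN, pair_tensorPow_left k hdim hH.1 hN]
    exact hlt
  have hPH : 0 < pair k P H := by
    refine lt_of_le_of_ne ?_ (pair_ample_ne_zero k hdim hH hP hPP).symm
    rw [pair_tensor_left k hdim hq hp hH.1, pair_tensorPow_left k hdim hN hH.1, pair_tensorPow_left k hdim hH.1 hH.1,
      pair_comm k N H]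
    exact add_nonneg (mul_nonneg (Int.natCast_nonneg q) hHN) (mul_nonneg (Int.natCast_nonneg p) hHH.le)
  obtain ⟨n₀, hn₀⟩ := exists_nontrivial_h0 k hdim hH hP hPH hPP
  haveI := hn₀ (n₀ + 1) (by omega)
  obtain ⟨s, hs⟩ := exists_mono_of_nontrivial_H0 (InvX.isInvertible_tensorPow hP (n₀ + 1))
  have hs0 : s ≠ 0 := fun h0 => by
    subst h0
    exact CurveEnd.not_isZero _ 1 one_pos
      (InvEnd.isFinLocFreeOfRank_one InvX.isInvertible_structureModule) (IsZero.of_mono_zero _ (CohB1.tensorPow P (n₀ + 1)))
  have h := heff _ (InvX.isInvertible_tensorPow hP (n₀ + 1)) s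
    (genericPoint_mem_genLocus (InvX.isInvertible_tensorPow hP (n₀ + 1)) s hs0)
  rw [pair_tensorPow_left k hdim hP hN] at h
  have := nonneg_of_mul_nonneg_right h (by positivity)
  linarith

/-- An ample module has positive square on an integral surface. -/
theorem pair_self_pos_of_ample [IsIntegral X] (hdim : topologicalKrullDim X = 2) {H : X.Modules}
    (hH : CohB1.IsAmple H) : 0 < pair k H H := by
  haveI := CurveCohLib.isNoetherian_of_proper (k := k) (X := X)
  have h := VarBase.posOn_of_isAmple k hH X (𝟙 X) inferInstance inferInstance 2 (by norm_num) hdim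
  let e' : (Coh.push (𝟙 X)).obj (Coh.structureModule X) ≅ Coh.structureModule X :=
    (Scheme.Modules.pushforwardId X).app _
  change 0 < (Curv2.euler k X (CohB1.tensorMod (CohB1.tensorMod ((Coh.push (𝟙 X)).obj (Coh.structureModule X)) H) H) -
        Curv2.euler k X (CohB1.tensorMod ((Coh.push (𝟙 X)).obj (Coh.structureModule X)) H)) -
      (Curv2.euler k X (CohB1.tensorMod ((Coh.push (𝟙 X)).obj (Coh.structureModule X)) H) -
        Curv2.euler k X ((Coh.push (𝟙 X)).obj (Coh.structureModule X))) at h
  rw [euler_congr k (tMapL (tMapL e' H ≪≫ tUnitL H) H), euler_congr k (tMapL e' H ≪≫ tUnitL H),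
    euler_congr k e'] at h
  unfold pair
  linarith

end Groth.Agent.SurfInt
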