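import Groth.Agent.SurfInt.AffineBoundary
import Groth.Agent.SurfInt.Positivity
import Groth.Agent.VarBase.NakaiCrit
import Groth.Agent.QCoh.DevissageP

/-!
# Regular proper surfaces are projective

A regular proper integral surface over a field has an ample invertible module (Zariski), by Nakai's
criterion applied to the tensor product of boundary divisors of a finite affine cover.
-/

set_option linter.style.haveILetI false
set_option linter.unusedSectionVars false
set_option backward.isDefEq.respectTransparency false
set_option backward.isDefEq.respectTransparency.types false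

universe u

open CategoryTheory CategoryTheory.Limits AlgebraicGeometry TopologicalSpace Opposite

noncomputable section

namespace Groth.Agent.SurfInt

open Groth.Agent Groth.Agent.InvX

variable {X : Scheme.{u}} (k : Type u) [Field k] [X.Over (Spec (CommRingCat.of k))]
  [IsProper (X ↘ Spec (CommRingCat.of k))] [IsIntegral X]

include k in
/-- The tensor product of boundary divisors of finitely many affine opens. -/
theorem exists_posOn_finset (hdim : topologicalKrullDim X = 2)
    (hreg : ∀ x : X, IsRegularLocalRing (X.presheaf.stalk x)) (s : Finset X.affineOpens)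
    (hne : ∀ U ∈ s, (U.1 : Set X).Nonempty) (hs : s.Nonempty) :
    ∃ (L : X.Modules) (_ : PicF.IsInvertible L) (t : Coh.structureModule X ⟶ L),
      genericPoint X ∈ CohB1.genLocus L t ∧
      (∀ η : X, IsCurvePt η → 0 ≤ curveDeg k (VarBase.clIdeal η) L) ∧
      (∀ η : X, IsCurvePt η → (∃ U ∈ s, η ∈ U.1) → 0 < curveDeg k (VarBase.clIdeal η) L) ∧
      0 < pair k L L := by
  haveI := CurveCohLib.isNoetherian_of_proper (k := k) (X := X)
  induction hs using Finset.Nonempty.cons_induction with
  | singleton U =>
    obtain ⟨L, hL, t, ht, hnef, hpos, hpair⟩ :=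
      exists_nef_boundary k hdim hreg U.2 (hne U (Finset.mem_singleton_self U))
    obtain ⟨p, hp⟩ := hne U (Finset.mem_singleton_self U)
    refine ⟨L, hL, t, ht ▸ ((genericPoint_spec (X : Type u)).specializes (Set.mem_univ p)).mem_open U.1.isOpen hp,
      hnef, fun η hη h => ?_, hpair⟩
    obtain ⟨V, hV, hηV⟩ := h
    exact hpos η hη (Finset.mem_singleton.1 hV ▸ hηV)
  | cons U s hUs hs ih =>
    obtain ⟨L, hL, t, ht, hnef, hpos, hpair⟩ := ih fun V hV => hne V (Finset.mem_cons.2 (Or.inr hV))
    obtain ⟨M, hM, t', ht', hnef', hpos', hpair'⟩ :=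
      exists_nef_boundary k hdim hreg U.2 (hne U (Finset.mem_cons_self U s))
    have htgen : genericPoint X ∈ CohB1.genLocus M t' := by
      obtain ⟨p, hp⟩ := hne U (Finset.mem_cons_self U s)
      exact ht' ▸ ((genericPoint_spec (X : Type u)).specializes (Set.mem_univ p)).mem_open U.1.isOpen hp
    have hLM := isInvertible_tensorMod hL hM
    have hadd : ∀ η : X, IsCurvePt η → curveDeg k (VarBase.clIdeal η) (CohB1.tensorMod L M) =
        curveDeg k (VarBase.clIdeal η) L + curveDeg k (VarBase.clIdeal η) M := fun η hη =>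
      curveDeg_tensor k hdim.le (isEffCartier_clIdeal hreg hdim hη) hL hM
    refine ⟨_, hLM, InvX.mulHom t t', ?_, fun η hη => ?_, fun η hη h => ?_, ?_⟩
    · rw [InvX.genLocus_mulHom hL hM]
      exact ⟨ht, htgen⟩
    · rw [hadd η hη]
      exact add_nonneg (hnef η hη) (hnef' η hη)
    · rw [hadd η hη]
      obtain ⟨V, hV, hηV⟩ := h
      rcases Finset.mem_cons.1 hV with rfl | hV
      · exact add_pos_of_nonneg_of_pos (hnef η hη) (hpos' η hη hηV)
      · exact add_pos_of_pos_of_nonneg (hpos η hη ⟨V, hV, hηV⟩) (hnef' η hη)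
    · rw [pair_tensor_left k hdim.le hL hM hLM, pair_tensor_right k hdim.le hL hL hM,
        pair_tensor_right k hdim.le hM hL hM, pair_comm k M L]
      have := (pair_nonneg_of_section k hdim.le hL hM t ht hnef').1
      linarith

include k in
/-- Nakai's criterion on a surface. -/
theorem isAmple_of_pos (hdim : topologicalKrullDim X = 2) {L : X.Modules} (hL : PicF.IsInvertible L)
    (hpos : ∀ η : X, IsCurvePt η → 0 < curveDeg k (VarBase.clIdeal η) L) (hpair : 0 < pair k L L) :
    CohB1.IsAmple L := by
  haveI := CurveCohLib.isNoetherian_of_proper (k := k) (X := X)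
  refine VarBase.isAmple_of_posOn k hL fun Z i hi hZ d hd0 hd => ?_
  haveI := hi
  haveI := hZ
  have hr : Set.range i = closure ({i (genericPoint Z)} : Set X) := range_eq_closure_genericPoint i
  have hdr : topologicalKrullDim ↥(closure ({i (genericPoint Z)} : Set X)) = (d : WithBot ℕ∞) := by
    rw [← hr, dim_range' i, hd]
  have hd2 : d ≤ 2 := by
    have : (d : WithBot ℕ∞) ≤ ((2 : ℕ) : WithBot ℕ∞) :=
      hdr.ge.trans ((topologicalKrullDim_subspace_le ↥X _).trans hdim.le)
    exact_mod_cast this
  interval_cases d
  · have hη : IsCurvePt (i (genericPoint Z)) := hdr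
    obtain ⟨e⟩ := QCoh.push_structure_iso (VarBase.clIdeal (i (genericPoint Z))).subschemeι i
      (by rw [hr, VarBase.range_clIdeal])
    show 0 < Curv2.euler k X (CohB1.tensorMod ((Coh.push i).obj (Coh.structureModule Z)) L) -
      Curv2.euler k X ((Coh.push i).obj (Coh.structureModule Z))
    rw [euler_congr k (tMapL e L), euler_congr k e]
    exact hpos _ hη
  · have hgen : i (genericPoint Z) = genericPoint X := by
      by_contra hne'
      exact absurd (hdr.ge.trans (dim_closure_le_one hdim hne')) (by decide)
    obtain ⟨e⟩ := QCoh.push_structure_iso i (𝟙 X) (by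
      rw [hr, hgen, genericPoint_closure]
      exact Set.range_id)
    let e' : (Coh.push i).obj (Coh.structureModule Z) ≅ Coh.structureModule X :=
      e.symm ≪≫ (Scheme.Modules.pushforwardId X).app _
    show 0 < (Curv2.euler k X (CohB1.tensorMod (CohB1.tensorMod ((Coh.push i).obj (Coh.structureModule Z)) L) L) -
        Curv2.euler k X (CohB1.tensorMod ((Coh.push i).obj (Coh.structureModule Z)) L)) -
      (Curv2.euler k X (CohB1.tensorMod ((Coh.push i).obj (Coh.structureModule Z)) L) -
        Curv2.euler k X ((Coh.push i).obj (Coh.structureModule Z)))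
    rw [euler_congr k (tMapL (tMapL e' L ≪≫ tUnitL L) L), euler_congr k (tMapL e' L ≪≫ tUnitL L), euler_congr k e']
    unfold pair at hpair
    linarith

include k in
/-- **A regular proper integral surface has an ample invertible module.** -/
theorem exists_isAmple (hdim : topologicalKrullDim X = 2)
    (hreg : ∀ x : X, IsRegularLocalRing (X.presheaf.stalk x)) :
    ∃ L : X.Modules, CohB1.IsAmple L := by
  classical
  haveI := CurveCohLib.isNoetherian_of_proper (k := k) (X := X)
  choose W hW hxW hsub using fun x : X =>
    exists_isAffineOpen_mem_and_subset (U := (⊤ : X.Opens)) (x := x) trivial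
  obtain ⟨F, hF⟩ := isCompact_univ.elim_finite_subcover (fun x => (W x : Set X)) (fun x => (W x).2)
    fun x _ => Set.mem_iUnion.2 ⟨x, hxW x⟩
  let s : Finset X.affineOpens := F.image fun x => ⟨W x, hW x⟩
  have hcov : ∀ y : X, ∃ U ∈ s, y ∈ U.1 := fun y => by
    obtain ⟨x, hx, hy⟩ := Set.mem_iUnion₂.1 (hF (Set.mem_univ y))
    exact ⟨_, Finset.mem_image_of_mem _ hx, hy⟩
  have hne : ∀ U ∈ s, (U.1 : Set X).Nonempty := fun U hU => by
    obtain ⟨x, -, rfl⟩ := Finset.mem_image.1 hU
    exact ⟨x, hxW x⟩
  have hs : s.Nonempty := (hcov (genericPoint X)).imp fun U h => h.1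
  obtain ⟨L, hL, -, -, -, hpos, hpair⟩ := exists_posOn_finset k hdim hreg s hne hs
  exact ⟨L, isAmple_of_pos k hdim hL (fun η hη => hpos η hη (hcov η)) hpair⟩

end Groth.Agent.SurfInt
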