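import Groth.Agent.SurfInt.Basic
import Groth.Agent.VanGrowth.Bound
import Groth.Agent.Growth22.Generic
import Groth.Agent.Lib.CurveDuality

/-!
# Vanishing of `H²` of modules of large degree on a surface

`h⁰(F ⊗ H^{-m})` is bounded, `h¹(H^{-m})` grows at most linearly, and a nonzero `H²(L)` bounds
`h⁰(L ⊗ H^j)` by `h²(H^{-j})`. Comparing Euler characteristics bounds the degree of `L`.
-/

set_option linter.style.haveILetI false
set_option linter.unusedSectionVars false
set_option backward.isDefEq.respectTransparency false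
set_option backward.isDefEq.respectTransparency.types false
set_option synthInstance.maxHeartbeats 100000
set_option maxHeartbeats 1000000

universe u

open CategoryTheory CategoryTheory.Limits AlgebraicGeometry TopologicalSpace Opposite

attribute [local instance] HasDerivedCategory.standard

noncomputable section

namespace Groth.Agent.SurfInt

open Groth.Agent
open Groth.Agent.H23.PicMul
open Groth.Agent.PnCoh.Finite (mapLin)

variable {X : Scheme.{u}} (k : Type u) [Field k] [X.Over (Spec (CommRingCat.of k))]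
  [IsProper (X ↘ Spec (CommRingCat.of k))]

theorem tensorPow_inv_cl {H H' : X.Modules} (hinv : PicF.cl H * PicF.cl H' = 1) {p q r m : ℕ}
    (h : p + r = q + m) :
    PicF.cl H ^ p * PicF.cl H' ^ q = PicF.cl H ^ m * PicF.cl H' ^ r := by
  calc PicF.cl H ^ p * PicF.cl H' ^ q
      = PicF.cl H ^ p * PicF.cl H' ^ q * (PicF.cl H * PicF.cl H') ^ r := by rw [hinv, one_pow, mul_one]
    _ = PicF.cl H ^ (p + r) * PicF.cl H' ^ (q + r) := by rw [mul_pow, pow_add, pow_add]; ac_rfl
    _ = PicF.cl H ^ m * PicF.cl H' ^ r * (PicF.cl H * PicF.cl H') ^ q := by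
        rw [h, mul_pow, pow_add, pow_add]; ac_rfl
    _ = PicF.cl H ^ m * PicF.cl H' ^ r := by rw [hinv, one_pow, mul_one]

/-- Sections of a coherent module twisted by negative powers of an ample module are bounded. -/
theorem exists_bound_h0_negTwist {H H' : X.Modules} (hH : CohB1.IsAmple H) (hH' : PicF.IsInvertible H')
    (hinv : PicF.cl H * PicF.cl H' = 1) {F : X.Modules} (hF : Coh.IsCoh F) :
    ∃ C : ℕ, ∀ m, VanGrowth.h0 k (HilbPoly.pw H' F m) ≤ C := by
  haveI := CurveCohLib.isNoetherian_of_proper (k := k) (X := X)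
  have hcoh : ∀ {G : X.Modules}, Coh.IsCoh G → ∀ m, Coh.IsCoh (HilbPoly.pw H' G m) :=
    fun h m => HilbPoly.isCoh_pw hH' h m
  have hmap : ∀ {S : ShortComplex X.Modules}, S.ShortExact → ∀ m,
      (S.map (AmpleVan.tw (CohB1.tensorPow H' m))).ShortExact := fun hS m => by
    haveI := AmpleVan.isEquivalence_tw (InvX.isInvertible_tensorPow hH' m)
    haveI : (AmpleVan.tw (CohB1.tensorPow H' m)).Additive :=
      Functor.additive_of_preserves_binary_products _
    exact hS.map_of_exact _
  refine QCoh.devissage (fun G => ∃ C : ℕ, ∀ m, VanGrowth.h0 k (HilbPoly.pw H' G m) ≤ C)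
    ?_ ?_ (CohB1.support F) ?_ ?_ ?_ hF subset_rfl
  · rintro M N ⟨e⟩ ⟨C, hC⟩
    exact ⟨C, fun m => (HilbPoly.finrank_HH_iso k ((AmpleVan.tw (CohB1.tensorPow H' m)).mapIso e) 0).symm.le.trans
      (hC m)⟩
  · intro M hM
    refine ⟨0, fun m => ?_⟩
    haveI := AmpleVan.isEquivalence_tw (InvX.isInvertible_tensorPow hH' m)
    exact le_of_eq (CurveCohLib.finrank_HH_zero_eq_zero_of_isZero
      ((AmpleVan.tw (CohB1.tensorPow H' m)).map_isZero hM))
  · rintro S hS h₁ h₂ h₃ - ⟨C₁, hC₁⟩ ⟨C₃, hC₃⟩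
    exact ⟨C₁ + C₃, fun m => (VanGrowth.h0_le_add k (hmap hS m) (hcoh h₁ m) (hcoh h₂ m) (hcoh h₃ m)).2.trans
      (add_le_add (hC₁ m) (hC₃ m))⟩
  · intro ξ _ _ Z i _ _ _
    set M := (Coh.push i).obj (Coh.structureModule Z)
    have hM : Coh.IsCoh M := QCoh.isCoh_push_structure i
    obtain ⟨a, ha, s, hs, -⟩ := (AmpleX.isAmple_iff.1 hH).2.2 (i (genericPoint Z))
    have hA := InvX.isInvertible_tensorPow hH.1 a
    refine ⟨∑ r ∈ Finset.range a, VanGrowth.h0 k (HilbPoly.pw H M r), fun m => ?_⟩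
    obtain ⟨q, r, hr, hqr⟩ : ∃ q r : ℕ, r < a ∧ a * q = m + r := by
      refine ⟨(m + a - 1) / a, a - 1 - (m + a - 1) % a, by omega, ?_⟩
      have h1 := Nat.div_add_mod (m + a - 1) a
      have h2 := Nat.mod_lt (m + a - 1) ha
      omega
    refine le_trans ?_ (Finset.single_le_sum (fun r _ => Nat.zero_le (VanGrowth.h0 k (HilbPoly.pw H M r)))
      (Finset.mem_range.2 hr))
    have hξ : i (genericPoint Z) ∈ CohB1.genLocus _ (InvX.powHom s q) := by
      match q with
      | 0 =>
        refine (InvX.le_genLocus (U := ⊤) _ ?_) trivial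
        rw [AModX.res_self]
        exact InvX.isFrame_one ⊤
      | j + 1 => rw [InvX.genLocus_powHom hA]; exact hs
    haveI := VanGrowth.mono_mulHom_push i (InvX.powHom s q) hξ
    haveI := AmpleVan.isEquivalence_tw (InvX.isInvertible_tensorPow hH' m)
    generalize hμ : HilbPoly.mulHom (InvX.powHom s q) M = μ at *
    haveI : Mono ((AmpleVan.tw (CohB1.tensorPow H' m)).map μ) := Functor.map_mono _ _
    obtain ⟨e⟩ := cl_eq_iff.1 (show
        PicF.cl ((AmpleVan.tw (CohB1.tensorPow H' m)).obj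
          (CohB1.tensorMod M (CohB1.tensorPow (CohB1.tensorPow H a) q))) =
        PicF.cl (CohB1.tensorMod M (CohB1.tensorPow H r)) by
      show PicF.cl (CohB1.tensorMod (CohB1.tensorMod _ _) _) = _
      have h := tensorPow_inv_cl hinv (p := a * q) (q := m) (r := 0) (m := r) (by omega)
      rw [pow_zero, mul_one] at h
      simp only [cl_tensor, cl_tensorPow, ← pow_mul, mul_assoc, h])
    exact @VanGrowth.h0_le_of_mono k _ X _ _
      ((AmpleVan.tw (CohB1.tensorPow H' m)).obj M) _
      (HilbPoly.isCoh_pw hH' hM m) (HilbPoly.isCoh_pw hH.1 hM r)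
      ((AmpleVan.tw (CohB1.tensorPow H' m)).map μ ≫ e.hom) (mono_comp _ _)
  · rintro S hS h₁ h₂ h₃ - ⟨C, hC⟩ -
    exact ⟨C, fun m => (VanGrowth.h0_le_add k (hmap hS m) (hcoh h₁ m) (hcoh h₂ m) (hcoh h₃ m)).1.trans (hC m)⟩

variable [IsIntegral X]

/-- `h¹` of the negative powers of an ample module grows at most linearly along a multiple. -/
theorem exists_bound_h1_negPow {H H' : X.Modules} (hH : CohB1.IsAmple H) (hH' : PicF.IsInvertible H')
    (hinv : PicF.cl H * PicF.cl H' = 1) :
    ∃ a C : ℕ, 0 < a ∧ ∀ q : ℕ, Growth22.h k (CohB1.tensorPow H' (a * q)) 1 ≤ C * (q + 1) := by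
  haveI := CurveCohLib.isNoetherian_of_proper (k := k) (X := X)
  obtain ⟨a, ha, s, hs, -⟩ := (AmpleX.isAmple_iff.1 hH).2.2 (genericPoint X)
  have hO : PicF.IsInvertible (Coh.structureModule X) := isInvertible_O X
  have hA := InvX.isInvertible_tensorPow hH.1 a
  have hs0 : s ≠ 0 := by
    rintro rfl
    obtain ⟨W, hxW, e, he⟩ := InvX.exists_frame hA (genericPoint X)
    have h := (InvX.genLocus_inf (0 : Coh.structureModule X ⟶ CohB1.tensorPow H a) he (g := 0) (by
      rw [zero_smul, show InvX.one (0 : Coh.structureModule X ⟶ CohB1.tensorPow H a) = 0 from rfl]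
      exact map_zero _)).le ⟨hs, hxW⟩
    rw [Scheme.basicOpen_zero] at h
    exact h
  haveI := InvEnd.mono_of_ne_zero hO hA s hs0
  let Q := cokernel s
  have hOc := AmpleVan.isCoh_invertible hO
  have hQ : Coh.IsCoh Q := QCoh.isCoh_cokernel hOc.1 (AmpleVan.isCoh_invertible hA) s
  let F := CohB1.tensorMod Q (CohB1.tensorPow H' a)
  have hF : Coh.IsCoh F := AmpleVan.isCoh_tensor hQ (AmpleVan.isCoh_invertible (InvX.isInvertible_tensorPow hH' a))
  obtain ⟨C, hC⟩ := exists_bound_h0_negTwist k hH hH' hinv hF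
  refine ⟨a, C + Growth22.h k (Coh.structureModule X) 1, ha, fun q => ?_⟩
  induction q with
  | zero =>
    obtain ⟨e⟩ : Nonempty (CohB1.tensorPow H' (a * 0) ≅ Coh.structureModule X) :=
      cl_eq_iff.1 (by rw [cl_tensorPow, ← H23.PicMul.one_def, mul_zero, pow_zero])
    rw [Growth22.h_congr k e]
    omega
  | succ q ih =>
    let P := CohB1.tensorPow H' (a * (q + 1))
    have hP : PicF.IsInvertible P := InvX.isInvertible_tensorPow hH' _
    haveI := AmpleVan.isEquivalence_tw hP
    let S₀ : ShortComplex X.Modules := ShortComplex.mk s (cokernel.π s) (cokernel.condition s)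
    have hS₀ : S₀.ShortExact :=
      { exact := ShortComplex.exact_of_g_is_cokernel _ (cokernelIsCokernel s)
        mono_f := inferInstanceAs (Mono s)
        epi_g := inferInstanceAs (Epi (cokernel.π s)) }
    haveI : (AmpleVan.tw P).Additive := Functor.additive_of_preserves_binary_products _
    have hS : (S₀.map (AmpleVan.tw P)).ShortExact := hS₀.map_of_exact _
    have h1 : Coh.IsCoh (S₀.map (AmpleVan.tw P)).X₁ := AmpleVan.isCoh_tensor hOc (AmpleVan.isCoh_invertible hP)
    have h2 : Coh.IsCoh (S₀.map (AmpleVan.tw P)).X₂ :=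
      AmpleVan.isCoh_tensor (AmpleVan.isCoh_invertible hA) (AmpleVan.isCoh_invertible hP)
    have h3 : Coh.IsCoh (S₀.map (AmpleVan.tw P)).X₃ := AmpleVan.isCoh_tensor hQ (AmpleVan.isCoh_invertible hP)
    have h := Growth22.h_X₁_le k hS h1 h2 h3 1
    obtain ⟨e₁⟩ : Nonempty ((S₀.map (AmpleVan.tw P)).X₁ ≅ P) := cl_eq_iff.1 (by
      show PicF.cl (CohB1.tensorMod (Coh.structureModule X) P) = _
      rw [cl_tensor, ← H23.PicMul.one_def, one_mul])
    obtain ⟨e₂⟩ : Nonempty ((S₀.map (AmpleVan.tw P)).X₂ ≅ CohB1.tensorPow H' (a * q)) := cl_eq_iff.1 (by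
      show PicF.cl (CohB1.tensorMod (CohB1.tensorPow H a) P) = _
      simp only [P, cl_tensor, cl_tensorPow]
      rw [tensorPow_inv_cl hinv (p := a) (q := a * (q + 1)) (r := a * q) (m := 0) (by ring), pow_zero, one_mul])
    obtain ⟨e₃⟩ : Nonempty ((S₀.map (AmpleVan.tw P)).X₃ ≅ HilbPoly.pw H' F (a * q)) := cl_eq_iff.1 (by
      show PicF.cl (CohB1.tensorMod Q P) = PicF.cl (CohB1.tensorMod F (CohB1.tensorPow H' (a * q)))
      simp only [P, F, cl_tensor, cl_tensorPow]
      rw [mul_assoc, ← pow_add, mul_add, mul_one, add_comm a])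
    rw [Growth22.h_congr k e₁, Growth22.h_congr k e₂, Growth22.h_congr k e₃] at h
    have hC' : Growth22.h k (HilbPoly.pw H' F (a * q)) (1 - 1) ≤ C := hC (a * q)
    have : (C + Growth22.h k (Coh.structureModule X) 1) * (q + 1 + 1) =
        (C + Growth22.h k (Coh.structureModule X) 1) * (q + 1) + C + Growth22.h k (Coh.structureModule X) 1 := by
      ring
    show Growth22.h k P 1 ≤ _
    omega

/-- A nonzero `H²(M)` bounds `h⁰(D ⊗ M)` by `h²` of the inverse of `D`. -/
theorem h0_le_h2_of_nontrivial (hdim : topologicalKrullDim X ≤ (2 : ℕ)) {L D M : X.Modules}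
    (hL : PicF.IsInvertible L) (hM : PicF.IsInvertible M) (he : PicF.cl L * PicF.cl D = 1)
    [Nontrivial (Coh.HH X M 2)] :
    VanGrowth.h0 k (CohB1.tensorMod D M) ≤ Growth22.h k L 2 := by
  haveI := CurveCohLib.isNoetherian_of_proper (k := k) (X := X)
  haveI : X.IsSeparated := isSeparated_of_proper k (X := X)
  obtain ⟨e⟩ : Nonempty ((DCoh.tensorBi.obj L).obj D ≅ Coh.structureModule X) :=
    cl_eq_iff.1 (show PicF.cl (CohB1.tensorMod L D) = _ by rw [cl_tensor, ← H23.PicMul.one_def, he])
  obtain ⟨x, hx⟩ := exists_ne (0 : Coh.HH X M 2)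
  haveI : Module.Free k (Coh.HH X M 2) := Module.Free.of_divisionRing k _
  obtain ⟨g, hg⟩ : ∃ g : Coh.HH X M 2 →ₗ[k] k, g x ≠ 0 := by
    by_contra h
    push Not at h
    exact hx ((Module.forall_dual_apply_eq_zero_iff k x).1 h)
  haveI := CurveCohLib.finite_HH (k := k) (AmpleVan.isCoh_invertible hL) 2
  let P : Coh.HH X ((DCoh.tensorBi.obj D).obj M) 0 →ₗ[k] Module.Dual k (Coh.HH X L 2) :=
    { toFun := fun t => g ∘ₗ mapLin k (CurveDuality.homOfTwist e M t) 2
      map_add' := fun s t => LinearMap.ext fun y => by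
        show g (mapLin k (CurveDuality.homOfTwist e M (s + t)) 2 y) = _
        have : CurveDuality.homOfTwist e M (s + t) =
            CurveDuality.homOfTwist e M s + CurveDuality.homOfTwist e M t := by
          unfold CurveDuality.homOfTwist
          rw [CurveSpecial.homOfClass_add, Functor.map_add, Preadditive.add_comp, Preadditive.comp_add]
        rw [this, CurveDuality.mapLin_add, map_add]
        rfl
      map_smul' := fun a t => LinearMap.ext fun y => by
        show g (mapLin k (CurveDuality.homOfTwist e M (a • t)) 2 y) =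
          a • g (mapLin k (CurveDuality.homOfTwist e M t) 2 y)
        rw [← map_smul g]
        congr 1
        have hs : (DCoh.tensorBi.obj L).map (Formal.smulMod k ((DCoh.tensorBi.obj D).obj M) a) =
            Formal.smulMod k ((DCoh.tensorBi.obj L).obj ((DCoh.tensorBi.obj D).obj M)) a :=
          CurveLinear.tensor_map_smul L _ _
        have h2 : CurveDuality.homOfTwist e M (a • t) = ((KFlatLib.tensorUnitIso L).inv ≫
            (DCoh.tensorBi.obj L).map (CurveSpecial.homOfClass t)) ≫
            Formal.smulMod k ((DCoh.tensorBi.obj L).obj ((DCoh.tensorBi.obj D).obj M)) a ≫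
              (CurveRR.cancelIso e).hom.app M := by
          unfold CurveDuality.homOfTwist
          rw [CurveSpecial.homOfClass_smul, Functor.map_comp, hs]
          simp only [Category.assoc]
        have h1 : CurveDuality.homOfTwist e M t = ((KFlatLib.tensorUnitIso L).inv ≫
            (DCoh.tensorBi.obj L).map (CurveSpecial.homOfClass t)) ≫ (CurveRR.cancelIso e).hom.app M := by
          unfold CurveDuality.homOfTwist
          rw [Category.assoc]
        rw [h2, h1]
        simp only [← FFun.mapLin_comp, FFun.mapLin_smulMod, map_smul] }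
  have hinj : Function.Injective P := by
    rw [injective_iff_map_eq_zero]
    intro t ht
    by_contra hne
    let φ := CurveDuality.homOfTwist e M t
    haveI : Mono φ := InvEnd.mono_of_ne_zero hL hM φ (CurveDuality.homOfTwist_ne_zero e hne)
    let S : ShortComplex X.Modules := ShortComplex.mk φ (cokernel.π φ) (cokernel.condition φ)
    have hS : S.ShortExact :=
      { exact := ShortComplex.exact_of_g_is_cokernel _ (cokernelIsCokernel φ)
        mono_f := inferInstanceAs (Mono φ)
        epi_g := inferInstanceAs (Epi (cokernel.π φ)) }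
    obtain ⟨C, hC, hCs⟩ := Growth22.small_cokernel_of_mono k hdim (AmpleVan.isCoh_invertible hL)
      (AmpleVan.isCoh_invertible hM) φ (Growth22.generic_notMem_cokernel hL hM φ)
    haveI : Subsingleton (Coh.HH X S.X₃ 2) := Snapper.subsingleton_HH_of_dim_lt 2 C hC _
      (QCoh.isQCoh_cokernel (AmpleVan.isCoh_invertible hL).1 (AmpleVan.isCoh_invertible hM).1 φ) hCs 2 le_rfl
    have hsur : x ∈ LinearMap.range (mapLin k S.f 2) := by
      rw [Euler.range_mapLin_f k hS 2, LinearMap.mem_ker]
      exact Subsingleton.elim _ _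
    obtain ⟨y, hy⟩ := hsur
    refine hg ?_
    rw [← hy]
    exact LinearMap.congr_fun ht y
  refine le_trans (le_of_eq ?_) ((LinearMap.finrank_le_finrank_of_injective hinj).trans
    (le_of_eq Subspace.dual_finrank_eq))
  rfl

/-- For fixed ample `H`, modules of large degree have no `H²`. -/
theorem exists_bound_h2_vanish (hdim : topologicalKrullDim X ≤ (2 : ℕ)) {H : X.Modules} (hH : CohB1.IsAmple H) :
    ∃ n₀ : ℤ, ∀ L : X.Modules, PicF.IsInvertible L → n₀ < pair k L H → Subsingleton (Coh.HH X L 2) := by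
  haveI := CurveCohLib.isNoetherian_of_proper (k := k) (X := X)
  obtain ⟨H', hH', ⟨eH⟩⟩ := H23.PicInv.exists_inverse hH.1
  have hinv : PicF.cl H * PicF.cl H' = 1 := by rw [← cl_tensor, H23.PicMul.one_def]; exact cl_eq_iff.2 ⟨eH⟩
  obtain ⟨a, C, ha, hC⟩ := exists_bound_h1_negPow k hH hH' hinv
  let d : ℤ := Curv2.euler k X H - Curv2.euler k X H'
  refine ⟨|d| + C, fun L hL hlt => not_nontrivial_iff_subsingleton.1 fun hne => ?_⟩
  haveI := hne
  obtain ⟨j₀, hj₀⟩ := AmpleVan.exists_vanishing (A := k) hH (AmpleVan.isCoh_invertible hL)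
  let K : ℤ := |Curv2.euler k X L - Curv2.euler k X (Coh.structureModule X)|
  obtain ⟨q, hqj, hqK⟩ : ∃ q : ℕ, j₀ ≤ a * q ∧ K + C < (q : ℤ) := by
    refine ⟨j₀ + (K + C).toNat + 1, ?_, by omega⟩
    calc j₀ ≤ j₀ + (K + C).toNat + 1 := by omega
      _ ≤ a * _ := Nat.le_mul_of_pos_left _ ha
  set j := a * q with hj
  have hHj := InvX.isInvertible_tensorPow hH.1 j
  have hH'j := InvX.isInvertible_tensorPow hH' j
  have hkey := h0_le_h2_of_nontrivial k hdim (L := CohB1.tensorPow H' j) (D := CohB1.tensorPow H j) (M := L) hH'j hL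
    (by rw [cl_tensorPow, cl_tensorPow, ← mul_pow, mul_comm, hinv, one_pow])
  -- `χ(L ⊗ H^j)` is the number of sections
  have hχ : Curv2.euler k X (CohB1.tensorMod L (CohB1.tensorPow H j)) =
      (VanGrowth.h0 k (CohB1.tensorMod L (CohB1.tensorPow H j)) : ℤ) := by
    rw [Euler.euler_eq_sum k _ 1 fun i hi => ?_]
    · simp
    · obtain ⟨i', rfl⟩ : ∃ i', i = i' + 1 := ⟨i - 1, by omega⟩
      exact hj₀ j hqj i'
  have hswap : VanGrowth.h0 k (CohB1.tensorMod (CohB1.tensorPow H j) L) =
      VanGrowth.h0 k (CohB1.tensorMod L (CohB1.tensorPow H j)) :=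
    (Growth22.mapEquiv k (tComm (CohB1.tensorPow H j) L) 0).finrank_eq
  -- `h²(H^{-j}) ≤ χ(H^{-j}) + h¹(H^{-j})`
  have hχ' : (Growth22.h k (CohB1.tensorPow H' j) 2 : ℤ) ≤
      Curv2.euler k X (CohB1.tensorPow H' j) + Growth22.h k (CohB1.tensorPow H' j) 1 := by
    rw [← eulerCharLE_two k hdim (AmpleVan.isCoh_invertible hH'j).1]
    unfold FGA.eulerCharLE
    simp only [Finset.sum_range_succ, Finset.sum_range_zero, Growth22.h]
    ring_nf
    omega
  have hh1 : (Growth22.h k (CohB1.tensorPow H' j) 1 : ℤ) ≤ C * (q + 1) := by exact_mod_cast hC q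
  have hL1 := euler_tensor_eq k L (CohB1.tensorPow H j)
  rw [pair_comm, pair_tensorPow_left k hdim hH.1 hL, pair_comm k H L] at hL1
  have hA := two_mul_euler_tensorPow k hdim hH.1 j
  have hB := two_mul_euler_tensorPow k hdim hH' j
  have hp1 : pair k H' H' = pair k H H := by
    rw [pair_inverse_left k hdim hH.1 hH' hH' eH, pair_comm k H H', pair_inverse_left k hdim hH.1 hH' hH.1 eH]
    ring
  rw [hp1] at hB
  have hkey' : (VanGrowth.h0 k (CohB1.tensorMod L (CohB1.tensorPow H j)) : ℤ) ≤
      Growth22.h k (CohB1.tensorPow H' j) 2 := by exact_mod_cast hswap ▸ hkey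
  have hjq : (j : ℤ) = a * q := by rw [hj]; push_cast; ring
  have hmain : (j : ℤ) * (pair k L H + d) ≤ K + C * (q + 1) := by
    have hK : Curv2.euler k X (Coh.structureModule X) - Curv2.euler k X L ≤ K :=
      (le_abs_self _).trans_eq (abs_sub_comm _ _)
    have e : Curv2.euler k X (CohB1.tensorPow H j) - Curv2.euler k X (CohB1.tensorPow H' j) = (j : ℤ) * d := by
      have e2 : 2 * (Curv2.euler k X (CohB1.tensorPow H j) - Curv2.euler k X (CohB1.tensorPow H' j)) =
          2 * ((j : ℤ) * d) := by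
        rw [mul_sub, hA, hB]
        simp only [d]
        ring
      linarith
    rw [mul_add]
    linarith [hL1, hχ, hχ', hh1, hkey', e]
  have hd : -|d| ≤ d := neg_abs_le d
  have hbig : (C : ℤ) + 1 ≤ pair k L H + d := by omega
  have h1 : (q : ℤ) * (C + 1) ≤ (j : ℤ) * (pair k L H + d) := by
    rw [hjq]
    have ha1 : (1 : ℤ) ≤ a := by exact_mod_cast ha
    have hC0 : (0 : ℤ) ≤ C + 1 := by positivity
    have hq0 : (0 : ℤ) ≤ q := by positivity
    calc (q : ℤ) * (C + 1) = 1 * q * (C + 1) := by ring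
      _ ≤ a * q * (C + 1) := by gcongr
      _ ≤ a * q * (pair k L H + d) := mul_le_mul_of_nonneg_left hbig (by positivity)
  nlinarith

end Groth.Agent.SurfInt
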