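import Groth.Agent.SurfInt.H2Bound
import Groth.Agent.VarBase.NegTwist
import Groth.Agent.AmpleVan.Tw
import Groth.Agent.FlatLoc6.FiberRing

/-!
# Riemann–Roch on a surface with an invertible dualizing module

Only the duality between `H²` and homomorphisms to `ω` is used: the difference
`χ(L) - χ(ω ⊗ L⁻¹)` is affine along `L ⊗ Hⁿ`, and vanishes for `n ≫ 0` by the vanishing theorems of
Serre, in negative degree through the depth of the local rings.
-/

set_option linter.style.haveILetI false
set_option linter.unusedSectionVars false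
set_option backward.isDefEq.respectTransparency false
set_option backward.isDefEq.respectTransparency.types false
set_option synthInstance.maxHeartbeats 100000
set_option maxHeartbeats 1000000

universe u

open CategoryTheory CategoryTheory.Limits AlgebraicGeometry TopologicalSpace Opposite

attribute [local instance] HasDerivedCategory.standard

noncomputable section

namespace Groth.Agent.SurfInt

open Groth.Agent
open Groth.Agent.H23.PicMul
open Groth.Agent.PnCoh.Finite (mapLin)

variable {X : Scheme.{u}}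

/-- Every homomorphism out of the structure module comes from a class. -/
theorem homOfClass_surjective {P : X.Modules} (g : Coh.structureModule X ⟶ P) :
    ∃ t : Coh.HH X P 0, CurveSpecial.homOfClass t = g := by
  refine ⟨(Sheaf.H.equiv₀ (Coh.toAb P) isTerminalTop).symm (g.app ⊤ (1 : Γ(X, ⊤))), ?_⟩
  apply (SheafOfModules.unitHomEquiv P).injective
  apply Subtype.ext
  funext W
  have h := Scheme.Modules.Hom.app_smul (M := Coh.structureModule X)
    (CurveSpecial.homOfClass ((Sheaf.H.equiv₀ (Coh.toAb P) isTerminalTop).symm (g.app ⊤ (1 : Γ(X, ⊤)))))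
    (1 : Γ(X, W.unop)) (1 : Γ(X, W.unop))
  show (CurveSpecial.homOfClass _).app W.unop (1 : Γ(X, W.unop)) = g.app W.unop (1 : Γ(X, W.unop))
  unfold CurveSpecial.homOfClass
  rw [QCoh.homOfTop_app, one_smul, AddEquiv.apply_symm_apply]
  have hn := ConcreteCategory.congr_hom (g.mapPresheaf.naturality (homOfLE (le_top (a := W.unop))).op)
    (1 : Γ(X, ⊤))
  refine Eq.trans hn.symm ?_
  show g.app W.unop ((X.presheaf.map _).hom (1 : Γ(X, ⊤))) = _
  rw [map_one]

/-- Twisting gives every homomorphism `L ⟶ M`. -/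
theorem homOfTwist_surjective {L D : X.Modules}
    (e : (DCoh.tensorBi.obj L).obj D ≅ Coh.structureModule X) (M : X.Modules) (φ : L ⟶ M) :
    ∃ t, CurveDuality.homOfTwist e M t = φ := by
  haveI : (DCoh.tensorBi.obj L).IsEquivalence :=
    (CategoryTheory.Equivalence.mk (DCoh.tensorBi.obj L) (DCoh.tensorBi.obj D)
      (CurveRR.cancelIso (CurveTensor.commIso D L ≪≫ e)).symm (CurveRR.cancelIso e)).isEquivalence_functor
  obtain ⟨g, hg⟩ := (DCoh.tensorBi.obj L).map_surjective
    ((KFlatLib.tensorUnitIso L).hom ≫ φ ≫ (CurveRR.cancelIso e).inv.app M)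
  obtain ⟨t, rfl⟩ := homOfClass_surjective g
  refine ⟨t, ?_⟩
  unfold CurveDuality.homOfTwist
  rw [hg]
  simp

variable (k : Type u) [Field k] [X.Over (Spec (CommRingCat.of k))]

/-- `h²(L) = h⁰(L⁻¹ ⊗ ω)` for a module `ω` representing the dual of `H²`. -/
theorem finrank_h2_eq_h0 [IsProper (X ↘ Spec (CommRingCat.of k))] {ω : X.Modules}
    (t : Coh.HH X ω 2 →ₗ[k] k)
    (hdual : ∀ F : X.Modules, Coh.IsCoh F → ∀ ψ : Coh.HH X F 2 →ₗ[k] k,
        ∃! φ : F ⟶ ω, ∀ x : Coh.HH X F 2,
          ψ x = t (Sheaf.H.map ((SheafOfModules.toSheaf X.ringCatSheaf).map φ) 2 x))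
    {L D : X.Modules} (hL : PicF.IsInvertible L) (he : PicF.cl L * PicF.cl D = 1) :
    Module.finrank k (Coh.HH X L 2) = Module.finrank k (Coh.HH X (CohB1.tensorMod D ω) 0) := by
  haveI := CurveCohLib.isNoetherian_of_proper (k := k) (X := X)
  obtain ⟨e⟩ : Nonempty ((DCoh.tensorBi.obj L).obj D ≅ Coh.structureModule X) :=
    cl_eq_iff.1 (show PicF.cl (CohB1.tensorMod L D) = _ by rw [cl_tensor, ← H23.PicMul.one_def, he])
  haveI := CurveCohLib.finite_HH (k := k) (AmpleVan.isCoh_invertible hL) 2
  let P : Coh.HH X ((DCoh.tensorBi.obj D).obj ω) 0 →ₗ[k] Module.Dual k (Coh.HH X L 2) :=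
    { toFun := fun s => t ∘ₗ mapLin k (CurveDuality.homOfTwist e ω s) 2
      map_add' := fun s s' => LinearMap.ext fun y => by
        show t (mapLin k (CurveDuality.homOfTwist e ω (s + s')) 2 y) = _
        have : CurveDuality.homOfTwist e ω (s + s') =
            CurveDuality.homOfTwist e ω s + CurveDuality.homOfTwist e ω s' := by
          unfold CurveDuality.homOfTwist
          rw [CurveSpecial.homOfClass_add, Functor.map_add, Preadditive.add_comp, Preadditive.comp_add]
        rw [this, CurveDuality.mapLin_add, map_add]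
        rfl
      map_smul' := fun a s => LinearMap.ext fun y => by
        show t (mapLin k (CurveDuality.homOfTwist e ω (a • s)) 2 y) =
          a • t (mapLin k (CurveDuality.homOfTwist e ω s) 2 y)
        rw [← map_smul t]
        congr 1
        have hs : (DCoh.tensorBi.obj L).map (Formal.smulMod k ((DCoh.tensorBi.obj D).obj ω) a) =
            Formal.smulMod k ((DCoh.tensorBi.obj L).obj ((DCoh.tensorBi.obj D).obj ω)) a :=
          CurveLinear.tensor_map_smul L _ _
        have h2 : CurveDuality.homOfTwist e ω (a • s) = ((KFlatLib.tensorUnitIso L).inv ≫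
            (DCoh.tensorBi.obj L).map (CurveSpecial.homOfClass s)) ≫
            Formal.smulMod k ((DCoh.tensorBi.obj L).obj ((DCoh.tensorBi.obj D).obj ω)) a ≫
              (CurveRR.cancelIso e).hom.app ω := by
          unfold CurveDuality.homOfTwist
          rw [CurveSpecial.homOfClass_smul, Functor.map_comp, hs]
          simp only [Category.assoc]
        have h1 : CurveDuality.homOfTwist e ω s = ((KFlatLib.tensorUnitIso L).inv ≫
            (DCoh.tensorBi.obj L).map (CurveSpecial.homOfClass s)) ≫ (CurveRR.cancelIso e).hom.app ω := by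
          unfold CurveDuality.homOfTwist
          rw [Category.assoc]
        rw [h2, h1]
        simp only [← FFun.mapLin_comp, FFun.mapLin_smulMod, map_smul] }
  have hLc := AmpleVan.isCoh_invertible hL
  have hP : Function.Bijective P := by
    constructor
    · rw [injective_iff_map_eq_zero]
      intro s hs
      by_contra hne
      refine CurveDuality.homOfTwist_ne_zero e hne ((hdual L hLc 0).unique ?_ ?_)
      · exact fun y => (LinearMap.congr_fun hs y).symm
      · intro y
        show (0 : k) = t (mapLin k (0 : L ⟶ ω) 2 y)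
        rw [CurveDuality.mapLin_zero]
        simp
    · intro ψ
      obtain ⟨φ, hφ, -⟩ := hdual L hLc ψ
      obtain ⟨s, rfl⟩ := homOfTwist_surjective e ω φ
      exact ⟨s, LinearMap.ext fun y => (hφ y).symm⟩
  rw [← Subspace.dual_finrank_eq (K := k) (V := Coh.HH X L 2)]
  exact (LinearEquiv.ofBijective P hP).finrank_eq.symm

/-- Three terms. -/
theorem euler_eq_three [IsProper (X ↘ Spec (CommRingCat.of k))] (hdim : topologicalKrullDim X ≤ (2 : ℕ))
    {M : X.Modules} (hM : Coh.IsQCoh M) :
    Curv2.euler k X M = (Module.finrank k (Coh.HH X M 0) : ℤ) - Module.finrank k (Coh.HH X M 1) +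
      Module.finrank k (Coh.HH X M 2) := by
  rw [← eulerCharLE_two k hdim hM]
  unfold FGA.eulerCharLE
  simp [Finset.sum_range_succ]
  ring

/-- Riemann–Roch from duality in the top degree, depth two and an ample module. -/
theorem euler_eq_euler_dual [IsProper (X ↘ Spec (CommRingCat.of k))]
    (hdim : topologicalKrullDim X ≤ (2 : ℕ)) {ω : X.Modules} (hω : PicF.IsInvertible ω)
    (t : Coh.HH X ω 2 →ₗ[k] k)
    (hdual : ∀ F : X.Modules, Coh.IsCoh F → ∀ ψ : Coh.HH X F 2 →ₗ[k] k,
        ∃! φ : F ⟶ ω, ∀ x : Coh.HH X F 2,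
          ψ x = t (Sheaf.H.map ((SheafOfModules.toSheaf X.ringCatSheaf).map φ) 2 x))
    {H : X.Modules} (hH : CohB1.IsAmple H)
    (hdepth : ∀ x : X, IsClosed ({x} : Set X) →
      (1 : ℕ∞) < LocCoh.depth (X.presheaf.stalk x) (X.presheaf.stalk x))
    {L N : X.Modules} (hL : PicF.IsInvertible L) (hN : PicF.IsInvertible N)
    (hLN : PicF.cl L * PicF.cl N = PicF.cl ω) :
    Curv2.euler k X L = Curv2.euler k X N := by
  haveI := CurveCohLib.isNoetherian_of_proper (k := k) (X := X)
  obtain ⟨H', hH', ⟨eH⟩⟩ := H23.PicInv.exists_inverse hH.1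
  have hinv : PicF.cl H * PicF.cl H' = 1 := by rw [← cl_tensor, H23.PicMul.one_def]; exact cl_eq_iff.2 ⟨eH⟩
  obtain ⟨ω', hω', ⟨eω⟩⟩ := H23.PicInv.exists_inverse hω
  have hωω : PicF.cl ω * PicF.cl ω' = 1 := by rw [← cl_tensor, H23.PicMul.one_def]; exact cl_eq_iff.2 ⟨eω⟩
  have hLc := AmpleVan.isCoh_invertible hL
  have hNc := AmpleVan.isCoh_invertible hN
  obtain ⟨j₀, hj₀⟩ := AmpleVan.exists_vanishing (A := k) hH hLc
  obtain ⟨j₁, hj₁⟩ := VarBase.NegTwist.exists_vanish k hH (show ClSub.IsInverseOf H H' from ⟨eH⟩) hNc 1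
    (fun x hx => by
      obtain ⟨U, hxU, s, hs⟩ := InvX.exists_frame hN x
      let φ : X.presheaf.stalk x ≃ₗ[X.presheaf.stalk x] N.presheaf.stalk x :=
        LinearEquiv.ofBijective
          (LinearMap.toSpanSingleton (X.presheaf.stalk x) (N.presheaf.stalk x) ((N.presheaf.germ U x hxU).hom s))
          (hs.germ_bijective hxU)
      rw [← FlatLoc6.depth_congr' φ]
      exact hdepth x hx)
  have hg : ∀ n, j₀ ≤ n → j₁ ≤ n →
      Curv2.euler k X (CohB1.tensorMod L (CohB1.tensorPow H n)) =
        Curv2.euler k X (CohB1.tensorMod N (CohB1.tensorPow H' n)) := by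
    intro n h0 h1
    have hHn := InvX.isInvertible_tensorPow hH.1 n
    have hH'n := InvX.isInvertible_tensorPow hH' n
    have hNn := isInvertible_tensor hN hH'n
    have c1 := AmpleVan.isCoh_tensor hLc (AmpleVan.isCoh_invertible hHn)
    have c2 := AmpleVan.isCoh_tensor hNc (AmpleVan.isCoh_invertible hH'n)
    haveI := hj₀ n h0 0
    haveI := hj₀ n h0 1
    haveI := hj₁ n h1 0 (by omega)
    haveI := hj₁ n h1 1 le_rfl
    have key := finrank_h2_eq_h0 k t hdual hNn (D := CohB1.tensorMod (CohB1.tensorMod L ω') (CohB1.tensorPow H n)) (by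
      simp only [cl_tensor, cl_tensorPow]
      calc PicF.cl N * PicF.cl H' ^ n * (PicF.cl L * PicF.cl ω' * PicF.cl H ^ n)
          = (PicF.cl L * PicF.cl N) * PicF.cl ω' * (PicF.cl H * PicF.cl H') ^ n := by rw [mul_pow]; ac_rfl
        _ = 1 := by rw [hLN, hωω, hinv, one_pow, mul_one])
    obtain ⟨f⟩ := cl_eq_iff.1 (show
        PicF.cl (CohB1.tensorMod (CohB1.tensorMod (CohB1.tensorMod L ω') (CohB1.tensorPow H n)) ω) =
        PicF.cl (CohB1.tensorMod L (CohB1.tensorPow H n)) by
      simp only [cl_tensor, cl_tensorPow]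
      calc PicF.cl L * PicF.cl ω' * PicF.cl H ^ n * PicF.cl ω
          = PicF.cl L * PicF.cl H ^ n * (PicF.cl ω * PicF.cl ω') := by ac_rfl
        _ = _ := by rw [hωω, mul_one])
    rw [HilbPoly.finrank_HH_iso k f 0] at key
    rw [euler_eq_three k hdim c1.1, euler_eq_three k hdim c2.1, key]
    simp [Module.finrank_zero_of_subsingleton]
  have hLH : ∀ n, Curv2.euler k X (CohB1.tensorMod L (CohB1.tensorPow H n)) =
      Curv2.euler k X L + Curv2.euler k X (CohB1.tensorPow H n) - Curv2.euler k X (Coh.structureModule X) +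
        n * pair k L H := fun n => by
    rw [euler_tensor_eq k L (CohB1.tensorPow H n), pair_comm, pair_tensorPow_left k hdim hH.1 hL, pair_comm k H L]
  have hNH : ∀ n, Curv2.euler k X (CohB1.tensorMod N (CohB1.tensorPow H' n)) =
      Curv2.euler k X N + Curv2.euler k X (CohB1.tensorPow H' n) - Curv2.euler k X (Coh.structureModule X) +
        n * pair k N H' := fun n => by
    rw [euler_tensor_eq k N (CohB1.tensorPow H' n), pair_comm, pair_tensorPow_left k hdim hH' hN, pair_comm k H' N]
  have hp1 : pair k H' H' = pair k H H := pair_inverse_both k hdim hH.1 hH' hH.1 hH' eH eH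
  have q1 := fun n => two_mul_euler_tensorPow k hdim hH.1 n
  have q2 := fun n => two_mul_euler_tensorPow k hdim hH' n
  have d : ∀ n : ℕ, j₀ ≤ n → j₁ ≤ n → (Curv2.euler k X L - Curv2.euler k X N) +
      n * (Curv2.euler k X H - Curv2.euler k X H' + pair k L H - pair k N H') = 0 := fun n h0 h1 => by
    have := hg n h0 h1
    rw [hLH, hNH] at this
    have a := q1 n
    have b := q2 n
    rw [hp1] at b
    linarith
  have a := d (j₀ + j₁) (by omega) (by omega)
  have b := d (j₀ + j₁ + 1) (by omega) (by omega)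
  rw [Nat.cast_succ, add_one_mul, ← add_assoc, a, zero_add] at b
  rw [b, mul_zero, add_zero] at a
  linarith

/-- The Riemann–Roch formula. -/
theorem two_mul_euler_of_dualizing [IsProper (X ↘ Spec (CommRingCat.of k))]
    (hdim : topologicalKrullDim X ≤ (2 : ℕ)) {ω : X.Modules} (hω : PicF.IsInvertible ω)
    (t : Coh.HH X ω 2 →ₗ[k] k)
    (hdual : ∀ F : X.Modules, Coh.IsCoh F → ∀ ψ : Coh.HH X F 2 →ₗ[k] k,
        ∃! φ : F ⟶ ω, ∀ x : Coh.HH X F 2,
          ψ x = t (Sheaf.H.map ((SheafOfModules.toSheaf X.ringCatSheaf).map φ) 2 x))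
    {H : X.Modules} (hH : CohB1.IsAmple H)
    (hdepth : ∀ x : X, IsClosed ({x} : Set X) →
      (1 : ℕ∞) < LocCoh.depth (X.presheaf.stalk x) (X.presheaf.stalk x))
    {L : X.Modules} (hL : PicF.IsInvertible L) :
    2 * Curv2.euler k X L = FGA.intNum k X 2 ![L, L] (Coh.structureModule X) -
      FGA.intNum k X 2 ![L, ω] (Coh.structureModule X) + 2 * Curv2.euler k X (Coh.structureModule X) := by
  rw [intNum_eq_pair k hdim hL hL, intNum_eq_pair k hdim hL hω]
  obtain ⟨L', hL', ⟨eL⟩⟩ := H23.PicInv.exists_inverse hL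
  have hN := isInvertible_tensor hL' hω
  have h1 := euler_eq_euler_dual k hdim hω t hdual hH hdepth hL hN (by
    rw [cl_tensor, ← mul_assoc, ← cl_tensor, cl_eq_iff.2 ⟨eL⟩, ← H23.PicMul.one_def, one_mul])
  have h0 := euler_eq_euler_dual k hdim hω t hdual hH hdepth (isInvertible_O X) hω (by
    rw [← H23.PicMul.one_def, one_mul])
  have h2 := euler_tensor_eq k L (CohB1.tensorMod L' ω)
  obtain ⟨f⟩ := cl_eq_iff.1 (show PicF.cl (CohB1.tensorMod L (CohB1.tensorMod L' ω)) = PicF.cl ω by
    rw [cl_tensor, cl_tensor, ← mul_assoc, ← cl_tensor, cl_eq_iff.2 ⟨eL⟩, ← H23.PicMul.one_def, one_mul])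
  have h3 := pair_inverse_left k hdim hL hL' hL eL
  rw [euler_congr k f, pair_tensor_right k hdim hL hL' hω, pair_comm k L L', h3, ← h1, ← h0] at h2
  linarith

end Groth.Agent.SurfInt
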