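import Groth.Agent.SurfInt.Embed
import Groth.Agent.SurfInt.RRDual
import Groth.Agent.SurfInt.Ample
import Groth.Agent.OmegaTop.Duality
import Groth.Agent.CurveCohLib.RegularCurve
import Groth.Agent.GrpSchLib.FieldSmooth
import Groth.Agent.CIntLib.FibDepth
import Groth.Agent.LC.GorRows
import Groth.Agent.SurfInt.InterCM

/-!
# Riemann–Roch on smooth proper surfaces over an algebraically closed field
-/

set_option linter.style.haveILetI false
set_option linter.unusedSectionVars false
set_option backward.isDefEq.respectTransparency false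
set_option backward.isDefEq.respectTransparency.types false
set_option maxHeartbeats 1000000

universe u

open CategoryTheory CategoryTheory.Limits AlgebraicGeometry TopologicalSpace Opposite

noncomputable section

namespace Groth.Agent.SurfInt

open Groth.Agent
open Groth.Agent.H23.PicMul

variable (k : Type u) [Field k] [IsAlgClosed k] {X : Scheme.{u}} [X.Over (Spec (CommRingCat.of k))]
  [IsIntegral X] [IsProper (X ↘ Spec (CommRingCat.of k))]

/-- The canonical module of a smooth proper surface represents the dual of `H²`. -/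
theorem exists_dual_top (hdim : topologicalKrullDim X = 2) [Smooth (X ↘ Spec (CommRingCat.of k))]
    {W : X.Modules} (hW : ExtPow.IsExtPow 2 (Omega.sheaf (X ↘ Spec (CommRingCat.of k))) W) :
    ∃ t : Coh.HH X W 2 →ₗ[k] k, ∀ F : X.Modules, Coh.IsCoh F → ∀ ψ : Coh.HH X F 2 →ₗ[k] k,
      ∃! φ : F ⟶ W, ∀ x : Coh.HH X F 2,
        ψ x = t (Sheaf.H.map ((SheafOfModules.toSheaf X.ringCatSheaf).map φ) 2 x) := by
  haveI := smoothOfRelativeDimension_of_dim k (X := X) 2 hdim
  have hreg := fun x => GrpSchLib.isRegularLocalRing_stalk_of_smooth (X ↘ Spec (CommRingCat.of k)) x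
  obtain ⟨H, hH⟩ := exists_isAmple k hdim hreg
  obtain ⟨n₀, hn⟩ := exists_embedding_twist k hH (isInvertible_O X)
  obtain ⟨N, j, hj, hjs, -⟩ := hn n₀ le_rfl
  haveI := hj
  obtain ⟨t, -, ht⟩ := OmegaTop.exists_isRDualOver_topForms 2 j hjs hW
  refine ⟨t, fun F hF ψ => ?_⟩
  obtain ⟨φ, hφ, hu⟩ := (ht F hF.1).existsUnique ψ
  exact ⟨φ, fun x => (LinearMap.congr_fun hφ x).symm, fun φ' hφ' => hu φ' (LinearMap.ext fun x => (hφ' x).symm)⟩

/-- **Riemann–Roch** on a smooth proper integral surface. -/
theorem riemann_roch (hdim : topologicalKrullDim X = 2) [Smooth (X ↘ Spec (CommRingCat.of k))]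
    {W : X.Modules} (hW : ExtPow.IsExtPow 2 (Omega.sheaf (X ↘ Spec (CommRingCat.of k))) W)
    {L : X.Modules} (hL : PicF.IsInvertible L) :
    2 * Curv2.euler k X L = FGA.intNum k X 2 ![L, L] (Coh.structureModule X) -
      FGA.intNum k X 2 ![L, W] (Coh.structureModule X) + 2 * Curv2.euler k X (Coh.structureModule X) := by
  haveI := smoothOfRelativeDimension_of_dim k (X := X) 2 hdim
  have hreg := fun x => GrpSchLib.isRegularLocalRing_stalk_of_smooth (X ↘ Spec (CommRingCat.of k)) x
  obtain ⟨H, hH⟩ := exists_isAmple k hdim hreg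
  obtain ⟨t, ht⟩ := exists_dual_top k hdim hW
  refine two_mul_euler_of_dualizing k (dim_le_of_eq hdim)
    (CanonDual.isInvertible_of_isTopDiff (X ↘ Spec (CommRingCat.of k)) 2 hW) t ht hH (fun x hx => ?_) hL
  haveI := hreg x
  haveI := LC.gorenstein_of_isRegularLocalRing (R := X.presheaf.stalk x)
  haveI : LocCoh.IsCohenMacaulayLocalRing (X.presheaf.stalk x) := LC.isCohenMacaulayLocalRing_of_gorenstein
  have h2 : ((2 : ℕ) : WithBot ℕ∞) ≤ ringKrullDim (X.presheaf.stalk x) :=
    le_ringKrullDim_stalk k hx isClosed_univ (IrreducibleSpace.isIrreducible_univ (X : Type u))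
      (Set.mem_univ x) (((Homeomorph.Set.univ X).isHomeomorph.topologicalKrullDim_eq).trans hdim)
  rw [← CIntLib.depth_eq_dim] at h2
  have h3 : ((2 : ℕ) : ℕ∞) ≤ LocCoh.depth (X.presheaf.stalk x) (X.presheaf.stalk x) :=
    WithBot.coe_le_coe.1 h2
  exact lt_of_lt_of_le (by norm_num) h3

end Groth.Agent.SurfInt
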