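import Groth.Agent.SurfInt.SecDivide
import Groth.Agent.Lib.EffCompl
import Groth.Agent.DivX.CodimOne
import Groth.Agent.RegUFD.Basic
import Groth.Agent.AmpleX.Extend

/-!
# Divisors on the boundary of an affine open of a regular proper surface

For a nonempty affine open `U` of a regular proper integral surface there is an invertible module with a
section generating exactly on `U`, of nonnegative degree on every curve, of positive degree on the curves
meeting `U`, and of positive self-intersection.
-/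

set_option linter.style.haveILetI false
set_option linter.unusedSectionVars false
set_option backward.isDefEq.respectTransparency false
set_option backward.isDefEq.respectTransparency.types false

universe u

open CategoryTheory CategoryTheory.Limits AlgebraicGeometry TopologicalSpace Opposite

noncomputable section

namespace Groth.Agent.SurfInt

open Groth.Agent Groth.Agent.InvX

variable {X : Scheme.{u}}

/-- A point whose closure is a curve. -/
def IsCurvePt (η : X) : Prop := topologicalKrullDim ↥(closure ({η} : Set X)) = ((1 : ℕ) : WithBot ℕ∞)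

theorem genericPoint_ne_of_curvePt [IsIntegral X] (hdim : topologicalKrullDim X = 2) {η : X}
    (hη : IsCurvePt η) : η ≠ genericPoint X := by
  rintro rfl
  have h1 : topologicalKrullDim ↥(closure ({genericPoint X} : Set X)) = 2 := by
    rw [genericPoint_closure]
    exact ((Homeomorph.Set.univ X).isHomeomorph.topologicalKrullDim_eq).trans hdim
  exact absurd (hη.symm.trans h1) (by decide)

/-- A proper closed irreducible subset of an integral surface has dimension at most one. -/
theorem dim_closure_le_one [IsIntegral X] (hdim : topologicalKrullDim X = 2) {η : X}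
    (hη : η ≠ genericPoint X) : topologicalKrullDim ↥(closure ({η} : Set X)) ≤ ((1 : ℕ) : WithBot ℕ∞) := by
  refine HilbPoly.le_of_lt_succ (HilbPoly.dim_lt_closure (x := genericPoint X) (n := 2) ?_ isClosed_closure
    (by rw [genericPoint_closure]; exact Set.subset_univ _) fun h => hη ?_)
  · rw [genericPoint_closure]
    exact (topologicalKrullDim_subspace_le ↥X _).trans hdim.le
  · exact (((genericPoint_spec (X : Type u)).specializes (Set.mem_univ η)).antisymm
      (specializes_iff_mem_closure.2 h)).eq.symm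

/-- The local ring at a point of a curve is one-dimensional. -/
theorem ringKrullDim_stalk_curvePt [IsIntegral X] (hdim : topologicalKrullDim X = 2) {η : X}
    (hη : IsCurvePt η) : ringKrullDim (X.presheaf.stalk η) = 1 := by
  let φ := X.fromSpecStalk η
  have hinj : Function.Injective φ := φ.isEmbedding.injective
  have hrange : ∀ P, φ P ⤳ η := fun P => (Set.ext_iff.1 (X.range_fromSpecStalk (x := η)) _).1 ⟨P, rfl⟩
  have hgen : ∀ P : PrimeSpectrum (X.presheaf.stalk η), P ≠ IsLocalRing.closedPoint (X.presheaf.stalk η) →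
      φ P = genericPoint X := fun P hP => by
    by_contra hne
    have hyη : φ P ≠ η := fun h => hP (hinj (h.trans Scheme.fromSpecStalk_closedPoint.symm))
    have h1 := HilbPoly.dim_lt_closure (n := 1) (dim_closure_le_one hdim hne) isClosed_closure
      (isClosed_closure.closure_subset_iff.2 (Set.singleton_subset_iff.2 (specializes_iff_mem_closure.1 (hrange P))))
      fun h => hyη ((hrange P).antisymm (specializes_iff_mem_closure.2 h)).eq
    exact h1.ne hη
  obtain ⟨P₀, hP₀⟩ : genericPoint X ∈ Set.range φ := by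
    rw [X.range_fromSpecStalk]; exact (genericPoint_spec (X : Type u)).specializes (Set.mem_univ η)
  have hne : P₀ ≠ IsLocalRing.closedPoint (X.presheaf.stalk η) := fun h =>
    genericPoint_ne_of_curvePt hdim hη (by rw [← hP₀, h]; exact Scheme.fromSpecStalk_closedPoint.symm)
  rw [ringKrullDim_eq_one_iff_of_isLocalRing_isDomain]
  constructor
  · intro hF
    letI := hF.toField
    exact hne (Subsingleton.elim (α := PrimeSpectrum (X.presheaf.stalk η)) _ _)
  · intro x hx
    rw [Ideal.radical_eq_sInf]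
    refine le_sInf fun J hJ => ?_
    obtain ⟨hxJ, hJp⟩ := hJ
    by_contra hle
    let P : PrimeSpectrum (X.presheaf.stalk η) := ⟨J, hJp⟩
    have hP : P ≠ IsLocalRing.closedPoint _ := fun h => hle (le_of_eq (congrArg PrimeSpectrum.asIdeal h).symm)
    let B : PrimeSpectrum (X.presheaf.stalk η) := ⟨⊥, Ideal.isPrime_bot⟩
    have hB : B ≠ IsLocalRing.closedPoint _ := fun h =>
      hle ((le_of_eq (congrArg PrimeSpectrum.asIdeal h).symm).trans bot_le)
    have h := congrArg PrimeSpectrum.asIdeal (hinj ((hgen P hP).trans (hgen B hB).symm))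
    have h' : J = ⊥ := h
    exact hx (Ideal.mem_bot.1 (h'.le (hxJ (Ideal.mem_span_singleton_self x))))

/-- Curves on a regular surface are effective Cartier divisors. -/
theorem isEffCartier_clIdeal [IsIntegral X] [IsLocallyNoetherian X]
    (hreg : ∀ x : X, IsRegularLocalRing (X.presheaf.stalk x)) (hdim : topologicalKrullDim X = 2) {η : X}
    (hη : IsCurvePt η) : BlowUp.IsEffCartierIdeal (VarBase.clIdeal η) := by
  haveI := isIntegral_clIdeal η
  refine DivX.isEffCartier_of_codim_one _ ?_ fun x _ => by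
    haveI := hreg x
    exact RegUFD.ufd _
  rw [clIdeal_genericPoint η]
  exact ringKrullDim_stalk_curvePt hdim hη

/-- A point has dimension zero. -/
theorem dim_singleton_le_zero (x : X) : topologicalKrullDim ↥({x} : Set X) ≤ 0 := by
  haveI : Subsingleton (IrreducibleCloseds ↥({x} : Set X)) := ⟨fun a b => IrreducibleCloseds.ext
    ((Subsingleton.eq_univ_of_nonempty a.isIrreducible.nonempty).trans
      (Subsingleton.eq_univ_of_nonempty b.isIrreducible.nonempty).symm)⟩
  exact Order.krullDim_nonpos_of_subsingleton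

variable (k : Type u) [Field k] [X.Over (Spec (CommRingCat.of k))] [IsProper (X ↘ Spec (CommRingCat.of k))]

include k in
/-- A curve in a proper scheme is not contained in an affine open. -/
theorem exists_notMem_of_affine {η : X} (hη : IsCurvePt η) {U : X.Opens} (hU : IsAffineOpen U) :
    ∃ x ∈ closure ({η} : Set X), x ∉ U := by
  by_contra! hsub
  haveI := isIntegral_clIdeal η
  let ι := (VarBase.clIdeal η).subschemeι
  have hr : Set.range ι ⊆ Set.range U.ι := by
    rw [VarBase.range_clIdeal, Scheme.Opens.range_ι]; exact hsub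
  let j := IsOpenImmersion.lift U.ι ι hr
  have hj : j ≫ U.ι = ι := IsOpenImmersion.lift_fac _ _ _
  haveI : IsClosedImmersion (j ≫ U.ι) := by rw [hj]; infer_instance
  haveI : IsClosedImmersion j := IsClosedImmersion.of_comp j U.ι
  haveI : IsAffine U.toScheme := hU
  haveI : IsAffine (VarBase.clIdeal η).subscheme := isAffine_of_isAffineHom j
  have hF := isField_of_universallyClosed k (ι ≫ (X ↘ Spec (CommRingCat.of k)))
  letI := hF.toField
  haveI : Subsingleton ↥(Spec Γ((VarBase.clIdeal η).subscheme, ⊤)) :=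
    show Subsingleton (PrimeSpectrum ↑Γ((VarBase.clIdeal η).subscheme, ⊤)) from inferInstance
  haveI : Subsingleton (VarBase.clIdeal η).subscheme :=
    (Scheme.isoSpec (VarBase.clIdeal η).subscheme).hom.homeomorph.injective.subsingleton
  have hfin : (closure ({η} : Set X)).Subsingleton := by
    rw [← VarBase.range_clIdeal η]
    exact Set.subsingleton_range _
  refine absurd (hη.ge.trans ?_) (show ¬ ((1 : ℕ) : WithBot ℕ∞) ≤ 0 by decide)
  rw [hfin.eq_singleton_of_mem (subset_closure rfl)]
  exact dim_singleton_le_zero η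

variable [IsIntegral X]

include k in
/-- The locus of a section which carries all functions on an affine open is that open. -/
theorem eq_of_extends {U V : X.Opens} (hU : IsAffineOpen U) (hne : (U : Set X).Nonempty) (hUV : U ≤ V)
    (h : Function.Bijective (X.presheaf.map (homOfLE hUV).op)) : V ≤ U := by
  haveI : IsAffine U.toScheme := hU
  haveI := isSeparated_of_proper (X := X) k
  haveI : V.toScheme.IsSeparated := ⟨by rw [← terminal.comp_from V.ι]; infer_instance⟩
  let j := X.homOfLE hUV
  have key : ∀ (A B : X.Opens) (hAB : A ≤ B), A = U → B = V → IsIso (X.presheaf.map (homOfLE hAB).op) := by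
    rintro _ _ hAB rfl rfl
    exact (ConcreteCategory.isIso_iff_bijective _).2 h
  haveI : IsIso j.appTop := by
    rw [Scheme.homOfLE_appTop]
    exact key _ _ _ U.ι_image_top V.ι_image_top
  let r : V.toScheme ⟶ U.toScheme := V.toScheme.toSpecΓ ≫ Spec.map (inv j.appTop) ≫ U.toScheme.isoSpec.inv
  have hjr : j ≫ r = 𝟙 _ := by
    show j ≫ V.toScheme.toSpecΓ ≫ Spec.map (inv j.appTop) ≫ U.toScheme.isoSpec.inv = 𝟙 _
    rw [Scheme.toSpecΓ_naturality_assoc, ← Spec.map_comp_assoc, IsIso.inv_hom_id, Spec.map_id, Category.id_comp]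
    exact U.toScheme.isoSpec.hom_inv_id
  obtain ⟨p, hp⟩ := hne
  haveI : Nonempty V := ⟨⟨p, hUV hp⟩⟩
  haveI : IsDominant j := ⟨IsOpen.dense j.isOpenEmbedding.isOpen_range ⟨_, ⟨⟨p, hp⟩, rfl⟩⟩⟩
  have hrj : r ≫ j = 𝟙 _ := ext_of_isDominant j (by rw [← Category.assoc, hjr, Category.id_comp, Category.comp_id])
  intro x hx
  have h1 : j (r ⟨x, hx⟩) = (⟨x, hx⟩ : V) := by rw [← Scheme.Hom.comp_apply, hrj]; rfl
  have h2 := congrArg Subtype.val h1
  rw [Scheme.homOfLE_apply] at h2
  exact (congrArg (· ∈ U) h2).mp (r ⟨x, hx⟩).2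

open Classical in
/-- Dividing off the common boundary components of finitely many sections. -/
theorem exists_reduced (hdim : topologicalKrullDim X = 2)
    (hreg : ∀ x : X, IsRegularLocalRing (X.presheaf.stalk x)) [IsLocallyNoetherian X]
    {U : X.Opens} (hne : (U : Set X).Nonempty) (F : Finset Γ(X, U)) (S : Finset X)
    (hS : ∀ η ∈ S, IsCurvePt η ∧ η ∉ U) :
    ∀ (n : ℕ) (L : X.Modules), PicF.IsInvertible L → ∀ (s : Coh.structureModule X ⟶ L)
      (t : Γ(X, U) → (Coh.structureModule X ⟶ L)), U ≤ CohB1.genLocus L s →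
      (∀ f ∈ F, AModX.res L (le_top : U ≤ ⊤) (one (t f)) = f • AModX.res L (le_top : U ≤ ⊤) (one s)) →
      (∑ η ∈ S, (secOrd s η).toNat) = n →
      ∃ (L' : X.Modules) (_ : PicF.IsInvertible L') (s' : Coh.structureModule X ⟶ L')
        (t' : Γ(X, U) → (Coh.structureModule X ⟶ L')), U ≤ CohB1.genLocus L' s' ∧
        (∀ f ∈ F, AModX.res L' (le_top : U ≤ ⊤) (one (t' f)) = f • AModX.res L' (le_top : U ≤ ⊤) (one s')) ∧
        ∀ η ∈ S, η ∈ CohB1.genLocus L' s' ∨ ∃ f ∈ F, η ∈ CohB1.genLocus L' (t' f) := by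
  intro n
  induction n using Nat.strong_induction_on with
  | _ n ih =>
    intro L hL s t hs ht hn
    by_cases hall : ∀ η ∈ S, η ∈ CohB1.genLocus L s ∨ ∃ f ∈ F, η ∈ CohB1.genLocus L (t f)
    · exact ⟨L, hL, s, t, hs, ht, hall⟩
    push Not at hall
    obtain ⟨ξ, hξS, hξs, hξt⟩ := hall
    have hI := isEffCartier_clIdeal hreg hdim (hS ξ hξS).1
    obtain ⟨s', hs'⟩ := exists_divide hL hI s fun W e he g hg => coord_mem_clIdeal hξs W he hg
    have hdiv : ∀ f ∈ F, ∃ t', (idealMul L (VarBase.clIdeal ξ)).app ⊤ (one t') = one (t f) := fun f hf =>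
      exists_divide hL hI (t f) fun W e he g hg => coord_mem_clIdeal (hξt f hf) W he hg
    choose! t' ht' using hdiv
    have hL' := isInvertible_tensorMod hL (isInvertible_idealMod hI)
    have hgen : genericPoint X ∈ CohB1.genLocus _ s' := by
      refine genLocus_le_of_divide hL hI hs' (hs ?_)
      obtain ⟨p, hp⟩ := hne
      exact ((genericPoint_spec (X : Type u)).specializes (Set.mem_univ p)).mem_open U.isOpen hp
    refine ih _ ?_ _ hL' s' t' (hs.trans (genLocus_le_of_divide hL hI hs')) (fun f hf => ?_) rfl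
    · rw [← hn]
      have hfin : ∀ η ∈ S, secOrd s' η ≠ ⊤ ∧ secOrd s η ≠ ⊤ := fun η hη => by
        haveI : Ring.KrullDimLE 1 (X.presheaf.stalk η) :=
          Ring.krullDimLE_iff.2 (by rw [ringKrullDim_stalk_curvePt hdim (hS η hη).1]; simp)
        refine ⟨secOrd_ne_top hL' hgen, secOrd_ne_top hL (hs ?_)⟩
        obtain ⟨p, hp⟩ := hne
        exact ((genericPoint_spec (X : Type u)).specializes (Set.mem_univ p)).mem_open U.isOpen hp
      refine Finset.sum_lt_sum (fun η hη => ?_) ⟨ξ, hξS, ?_⟩
      · obtain ⟨d, hd, -⟩ := secOrd_divide hL hI hs' η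
        exact ENat.toNat_le_toNat (hd ▸ le_self_add) (hfin η hη).2
      · obtain ⟨d, hd, hd0⟩ := secOrd_divide hL hI hs' ξ
        have hmem : ξ ∈ ((VarBase.clIdeal ξ).support : Set X) := by
          rw [Scheme.IdealSheafData.coe_support_vanishingIdeal]; exact subset_closure rfl
        have hdt : d ≠ ⊤ := fun h => (hfin ξ hξS).2 (by rw [hd, h, add_top])
        rw [hd, ENat.toNat_add (hfin ξ hξS).1 hdt]
        have : d.toNat ≠ 0 := fun h => hd0 hmem ((ENat.toNat_eq_zero.1 h).resolve_right hdt)
        omega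
    · apply idealMul_injective hL hI U
      rw [Scheme.Modules.Hom.app_smul, AModX.app_res, AModX.app_res, ht' f hf, hs']
      exact ht f hf

include k in
/-- **Boundary divisors of affine opens.** -/
theorem exists_nef_boundary (hdim : topologicalKrullDim X = 2)
    (hreg : ∀ x : X, IsRegularLocalRing (X.presheaf.stalk x)) {U : X.Opens} (hU : IsAffineOpen U)
    (hne : (U : Set X).Nonempty) :
    ∃ (L : X.Modules) (_ : PicF.IsInvertible L) (s : Coh.structureModule X ⟶ L),
      CohB1.genLocus L s = U ∧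
      (∀ η : X, IsCurvePt η → 0 ≤ curveDeg k (VarBase.clIdeal η) L) ∧
      (∀ η : X, IsCurvePt η → η ∈ U → 0 < curveDeg k (VarBase.clIdeal η) L) ∧
      0 < pair k L L := by
  classical
  haveI := CurveCohLib.isNoetherian_of_proper (k := k) (X := X)
  haveI := isSeparated_of_proper (X := X) k
  haveI : JacobsonSpace X := LocallyOfFiniteType.jacobsonSpace (X ↘ Spec (CommRingCat.of k))
  have hgenU : genericPoint X ∈ U := by
    obtain ⟨p, hp⟩ := hne
    exact ((genericPoint_spec (X : Type u)).specializes (Set.mem_univ p)).mem_open U.isOpen hp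
  -- the boundary divisor and its section
  have hufd : ∀ x : X, IsDomain (X.presheaf.stalk x) ∧ UniqueFactorizationMonoid (X.presheaf.stalk x) :=
    fun x => by haveI := hreg x; exact RegUFD.ufd _
  obtain ⟨D, hD, hDU⟩ := EffCompl.exists_effCartier_compl X (fun V W hV hW => hV.inf hW) U hU
    (U.isOpen.dense hne) fun x _ => hufd x
  obtain ⟨L₀, hL₀, ⟨e₀⟩⟩ := H23.PicInv.exists_inverse (isInvertible_idealMod hD)
  obtain ⟨σ, hσ⟩ := exists_divisor_section D hD hL₀ ⟨tComm L₀ (ClSub.idealMod D) ≪≫ e₀⟩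
  let s₀ := ofSect σ
  have hG : CohB1.genLocus L₀ s₀ = U := by
    rw [AmpleX.genLocus_eq_locus, one_ofSect]
    refine TopologicalSpace.Opens.ext (Set.ext fun x => (hσ x).trans ?_)
    rw [← SetLike.mem_coe, hDU]
    exact not_not
  subst hG
  set U := CohB1.genLocus L₀ s₀ with hUdef
  let e : Γ(L₀, U) := AModX.res L₀ (le_top : U ≤ ⊤) (one s₀)
  have he : IsFrame e := by
    show IsFrame (AModX.res L₀ _ (one s₀))
    have := AmpleX.isFrame_res_of_le (one s₀) (AmpleX.genLocus_eq_locus s₀).le
    exact this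
  -- a closed point and a function vanishing at it
  obtain ⟨p, hpU, hpc⟩ := nonempty_inter_closedPoints hne U.isOpen.isLocallyClosed
  have hpgen : p ≠ genericPoint X := fun h => by
    subst h
    have h1 : topologicalKrullDim ↥(closure ({genericPoint X} : Set X)) = 2 := by
      rw [genericPoint_closure]
      exact ((Homeomorph.Set.univ X).isHomeomorph.topologicalKrullDim_eq).trans hdim
    rw [hpc.closure_eq] at h1
    exact absurd (h1.ge.trans (dim_singleton_le_zero _)) (by decide)
  let P := hU.primeIdealOf ⟨p, hpU⟩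
  have hPp : hU.fromSpec P = p := hU.fromSpec_primeIdealOf ⟨p, hpU⟩
  haveI : Nonempty U := ⟨⟨p, hpU⟩⟩
  obtain ⟨g, hgP, hg0⟩ : ∃ g ∈ P.asIdeal, g ≠ 0 := by
    refine Submodule.exists_mem_ne_zero_of_ne_bot fun h => hpgen ?_
    let q : PrimeSpectrum Γ(X, U) := hU.primeIdealOf ⟨genericPoint X, hgenU⟩
    have hle : P ≤ q := show P.asIdeal ≤ q.asIdeal from h.trans_le bot_le
    have h1 : hU.fromSpec P ⤳ hU.fromSpec q :=
      ((PrimeSpectrum.le_iff_specializes P q).1 hle).map hU.fromSpec.continuous
    rw [hPp, hU.fromSpec_primeIdealOf ⟨genericPoint X, hgenU⟩] at h1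
    exact (h1.antisymm ((genericPoint_spec (X : Type u)).specializes (Set.mem_univ p))).eq
  -- generators
  let f₀ := X ↘ Spec (CommRingCat.of k)
  have hft : (f₀.appLE ⊤ U le_top).hom.FiniteType := f₀.finiteType_appLE (isAffineOpen_top _) hU le_top
  letI := (f₀.appLE ⊤ U le_top).hom.toAlgebra
  obtain ⟨F₀, hF₀⟩ := (show Algebra.FiniteType Γ(Spec (CommRingCat.of k), ⊤) Γ(X, U) from hft).out
  let F := insert g F₀
  choose n₀ hn₀ using fun f : Γ(X, U) =>
    AmpleX.exists_extend (M := L₀) (AmpleVan.isCoh_invertible hL₀).1 hL₀ s₀ (f • e)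
  let N := F.sup n₀
  choose T hT using fun f : Γ(X, U) =>
    (show ∃ T : Γ(CohB1.tensorMod L₀ (CohB1.tensorPow L₀ N), ⊤), f ∈ F →
      AModX.res _ (le_top : U ≤ ⊤) T = tmul (f • e) (AmpleX.powElt e N) from by
      by_cases hf : f ∈ F
      · obtain ⟨T, hT⟩ := hn₀ f N (Finset.le_sup hf)
        exact ⟨T, fun _ => hT⟩
      · exact ⟨0, fun h => absurd h hf⟩)
  let L₁ := CohB1.tensorMod L₀ (CohB1.tensorPow L₀ N)
  have hL₁ : PicF.IsInvertible L₁ := isInvertible_tensorMod hL₀ (isInvertible_tensorPow hL₀ N)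
  let s₁ := InvX.mulHom s₀ (powHom s₀ N)
  have hs₁ : AModX.res L₁ (le_top : U ≤ ⊤) (one s₁) = tmul e (AmpleX.powElt e N) := by
    show AModX.res _ _ (one (InvX.mulHom _ _)) = _
    rw [InvX.mulHom, one_ofSect, res_tmul, AmpleX.one_powHom, AmpleX.res_powElt]
  have hU₁ : U ≤ CohB1.genLocus L₁ s₁ :=
    le_genLocus _ (hs₁ ▸ isFrame_tmul he (AmpleX.isFrame_powElt he N))
  have ht₁ : ∀ f ∈ F, AModX.res L₁ (le_top : U ≤ ⊤) (one (ofSect (T f))) =
      f • AModX.res L₁ (le_top : U ≤ ⊤) (one s₁) := fun f hf => by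
    rw [one_ofSect, hT f hf, hs₁, tmul_smul_left]
  have hfin : {η : X | IsCurvePt η ∧ η ∉ U}.Finite := by
    have hDd : topologicalKrullDim ↥(CohB1.support (ClSub.quotMod D)) ≤ ((1 : ℕ) : WithBot ℕ∞) := by
      rw [support_quotMod_eq]
      refine HilbPoly.le_of_lt_succ (HilbPoly.dim_lt_closure (n := 2) (x := genericPoint X) ?_ D.support.isClosed
        (by rw [genericPoint_closure]; exact Set.subset_univ _) (genericPoint_notMem_support hD))
      rw [genericPoint_closure]
      exact (topologicalKrullDim_subspace_le ↥X _).trans hdim.le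
    refine (VarBase.finite_top_points (ParShLib.isCoh_quotMod D) hDd).subset fun η hη => ⟨hη.1, ?_⟩
    rw [support_quotMod_eq, hDU]
    exact hη.2
  obtain ⟨L, hL, s, t, hs, ht, hall⟩ := exists_reduced hdim hreg ⟨p, hpU⟩ F hfin.toFinset
    (fun η hη => hfin.mem_toFinset.1 hη) _ L₁ hL₁ s₁ (fun f => ofSect (T f)) hU₁ ht₁ rfl
  -- the generating locus is exactly `U`
  have hV : CohB1.genLocus L s = U := by
    refine le_antisymm (eq_of_extends k hU ⟨p, hpU⟩ hs
      ⟨map_injective_of_isIntegral X (homOfLE hs), ?_⟩) hs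
    have hfr : IsFrame (AModX.res L (le_top : CohB1.genLocus L s ≤ ⊤) (one s)) :=
      AmpleX.isFrame_res_of_le (one s) (AmpleX.genLocus_eq_locus s).le
    have hmem : ∀ f ∈ F, f ∈ Set.range (X.presheaf.map (homOfLE hs).op) := fun f hf => by
      obtain ⟨c, hc⟩ := hfr.exists_coord le_rfl (AModX.res L (le_top : CohB1.genLocus L s ≤ ⊤) (one (t f)))
      rw [AModX.res_self] at hc
      refine ⟨c, hfr.coord_unique hs ?_⟩
      have := congrArg (AModX.res L hs) hc
      rw [AModX.res_res, AModX.res_smul, AModX.res_res, ht f hf] at this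
      rw [AModX.res_res]
      exact this.symm
    intro a
    have ha : a ∈ Algebra.adjoin Γ(Spec (CommRingCat.of k), ⊤) (F₀ : Set Γ(X, U)) := by
      rw [hF₀]; exact Algebra.mem_top
    induction ha using Algebra.adjoin_induction with
    | mem x hx => exact hmem x (Finset.mem_insert_of_mem hx)
    | algebraMap r =>
      refine ⟨f₀.appLE ⊤ (CohB1.genLocus L s) le_top r, ?_⟩
      show _ = (f₀.appLE ⊤ U le_top) r
      rw [← CommRingCat.comp_apply, Scheme.Hom.appLE_map]
    | add x y _ _ hx hy =>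
      obtain ⟨⟨x', rfl⟩, ⟨y', rfl⟩⟩ := hx, hy
      exact ⟨x' + y', map_add _ _ _⟩
    | mul x y _ _ hx hy =>
      obtain ⟨⟨x', rfl⟩, ⟨y', rfl⟩⟩ := hx, hy
      exact ⟨x' * y', map_mul _ _ _⟩
  have hnef : ∀ η : X, IsCurvePt η → 0 ≤ curveDeg k (VarBase.clIdeal η) L := fun η hη => by
    by_cases hηU : η ∈ U
    · exact curveDeg_nonneg_of_section k hη.le hL s (hs hηU)
    · rcases hall η (hfin.mem_toFinset.2 ⟨hη, hηU⟩) with h | ⟨f, -, h⟩
      · exact curveDeg_nonneg_of_section k hη.le hL s h
      · exact curveDeg_nonneg_of_section k hη.le hL (t f) h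
  have hpos : ∀ η : X, IsCurvePt η → η ∈ U → 0 < curveDeg k (VarBase.clIdeal η) L := fun η hη hηU => by
    obtain ⟨x, hx, hxU⟩ := exists_notMem_of_affine k hη hU
    exact curveDeg_pos_of_section k hη.le hL s (hs hηU) hx (by rw [hV]; exact hxU)
  refine ⟨L, hL, s, hV, hnef, hpos, ?_⟩
  -- a curve in the zero locus of `g`
  have hgF : g ∈ F := Finset.mem_insert_self _ _
  have hfrU : IsFrame (AModX.res L (le_top : U ≤ ⊤) (one s)) :=
    AmpleX.isFrame_res_of_le (one s) (hs.trans (AmpleX.genLocus_eq_locus s).le)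
  have hloc : CohB1.genLocus L (t g) ⊓ U = X.basicOpen g := genLocus_inf (t g) hfrU (ht g hgF)
  have hbne : genericPoint X ∈ X.basicOpen g := by
    by_contra h
    apply hg0
    refine (basicOpen_eq_bot_iff g).1 (TopologicalSpace.Opens.ext (Set.eq_empty_iff_forall_notMem.2 fun y hy => ?_))
    exact h (((genericPoint_spec (X : Type u)).specializes (Set.mem_univ y)).mem_open (X.basicOpen g).isOpen hy)
  haveI := hU.isLocalization_stalk ⟨p, hpU⟩
  obtain ⟨q, hq, hqP⟩ := Ideal.exists_minimalPrimes_le ((Ideal.span_singleton_le_iff_mem P.asIdeal).2 hgP)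
  haveI := hq.1.1
  haveI : IsNoetherianRing Γ(X, U) := IsLocallyNoetherian.component_noetherian ⟨U, hU⟩
  let ξ := hU.fromSpec ⟨q, hq.1.1⟩
  have hξU : ξ ∈ U := hU.range_fromSpec.le ⟨_, rfl⟩
  have hξp : ξ ⤳ p := by
    rw [← hPp]
    exact ((PrimeSpectrum.le_iff_specializes (⟨q, hq.1.1⟩ : PrimeSpectrum Γ(X, U)) P).1 hqP).map
      hU.fromSpec.continuous
  have hξne : ξ ≠ p := fun h => by
    have h1 : (⟨q, hq.1.1⟩ : PrimeSpectrum Γ(X, U)) = P := hU.fromSpec.isOpenEmbedding.injective (h.trans hPp.symm)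
    have h2 := Ideal.height_le_one_of_isPrincipal_of_mem_minimalPrimes (Ideal.span {g}) q hq
    have h3 : (2 : WithBot ℕ∞) ≤ ringKrullDim (X.presheaf.stalk p) :=
      le_ringKrullDim_stalk k hpc isClosed_univ (IrreducibleSpace.isIrreducible_univ _) (Set.mem_univ p) (n := 2)
        (((Homeomorph.Set.univ X).isHomeomorph.topologicalKrullDim_eq).trans hdim)
    letI := X.presheaf.algebra_section_stalk ⟨p, hpU⟩
    rw [IsLocalization.AtPrime.ringKrullDim_eq_height P.asIdeal (X.presheaf.stalk p)] at h3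
    rw [show q = P.asIdeal from congrArg PrimeSpectrum.asIdeal h1] at h2
    exact absurd (h3.trans (WithBot.coe_le_coe.2 h2)) (by decide)
  have hξg : ξ ∉ X.basicOpen g := fun h => by
    have h1 : (⟨q, hq.1.1⟩ : PrimeSpectrum Γ(X, U)) ∈ PrimeSpectrum.basicOpen g := by
      rw [← hU.fromSpec_preimage_basicOpen g]; exact h
    exact h1 (hq.1.2 (Ideal.mem_span_singleton_self g))
  have hξgen : ξ ≠ genericPoint X := fun h => hξg (h ▸ hbne)
  have hξc : IsCurvePt ξ := by
    refine le_antisymm (dim_closure_le_one hdim hξgen) (not_lt.1 fun hlt => hξne ?_)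
    have := (VarBase.isClosed_of_dim_lt_one isClosed_closure hlt ξ (subset_closure rfl)).closure_eq
    exact ((Set.ext_iff.1 this p).1 (specializes_iff_mem_closure.1 hξp)).symm
  exact (pair_nonneg_of_section k hdim.le hL hL (t g) (hloc.ge hbne).1 hnef).2 ξ hξc
    (fun h => hξg (hloc.le ⟨h, hξU⟩)) (hpos ξ hξc hξU)

end Groth.Agent.SurfInt
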