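import Groth.Agent.SurfInt.SecChart
import Groth.Agent.SurfInt.Degrees
import Groth.Agent.CurveCohLib.Proper
import Groth.Agent.SurfInt.RRDual
import Mathlib.LinearAlgebra.Eigenspace.Triangularizable
import Mathlib.Tactic.Module

/-!
# Sections on numerically connected divisors

On a smooth surface, a nonzero section of `L|_D`, for `L` of nonpositive degree on all divisors
below `D`, trivialises it when `D` is numerically connected.
-/

set_option linter.style.haveILetI false
set_option linter.unusedSectionVars false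
set_option backward.isDefEq.respectTransparency false
set_option backward.isDefEq.respectTransparency.types false
set_option maxHeartbeats 1000000

universe u

open CategoryTheory CategoryTheory.Limits AlgebraicGeometry TopologicalSpace Opposite

noncomputable section

namespace Groth.Agent.SurfInt

open Groth.Agent Groth.Agent.InvX

variable {X : Scheme.{u}}

/-- A morphism killing the ideal descends to the subscheme. -/
def descQuot (I : X.IdealSheafData) {N : X.Modules} (φ : Coh.structureModule X ⟶ N)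
    (h : ClSub.idealModι I ≫ φ = 0) : ClSub.quotMod I ⟶ N :=
  (idealSeq_shortExact I).gIsCokernel.desc (CokernelCofork.ofπ φ h)

theorem toSubscheme_descQuot (I : X.IdealSheafData) {N : X.Modules} (φ : Coh.structureModule X ⟶ N)
    (h : ClSub.idealModι I ≫ φ = 0) : ClSub.toSubscheme I ≫ descQuot I φ h = φ :=
  (idealSeq_shortExact I).gIsCokernel.fac _ WalkingParallelPair.one

variable [IsIntegral X] [IsLocallyNoetherian X]
variable {L : X.Modules} (hL : PicF.IsInvertible L) {I : X.IdealSheafData} (hI : BlowUp.IsEffCartierIdeal I)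
  (s : Coh.structureModule X ⟶ divMod L I)

theorem idealModι_comp_sec : ClSub.idealModι (secAnn hL hI s) ≫ s = 0 := by
  refine QCoh.hom_eq_zero_of_cover (isCoh_idealMod _).1 (isCoh_divMod hL hI).1 _
    (fun U : X.affineOpens => U.1) (fun U => U.2) (fun x => ?_) fun U m => ?_
  · obtain ⟨U, hU, hx, -⟩ := exists_isAffineOpen_mem_and_subset (x := x) (U := ⊤) trivial
    exact ⟨⟨U, hU⟩, hx⟩
  · have h := (mem_imgAnn _ _ s U _).1 (OmegaLib.idealSect_mem (secAnn hL hI s) U m) (1 : Γ(X, U.1))
    exact (app_eq_smul_one s U.1 _).trans h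

/-- The section on the divisor it lives on. -/
def secBar : ClSub.quotMod (secAnn hL hI s) ⟶ divMod L I :=
  descQuot _ s (idealModι_comp_sec hL hI s)

theorem toSubscheme_secBar : ClSub.toSubscheme (secAnn hL hI s) ≫ secBar hL hI s = s :=
  toSubscheme_descQuot _ _ _

theorem mono_secBar : Mono (secBar hL hI s) := by
  set D := secAnn hL hI s
  have hq := ParShLib.isCoh_quotMod D
  haveI : Epi (ClSub.toSubscheme D) := CurvePoint.epi_toSubscheme D
  refine Preadditive.mono_of_kernel_zero ?_
  refine (QCoh.isZero_of_cover (QCoh.isQCoh_kernel hq.1 (isCoh_divMod hL hI).1 _)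
    (fun U : X.affineOpens => U.1) (fun U => U.2) (fun x => ?_) fun U => ?_).eq_of_src _ _
  · obtain ⟨U, hU, hx, -⟩ := exists_isAffineOpen_mem_and_subset (x := x) (U := ⊤) trivial
    exact ⟨⟨U, hU⟩, hx⟩
  refine subsingleton_of_forall_eq 0 fun y => ?_
  refine QCoh.app_injective (kernel.ι _) U.1 ?_
  rw [map_zero]
  obtain ⟨r, hr⟩ := QCoh.app_surjective_of_epi QCoh.isQCoh_structureModule hq.1 (ClSub.toSubscheme D) U.2
    ((kernel.ι (secBar hL hI s)).app U.1 y)
  have h0 : (secBar hL hI s).app U.1 ((kernel.ι (secBar hL hI s)).app U.1 y) = 0 :=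
    (congr(($(kernel.condition (secBar hL hI s))).app U.1 y) : _)
  rw [← hr] at h0 ⊢
  have h1 : s.app U.1 r = 0 :=
    ((congr(($(toSubscheme_secBar hL hI s)).app U.1 r) : _).symm).trans h0
  rw [app_eq_smul_one] at h1
  show D.subschemeι.app U.1 r = 0
  rw [← RingHom.mem_ker, D.ker_subschemeι_app U]
  refine (mem_imgAnn _ _ s U _).2 fun m => ?_
  rw [app_eq_smul_one s U.1 m, smul_comm]
  exact (congrArg _ h1).trans (smul_zero _)

variable (hreg : ∀ x : X, IsRegularLocalRing (X.presheaf.stalk x))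

include hreg in
theorem idealMul_comp_res :
    idealMul L I ≫ divπ L (secRes hL hI s) = 0 := by
  choose W hxW e f c g' he hf hc hIW hA hR hs hcol using exists_sec_chart hL hI s hreg
  refine QCoh.hom_eq_zero_of_cover
    (AmpleVan.isCoh_invertible (isInvertible_tensorMod hL (isInvertible_idealMod hI))).1
    (isCoh_divMod hL (isEffCartier_secRes hL hI s hreg)).1 _ (fun x => (W x).1) (fun x => (W x).2)
    (fun x => ⟨x, hxW x⟩) fun x y => ?_
  obtain ⟨k₀, hk₀⟩ := OmegaLib.exists_of_mem I (W x) (f x * c x) (hIW x ▸ Ideal.mem_span_singleton_self _)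
  obtain ⟨r, hr⟩ := (isFrame_tmul (he x) (isFrame_of_generator hI (hIW x) hk₀)).exists_coord le_rfl y
  rw [AModX.res_self] at hr
  show (divπ L _).app (W x).1 ((idealMul L I).app (W x).1 y) = 0
  rw [hr, Scheme.Modules.Hom.app_smul, idealMul_tmul, hk₀, smul_smul, Scheme.Modules.Hom.app_smul]
  exact (divπ_smul_eq_zero hL (isEffCartier_secRes hL hI s hreg) (W x) (he x) (hR x) _).2
    (dvd_mul_of_dvd_right (dvd_mul_left _ _) r)

/-- The restriction to the residual divisor. -/
def resMap : divMod L I ⟶ divMod L (secRes hL hI s) :=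
  cokernel.desc _ _ (idealMul_comp_res hL hI s hreg)

theorem divπ_resMap : divπ L I ≫ resMap hL hI s hreg = divπ L (secRes hL hI s) := cokernel.π_desc _ _ _

theorem secBar_comp_resMap : secBar hL hI s ≫ resMap hL hI s hreg = 0 := by
  haveI : Epi (ClSub.toSubscheme (secAnn hL hI s)) := CurvePoint.epi_toSubscheme _
  rw [← cancel_epi (ClSub.toSubscheme (secAnn hL hI s)), comp_zero, ← Category.assoc, toSubscheme_secBar]
  choose W hxW e f c g' he hf hc hIW hA hR hs hcol using exists_sec_chart hL hI s hreg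
  refine QCoh.hom_eq_zero_of_cover QCoh.isQCoh_structureModule
    (isCoh_divMod hL (isEffCartier_secRes hL hI s hreg)).1 _ (fun x => (W x).1) (fun x => (W x).2)
    (fun x => ⟨x, hxW x⟩) fun x r => ?_
  show (resMap hL hI s hreg).app (W x).1 (s.app (W x).1 r) = 0
  rw [app_eq_smul_one, hs, smul_smul, Scheme.Modules.Hom.app_smul,
    show (resMap hL hI s hreg).app (W x).1 ((divπ L I).app (W x).1 (e x)) =
      (divπ L (secRes hL hI s)).app (W x).1 (e x) from congr(($(divπ_resMap hL hI s hreg)).app (W x).1 (e x))]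
  exact (divπ_smul_eq_zero hL (isEffCartier_secRes hL hI s hreg) (W x) (he x) (hR x) _).2
    (dvd_mul_of_dvd_right (dvd_mul_right _ _) _)

/-- The induced map on the cokernel. -/
def cokMap : cokernel (secBar hL hI s) ⟶ divMod L (secRes hL hI s) :=
  cokernel.desc _ _ (secBar_comp_resMap hL hI s hreg)

theorem epi_cokMap : Epi (cokMap hL hI s hreg) := by
  haveI h1 : Epi (divπ L I ≫ resMap hL hI s hreg) := by rw [divπ_resMap]; infer_instance
  haveI := epi_of_epi (divπ L I) (resMap hL hI s hreg)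
  exact epi_of_epi_fac (cokernel.π_desc (secBar hL hI s) _ (secBar_comp_resMap hL hI s hreg))

theorem isQCoh_kernel_cokMap : Coh.IsQCoh (kernel (cokMap hL hI s hreg)) :=
  QCoh.isQCoh_kernel (QCoh.isCoh_cokernel (ParShLib.isCoh_quotMod _).1 (isCoh_divMod hL hI) _).1
    (isCoh_divMod hL (isEffCartier_secRes hL hI s hreg)).1 _

theorem smul_kernel_cokMap (W : X.affineOpens) {e : Γ(L, W.1)} (he : IsFrame e) {f c g' : Γ(X, W.1)}
    (hIW : I.ideal W = Ideal.span {f * c}) (hR : (secRes hL hI s).ideal W = Ideal.span {c})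
    (hs : s.app W.1 (1 : Γ(X, W.1)) = (c * g') • (divπ L I).app W.1 e)
    (m : Γ(kernel (cokMap hL hI s hreg), W.1)) : f • m = 0 ∧ g' • m = 0 := by
  obtain ⟨q, hq⟩ := QCoh.app_surjective_of_epi (isCoh_divMod hL hI).1
    (QCoh.isCoh_cokernel (ParShLib.isCoh_quotMod _).1 (isCoh_divMod hL hI) _).1
    (cokernel.π (secBar hL hI s)) W.2 ((kernel.ι (cokMap hL hI s hreg)).app W.1 m)
  obtain ⟨h, rfl⟩ := exists_smul_divπ hL hI W he q
  have h0 : (cokMap hL hI s hreg).app W.1 ((kernel.ι (cokMap hL hI s hreg)).app W.1 m) = 0 := congr(($(kernel.condition (cokMap hL hI s hreg))).app W.1 m)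
  rw [← hq] at h0
  have h1 : (resMap hL hI s hreg).app W.1 (h • (divπ L I).app W.1 e) = 0 :=
    ((congr(($(cokernel.π_desc (secBar hL hI s) _ (secBar_comp_resMap hL hI s hreg))).app W.1
      (h • (divπ L I).app W.1 e)) : _).symm).trans h0
  rw [Scheme.Modules.Hom.app_smul,
    show (resMap hL hI s hreg).app W.1 ((divπ L I).app W.1 e) = (divπ L (secRes hL hI s)).app W.1 e from
      congr(($(divπ_resMap hL hI s hreg)).app W.1 e)] at h1
  obtain ⟨h', rfl⟩ := (divπ_smul_eq_zero hL (isEffCartier_secRes hL hI s hreg) W he hR h).1 h1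
  constructor
  · refine QCoh.app_injective (kernel.ι (cokMap hL hI s hreg)) W.1 ?_
    rw [Scheme.Modules.Hom.app_smul, ← hq, map_zero, ← Scheme.Modules.Hom.app_smul, smul_smul, ← mul_assoc]
    rw [(divπ_smul_eq_zero hL hI W he hIW _).2 (dvd_mul_right _ _), map_zero]
  · refine QCoh.app_injective (kernel.ι (cokMap hL hI s hreg)) W.1 ?_
    rw [Scheme.Modules.Hom.app_smul, ← hq, map_zero, ← Scheme.Modules.Hom.app_smul, smul_smul,
      show g' * (c * h') = h' * (c * g') by ring, ← smul_smul, ← hs, ← app_eq_smul_one,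
      show s.app W.1 h' = (secBar hL hI s).app W.1 ((ClSub.toSubscheme (secAnn hL hI s)).app W.1 h') from
        (congr(($(toSubscheme_secBar hL hI s)).app W.1 h') : _).symm]
    exact congr(($(cokernel.condition (secBar hL hI s))).app W.1 ((ClSub.toSubscheme (secAnn hL hI s)).app W.1 h'))

variable (k : Type u) [Field k] [X.Over (Spec (CommRingCat.of k))] [IsProper (X ↘ Spec (CommRingCat.of k))]

include k in
theorem isClosed_of_mem_support_kernel (hdim : topologicalKrullDim X = 2) {x : X}
    (hx : x ∈ CohB1.support (kernel (cokMap hL hI s hreg))) : IsClosed ({x} : Set X) := by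
  obtain ⟨W, hxW, e, f, c, g', he, hf, hc, hIW, hA, hR, hs, hcol⟩ := exists_sec_chart hL hI s hreg x
  obtain ⟨m, hm⟩ := (QCoh.mem_support_iff (isQCoh_kernel_cokMap hL hI s hreg) W.2 hxW).1 hx
  have hfm := smul_kernel_cokMap hL hI s hreg W he hIW hR hs m
  letI := X.presheaf.algebra_section_stalk ⟨x, hxW⟩
  haveI := W.2.isLocalization_stalk ⟨x, hxW⟩
  haveI : Nonempty W.1 := ⟨⟨x, hxW⟩⟩
  set φ := algebraMap Γ(X, W.1) (X.presheaf.stalk x)
  have hnu : ∀ r : Γ(X, W.1), r • m = 0 → φ r ∈ IsLocalRing.maximalIdeal (X.presheaf.stalk x) := fun r hr => by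
    rw [IsLocalRing.mem_maximalIdeal]
    intro hu
    exact hm r ((X.mem_basicOpen r x hxW).2 hu) hr
  have hφf : φ f ≠ 0 := fun h => hf (germ_injective_of_isIntegral X x hxW (h.trans (map_zero _).symm))
  have hcol' : colonPr (φ f) (φ g') ≤ Ideal.span {φ f} := by
    rw [← colonPr_map (W.2.primeIdealOf ⟨x, hxW⟩).asIdeal.primeCompl f g']
    refine (Ideal.map_mono hcol).trans (le_of_eq ?_)
    rw [Ideal.map_span, Set.image_singleton]
  have hd := two_le_ringKrullDim_of_colonPr hφf (hnu f hfm.1) (hnu g' hfm.2) hcol'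
  obtain ⟨b, hb, ⟨η, -, hη⟩, -⟩ := VarDim.exists_deg_add_stalk (X ↘ Spec (CommRingCat.of k)) x
  have hb2 : 2 ≤ b := by
    by_contra h
    refine hd ?_
    rw [hb]
    exact_mod_cast (show b ≤ 1 by omega)
  have hη2 : VarDim.deg (X ↘ Spec (CommRingCat.of k)) η ≤ 2 := by
    have h := VarDim.topologicalKrullDim_closure_singleton (X ↘ Spec (CommRingCat.of k)) η
    have h' := (topologicalKrullDim_subspace_le X (closure ({η} : Set X))).trans hdim.le
    rw [h] at h'
    exact ENat.coe_le_coe.1 (WithBot.coe_le_coe.1 h')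
  exact (VarDim.closedPoint_iff_deg_eq_zero (X ↘ Spec (CommRingCat.of k)) x).2 (by omega)

theorem mul_le_right_ideal (A B : X.IdealSheafData) : A * B ≤ B := fun U => by
  rw [Scheme.IdealSheafData.ideal_mul, Pi.mul_apply]
  exact Ideal.mul_le_right

/-- `χ(L|_I) = χ(L) - χ(L ⊗ I)`. -/
theorem euler_divMod {J : X.IdealSheafData} (hJ : BlowUp.IsEffCartierIdeal J) (hL : PicF.IsInvertible L) :
    Curv2.euler k X (divMod L J) =
      Curv2.euler k X L - Curv2.euler k X (CohB1.tensorMod L (ClSub.idealMod J)) := by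
  haveI := mono_idealMul hL hJ
  have h := CurveCohLib.euler_additive (k := k)
    (S := ShortComplex.mk (idealMul L J) (divπ L J) (cokernel.condition _))
    (.mk' (ShortComplex.exact_of_g_is_cokernel _ (cokernelIsCokernel _)) inferInstance inferInstance)
    (AmpleVan.isCoh_invertible (isInvertible_tensorMod hL (isInvertible_idealMod hJ)))
    (AmpleVan.isCoh_invertible hL) (isCoh_divMod hL hJ)
  dsimp only at h
  linarith

include hL hI hreg k in
/-- A nonzero section of a module of nonpositive degree on a numerically connected divisor is a trivialisation. -/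
theorem exists_iso_of_sec (hdim : topologicalKrullDim X = 2)
    (hnc : ∀ D₁ D₂ : X.IdealSheafData, BlowUp.IsEffCartierIdeal D₁ → BlowUp.IsEffCartierIdeal D₂ →
      D₁ ≠ ⊤ → D₂ ≠ ⊤ → I = D₁ * D₂ → 0 < pair k (ClSub.idealMod D₁) (ClSub.idealMod D₂))
    (hdeg : ∀ D : X.IdealSheafData, BlowUp.IsEffCartierIdeal D → D ≠ ⊤ → I ≤ D → curveDeg k D L ≤ 0)
    (hs : s ≠ 0) :
    ∃ φ : ClSub.quotMod I ≅ divMod L I, ClSub.toSubscheme I ≫ φ.hom = s := by
  haveI := CurveCohLib.isNoetherian_of_proper (k := k) (X := X)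
  have hd : topologicalKrullDim X ≤ (2 : ℕ) := hdim.le
  set D₂ := secAnn hL hI s with hD₂
  set D₁ := secRes hL hI s with hD₁
  have h2 := isEffCartier_secAnn hL hI s hreg
  have h1 := isEffCartier_secRes hL hI s hreg
  have hmul := secRes_mul_secAnn hL hI s hreg
  have hi₁ := isInvertible_idealMod h1
  have hi₂ := isInvertible_idealMod h2
  have hiI := isInvertible_idealMod hI
  have hne : D₂ ≠ ⊤ := fun htop => hs (by
    have h := idealModι_comp_sec hL hI s
    choose W hxW e f c g' he hf hc hIW hA hR hs' hcol using exists_sec_chart hL hI s hreg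
    refine QCoh.hom_eq_zero_of_cover QCoh.isQCoh_structureModule (isCoh_divMod hL hI).1 _ (fun x => (W x).1)
      (fun x => (W x).2) (fun x => ⟨x, hxW x⟩) fun x r => ?_
    have h1 : (1 : Γ(X, (W x).1)) ∈ (secAnn hL hI s).ideal (W x) := by
      rw [show secAnn hL hI s = (⊤ : X.IdealSheafData) from htop, Scheme.IdealSheafData.ideal_top]
      exact Submodule.mem_top
    have := (mem_imgAnn _ _ s (W x) _).1 h1 r
    rwa [one_smul] at this)
  haveI := mono_secBar hL hI s
  haveI := epi_cokMap hL hI s hreg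
  have hQc := isCoh_divMod hL hI
  have hQ1c := isCoh_divMod hL h1
  have hMc := QCoh.isCoh_cokernel (ParShLib.isCoh_quotMod D₂).1 hQc (secBar hL hI s)
  have hKc := QCoh.isCoh_kernel hMc hQ1c (cokMap hL hI s hreg)
  have hKs : ∀ x ∈ CohB1.support (kernel (cokMap hL hI s hreg)), IsClosed ({x} : Set X) :=
    fun x hx => isClosed_of_mem_support_kernel hL hI s hreg k hdim hx
  have a1 := CurveCohLib.euler_additive (k := k)
    (S := ShortComplex.mk (secBar hL hI s) (cokernel.π _) (cokernel.condition _))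
    (.mk' (ShortComplex.exact_of_g_is_cokernel _ (cokernelIsCokernel _)) inferInstance inferInstance)
    (ParShLib.isCoh_quotMod D₂) hQc hMc
  have a2 := CurveCohLib.euler_additive (k := k)
    (S := ShortComplex.mk (kernel.ι (cokMap hL hI s hreg)) (cokMap hL hI s hreg) (kernel.condition _))
    (.mk' (ShortComplex.exact_kernel _) inferInstance inferInstance)
    hKc hMc hQ1c
  dsimp only at a1 a2
  rw [euler_divMod k hI hL] at a1
  rw [euler_divMod k h1 hL] at a2
  obtain ⟨em⟩ := nonempty_idealMod_mul h1 h2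
  rw [← hmul] at em
  have e3 := euler_ideal k D₂
  have e4 := euler_congr k em
  have e5 := euler_tensor_eq k (ClSub.idealMod D₁) (ClSub.idealMod D₂)
  have e6 := euler_tensor_eq k L (ClSub.idealMod I)
  have e7 := euler_tensor_eq k L (ClSub.idealMod D₁)
  have e8 : pair k L (ClSub.idealMod I) = pair k L (ClSub.idealMod D₁) + pair k L (ClSub.idealMod D₂) := by
    rw [pair_congr k (Iso.refl L) em, pair_tensor_right k hd hL hi₁ hi₂]
  have e9 : pair k L (ClSub.idealMod D₂) = - curveDeg k D₂ L := by rw [pair_comm, pair_ideal_left k D₂ hL]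
  have hK : Curv2.euler k X (kernel (cokMap hL hI s hreg)) =
      - pair k (ClSub.idealMod D₁) (ClSub.idealMod D₂) + curveDeg k D₂ L := by linarith
  have hle : I ≤ D₂ := hmul.le.trans (mul_le_right_ideal D₁ D₂)
  have hdeg₂ := hdeg D₂ h2 hne hle
  have hnn : (0 : ℤ) ≤ Curv2.euler k X (kernel (cokMap hL hI s hreg)) := by
    rw [CurveCohLib.euler_eq_finrank_zero hKc hKs]; exact Nat.cast_nonneg _
  by_cases htop : D₁ = ⊤
  swap
  · have := hnc D₁ D₂ h1 h2 htop hne hmul
    linarith
  have hR : ∀ W : X.affineOpens, D₁.ideal W = ⊤ := fun W => by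
    rw [htop, Scheme.IdealSheafData.ideal_top]; rfl
  have hID : D₂ = I := by
    refine Scheme.IdealSheafData.ext (funext fun W => ?_)
    rw [hmul, Scheme.IdealSheafData.ideal_mul, Pi.mul_apply, hR W, Ideal.top_mul]
  have hz1 : IsZero (divMod L D₁) := by
    choose W hxW e f c g' he hf hc hIW hA hR' hs' hcol using exists_sec_chart hL hI s hreg
    refine QCoh.isZero_of_cover hQ1c.1 (fun x => (W x).1) (fun x => (W x).2) (fun x => ⟨x, hxW x⟩) fun x => ?_
    refine subsingleton_of_forall_eq 0 fun q => ?_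
    obtain ⟨g, rfl⟩ := exists_smul_divπ hL h1 (W x) (he x) q
    refine (divπ_smul_eq_zero hL h1 (W x) (he x) (hR' x) g).2 ?_
    have : IsUnit (c x) := Ideal.span_singleton_eq_top.1 ((hR' x).symm.trans (hR (W x)))
    exact this.dvd
  have hp : pair k (ClSub.idealMod D₁) (ClSub.idealMod D₂) = 0 := by
    rw [pair_ideal_left k D₁ hi₂, htop]
    unfold curveDeg
    have hz : IsZero (ClSub.quotMod (⊤ : X.IdealSheafData)) :=
      CurveCohLib.isZero_of_subsingleton_stalks fun x => ParShLib.subsingleton_stalk_quotMod _ (fun h => by rw [Scheme.IdealSheafData.support_top] at h; exact h)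
    haveI := AmpleVan.isEquivalence_tw hi₂
    have e : CohB1.tensorMod (ClSub.quotMod (⊤ : X.IdealSheafData)) (ClSub.idealMod D₂) ≅
        ClSub.quotMod (⊤ : X.IdealSheafData) := ((AmpleVan.tw (ClSub.idealMod D₂)).map_isZero hz).iso hz
    rw [← hD₂, euler_congr k e]
    simp
  have hKz : IsZero (kernel (cokMap hL hI s hreg)) :=
    CurveCohLib.isZero_of_euler_eq_zero (k := k) hKc hKs (by linarith)
  haveI : Mono (cokMap hL hI s hreg) := Preadditive.mono_of_kernel_zero (hKz.eq_of_src _ _)
  haveI : Epi (secBar hL hI s) := Preadditive.epi_of_cokernel_zero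
    ((IsZero.of_mono (cokMap hL hI s hreg) hz1).eq_of_tgt _ _)
  haveI : IsIso (secBar hL hI s) := isIso_of_mono_of_epi _
  have key : ∀ (J : X.IdealSheafData), secAnn hL hI s = J →
      ∃ φ : ClSub.quotMod J ≅ divMod L I, ClSub.toSubscheme J ≫ φ.hom = s := by
    rintro J rfl
    exact ⟨asIso (secBar hL hI s), toSubscheme_secBar hL hI s⟩
  exact key I hID

end Groth.Agent.SurfInt

namespace Groth.Agent.SurfInt

open Groth.Agent Groth.Agent.InvX
open Groth.Agent.PnCoh.Finite (mapLin)

variable {X : Scheme.{u}} [IsIntegral X] [IsLocallyNoetherian X] {I : X.IdealSheafData}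

theorem idealModι_comp_eq_zero (σ : Coh.structureModule X ⟶ ClSub.quotMod I) :
    ClSub.idealModι I ≫ σ = 0 := by
  haveI : Epi (ClSub.toSubscheme I) := CurvePoint.epi_toSubscheme I
  refine QCoh.hom_eq_zero_of_cover (isCoh_idealMod _).1 (ParShLib.isCoh_quotMod I).1 _
    (fun U : X.affineOpens => U.1) (fun U => U.2) (fun x => ?_) fun U m => ?_
  · obtain ⟨U, hU, hx, -⟩ := exists_isAffineOpen_mem_and_subset (x := x) (U := ⊤) trivial
    exact ⟨⟨U, hU⟩, hx⟩
  obtain ⟨r, hr⟩ := QCoh.app_surjective_of_epi QCoh.isQCoh_structureModule (ParShLib.isCoh_quotMod I).1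
    (ClSub.toSubscheme I) U.2 (σ.app U.1 (1 : Γ(X, U.1)))
  show σ.app U.1 ((ClSub.idealModι I).app U.1 m) = 0
  refine (app_eq_smul_one σ U.1 _).trans ?_
  rw [← hr, ← Scheme.Modules.Hom.app_smul]
  show I.subschemeι.app U.1 (OmegaSh.idealSect I U.1 m * (show Γ(X, U.1) from r)) = 0
  rw [← RingHom.mem_ker, I.ker_subschemeι_app U]
  exact Ideal.mul_mem_right _ _ (OmegaLib.idealSect_mem I U m)

theorem exists_iso_divMod_structure (hI : BlowUp.IsEffCartierIdeal I) :
    ∃ e : divMod (Coh.structureModule X) I ≅ ClSub.quotMod I,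
      divπ (Coh.structureModule X) I ≫ e.hom = ClSub.toSubscheme I := by
  have hO := isInvertible_O X
  haveI : Epi (ClSub.toSubscheme I) := CurvePoint.epi_toSubscheme I
  have h1 : idealMul (Coh.structureModule X) I ≫ ClSub.toSubscheme I = 0 := by
    choose W hxW e a he hIa ha using exists_frame_chart hO hI
    refine QCoh.hom_eq_zero_of_cover (AmpleVan.isCoh_invertible (isInvertible_tensorMod hO (isInvertible_idealMod hI))).1
      (ParShLib.isCoh_quotMod I).1 _ (fun x => (W x).1) (fun x => (W x).2) (fun x => ⟨x, hxW x⟩) fun x y => ?_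
    obtain ⟨k₀, hk₀⟩ := OmegaLib.exists_of_mem I (W x) (a x) (hIa x ▸ Ideal.mem_span_singleton_self _)
    obtain ⟨r, hr⟩ := (isFrame_tmul (he x) (isFrame_of_generator hI (hIa x) hk₀)).exists_coord le_rfl y
    rw [AModX.res_self] at hr
    show (ClSub.toSubscheme I).app (W x).1 ((idealMul (Coh.structureModule X) I).app (W x).1 y) = 0
    rw [hr, Scheme.Modules.Hom.app_smul, idealMul_tmul, hk₀, smul_smul]
    show I.subschemeι.app (W x).1 ((r * a x) * (show Γ(X, (W x).1) from e x)) = 0
    rw [← RingHom.mem_ker, I.ker_subschemeι_app (W x), hIa x, Ideal.mem_span_singleton]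
    exact (dvd_mul_left _ _).trans (dvd_mul_right _ _)
  have h2 : ClSub.idealModι I ≫ divπ (Coh.structureModule X) I = 0 := by
    choose W hxW e a he hIa ha using exists_frame_chart hO hI
    refine QCoh.hom_eq_zero_of_cover (isCoh_idealMod _).1 (isCoh_divMod hO hI).1 _ (fun x => (W x).1)
      (fun x => (W x).2) (fun x => ⟨x, hxW x⟩) fun x m => ?_
    show (divπ (Coh.structureModule X) I).app (W x).1 ((ClSub.idealModι I).app (W x).1 m) = 0
    refine (app_eq_smul_one _ (W x).1 _).trans ((divπ_smul_eq_zero hO hI (W x) (isFrame_one _) (hIa x) _).2 ?_)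
    rw [← Ideal.mem_span_singleton, ← hIa x]
    exact OmegaLib.idealSect_mem I (W x) m
  let F : divMod (Coh.structureModule X) I ⟶ ClSub.quotMod I := cokernel.desc _ _ h1
  let G : ClSub.quotMod I ⟶ divMod (Coh.structureModule X) I := descQuot I _ h2
  have hF : divπ (Coh.structureModule X) I ≫ F = ClSub.toSubscheme I := cokernel.π_desc _ _ _
  have hG : ClSub.toSubscheme I ≫ G = divπ (Coh.structureModule X) I := toSubscheme_descQuot _ _ _
  refine ⟨⟨F, G, ?_, ?_⟩, hF⟩
  · rw [← cancel_epi (divπ (Coh.structureModule X) I), reassoc_of% hF, hG, Category.comp_id]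
  · rw [← cancel_epi (ClSub.toSubscheme I), reassoc_of% hG, hF, Category.comp_id]

variable (k : Type u) [Field k] [IsAlgClosed k] [X.Over (Spec (CommRingCat.of k))]
  [IsProper (X ↘ Spec (CommRingCat.of k))]

include k in
/-- A numerically connected divisor on a surface has only constant functions. -/
theorem finrank_h0_quotMod_of_numConn (hreg : ∀ x : X, IsRegularLocalRing (X.presheaf.stalk x))
    (hdim : topologicalKrullDim X = 2) (hI : BlowUp.IsEffCartierIdeal I) (hI0 : I ≠ ⊤)
    (hnc : ∀ D₁ D₂ : X.IdealSheafData, BlowUp.IsEffCartierIdeal D₁ → BlowUp.IsEffCartierIdeal D₂ →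
      D₁ ≠ ⊤ → D₂ ≠ ⊤ → I = D₁ * D₂ → 0 < pair k (ClSub.idealMod D₁) (ClSub.idealMod D₂)) :
    Module.finrank k (Coh.HH X (ClSub.quotMod I) 0) = 1 := by
  haveI := CurveCohLib.isNoetherian_of_proper (k := k) (X := X)
  have hO := isInvertible_O X
  haveI := CurveCohLib.finite_HH (k := k) (ParShLib.isCoh_quotMod I) 0
  haveI : Epi (ClSub.toSubscheme I) := CurvePoint.epi_toSubscheme I
  obtain ⟨t₁, ht₁⟩ := homOfClass_surjective (ClSub.toSubscheme I)
  have ht₁0 : t₁ ≠ 0 := by
    intro h
    have h0 : ClSub.toSubscheme I = 0 := by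
      rw [← ht₁, h]
      have hadd := CurveSpecial.homOfClass_add (0 : Coh.HH X (ClSub.quotMod I) 0) 0
      rw [add_zero] at hadd
      exact add_left_cancel (a := CurveSpecial.homOfClass (0 : Coh.HH X (ClSub.quotMod I) 0))
        (hadd.symm.trans (add_zero _).symm)
    have hz : IsZero (ClSub.quotMod I) := (IsZero.iff_id_eq_zero _).2 (by
      rw [← cancel_epi (ClSub.toSubscheme I), h0, zero_comp, zero_comp])
    refine hI0 ((Scheme.IdealSheafData.support_eq_bot_iff I).1 (TopologicalSpace.Closeds.ext ?_))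
    rw [← support_quotMod_eq I, QCoh.support_eq_empty_of_isZero hz (ParShLib.isCoh_quotMod I).1]
    rfl
  obtain ⟨e, he⟩ := exists_iso_divMod_structure hI
  have key : ∀ (t : Coh.HH X (ClSub.quotMod I) 0) (ψ : ClSub.quotMod I ⟶ ClSub.quotMod I),
      ClSub.toSubscheme I ≫ ψ = CurveSpecial.homOfClass t → t ≠ 0 → IsIso ψ := by
    intro t ψ hψ ht
    have hne : CurveSpecial.homOfClass t ≫ e.inv ≠ 0 := fun h =>
      CurveSpecial.homOfClass_ne_zero ht ((cancel_mono e.inv).1 (by rw [h, zero_comp]))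
    obtain ⟨φ, hφ⟩ := exists_iso_of_sec hO hI _ hreg k hdim hnc (fun D _ _ _ => le_of_eq (by
      rw [curveDeg, euler_congr k (tUnit (ClSub.quotMod D))]; simp)) hne
    have : ψ = φ.hom ≫ e.hom := by
      rw [← cancel_epi (ClSub.toSubscheme I), hψ, reassoc_of% hφ, Iso.inv_hom_id, Category.comp_id]
    rw [this]
    infer_instance
  refine finrank_eq_one t₁ ht₁0 fun t => ?_
  let φ : ClSub.quotMod I ⟶ ClSub.quotMod I := descQuot I _ (idealModι_comp_eq_zero (CurveSpecial.homOfClass t))
  haveI : Nontrivial (Coh.HH X (ClSub.quotMod I) 0) := ⟨⟨t₁, 0, ht₁0⟩⟩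
  obtain ⟨c, hc⟩ := Module.End.exists_eigenvalue (mapLin k φ 0)
  obtain ⟨v, hv⟩ := hc.exists_hasEigenvector
  refine ⟨c, Eq.symm ?_⟩
  by_contra hne
  have hne' : t + (-c) • t₁ ≠ 0 := fun h => hne (by rw [neg_smul, ← sub_eq_add_neg, sub_eq_zero] at h; exact h)
  haveI := key _ (φ + Formal.smulMod k (ClSub.quotMod I) (-c)) (by
    rw [Preadditive.comp_add, toSubscheme_descQuot, CurveSpecial.homOfClass_add, CurveSpecial.homOfClass_smul, ht₁])
    hne'
  have h0 : mapLin k (φ + Formal.smulMod k (ClSub.quotMod I) (-c)) 0 v = 0 := by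
    rw [CurveDuality.mapLin_add, FFun.mapLin_smulMod, show mapLin k φ 0 v = c • v from hv.apply_eq_smul]
    module
  refine hv.2 ?_
  have h2 := congrArg (mapLin k (inv (φ + Formal.smulMod k (ClSub.quotMod I) (-c))) 0) h0
  rwa [FFun.mapLin_comp, IsIso.hom_inv_id, map_zero, CurveDuality.mapLin_id] at h2

end Groth.Agent.SurfInt
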