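import Groth.Agent.SurfInt.ConnNormal
import Groth.Agent.ArSurfBase.Birat
import Groth.Agent.H23.RedSub
import Groth.Agent.H23.PnChart
import Groth.Agent.NagataLib.Field
import Groth.Agent.Triage.NormInX
import Groth.Agent.SerreVan45.FlatProj
import Groth.Agent.VarDim.Basic
import Groth.Agent.S7616
import Groth.Agent.S9688
import Groth.Agent.S4448
import Groth.Agent.NormFieldX.Curve

/-!
# Connectedness of complements of affine opens on proper surfaces
-/

set_option autoImplicit false
set_option linter.style.haveILetI false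
set_option backward.isDefEq.respectTransparency false
set_option backward.isDefEq.respectTransparency.types false
attribute [-instance] CategoryTheory.catToReflQuiver

universe u

open CategoryTheory CategoryTheory.Limits AlgebraicGeometry TopologicalSpace

noncomputable section

namespace Groth.Agent.SurfInt

open Groth.Agent
open HomogeneousLocalization (Away)

/-- Preimages of connected sets under closed maps with connected fibres. -/
theorem isPreconnected_preimage {S T : Type*} [TopologicalSpace S] [TopologicalSpace T] {q : S → T}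
    (hcl : IsClosedMap q) (hc : Continuous q) {C : Set T} (hC : IsClosed C) (hCc : _root_.IsPreconnected C)
    (hfib : ∀ t ∈ C, _root_.IsPreconnected (q ⁻¹' {t})) (hsurj : C ⊆ Set.range q) :
    _root_.IsPreconnected (q ⁻¹' C) := by
  rw [isPreconnected_closed_iff]
  intro u v hu hv hsub huN hvN
  by_contra hemp
  rw [Set.not_nonempty_iff_eq_empty] at hemp
  have hP : IsClosed (q ⁻¹' C) := hC.preimage hc
  have hA := hcl _ (hP.inter hu)
  have hB := hcl _ (hP.inter hv)
  obtain ⟨t, htC, ⟨a, ha, rfl⟩, ⟨b, hb, hbt⟩⟩ := isPreconnected_closed_iff.1 hCc _ _ hA hB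
    (fun t ht => by
      obtain ⟨z, rfl⟩ := hsurj ht
      rcases hsub (show z ∈ q ⁻¹' C from ht) with h | h
      · exact Or.inl ⟨z, ⟨ht, h⟩, rfl⟩
      · exact Or.inr ⟨z, ⟨ht, h⟩, rfl⟩)
    (huN.elim fun z hz => ⟨q z, hz.1, z, hz, rfl⟩)
    (hvN.elim fun z hz => ⟨q z, hz.1, z, hz, rfl⟩)
  obtain ⟨z, hz, hzu, hzv⟩ := isPreconnected_closed_iff.1 (hfib (q a) htC) u v hu hv
    (fun z (hz : q z = q a) => hsub (show q z ∈ C from hz ▸ htC)) ⟨a, rfl, ha.2⟩ ⟨b, hbt, hb.2⟩
  exact (Set.eq_empty_iff_forall_notMem.1 hemp z) ⟨show q z ∈ C from (hz : q z = q a) ▸ htC, hzu, hzv⟩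

variable {k : Type u} [Field k]

/-- A finite dominant map from an affine open of a surface onto an affine chart of the plane. -/
theorem exists_chart_map {X : Scheme.{u}} [IsIntegral X] (p : X ⟶ Spec (CommRingCat.of k)) [IsProper p]
    (hdim : topologicalKrullDim X = 2) {U : X.Opens} (hU : IsAffineOpen U) [Nonempty U] :
    ∃ (A : (CohB1.ProjSpace 2 k).Opens) (g : U.toScheme ⟶ A.toScheme),
      IsAffineOpen A ∧ IsFinite g ∧ Surjective g ∧ g ≫ A.ι ≫ CohB1.ProjSpace.toSpec 2 k = U.ι ≫ p := by
  let R := Γ(X, U)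
  let ψk : CommRingCat.of k ⟶ R := Spec.preimage (hU.fromSpec ≫ p)
  have hψk : Spec.map ψk = hU.fromSpec ≫ p := Spec.map_preimage _
  letI : Algebra k R := ψk.hom.toAlgebra
  haveI : Algebra.FiniteType k R := by
    have h : LocallyOfFiniteType (Spec.map ψk) := by rw [hψk]; infer_instance
    rw [HasRingHomProperty.Spec_iff (P := @LocallyOfFiniteType)] at h
    exact h
  obtain ⟨d, g₀, hginj, hgfin⟩ := exists_finite_inj_algHom_of_fg k R
  have hR : ringKrullDim R = 2 := (SerreVan45.ringKrullDim_sections p hU).trans hdim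
  have hd : d = 2 := by
    letI := g₀.toRingHom.toAlgebra
    haveI : Module.Finite (MvPolynomial (Fin d) k) R := hgfin
    haveI : Algebra.IsIntegral (MvPolynomial (Fin d) k) R := Algebra.IsIntegral.of_finite _ _
    haveI : FaithfulSMul (MvPolynomial (Fin d) k) R := (faithfulSMul_iff_algebraMap_injective _ _).2 hginj
    have h := VarDim.ringKrullDim_eq_of_isIntegral (R := MvPolynomial (Fin d) k) (S := R)
    rw [hR, MvPolynomial.ringKrullDim_of_isNoetherianRing, ringKrullDim_eq_zero_of_field, zero_add] at h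
    simp at h
    exact_mod_cast h.symm
  subst hd
  let eI : H23.PnChart.Idx.{u} 2 0 ≃ Fin 2 := Equiv.ulift.trans (finSuccAboveEquiv (0 : Fin 3)).symm
  let e₁ := RingEquiv.ofBijective (H23.PnChart.fromChart 2 k 0)
    ⟨H23.PnChart.fromChart_injective 2 k 0, H23.PnChart.fromChart_surjective 2 k 0⟩
  let ψ : Away (CohB1.polyGrading 2 k) (MvPolynomial.X (0 : Fin 3)) →+* R :=
    g₀.toRingHom.comp ((MvPolynomial.renameEquiv k eI).toRingEquiv.toRingHom.comp e₁.symm.toRingHom)
  have hψi : Function.Injective ψ :=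
    hginj.comp ((MvPolynomial.renameEquiv k eI).injective.comp e₁.symm.injective)
  have hψf : ψ.Finite := RingHom.Finite.comp hgfin (RingHom.Finite.of_surjective _
    ((MvPolynomial.renameEquiv k eI).surjective.comp e₁.symm.surjective))
  have hψb : ψ.comp (ZetaLib.base 2 k 0) = ψk.hom := RingHom.ext fun c => by
    have h : e₁.symm (ZetaLib.base 2 k 0 c) = MvPolynomial.C c := by
      rw [RingEquiv.symm_apply_eq]
      show _ = H23.PnChart.fromChart 2 k 0 (MvPolynomial.C c)
      rw [H23.PnChart.fromChart, MvPolynomial.eval₂Hom_C]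
    show g₀ (MvPolynomial.renameEquiv k eI (e₁.symm (ZetaLib.base 2 k 0 c))) = _
    rw [h]
    simp
    rfl
  let c := ZetaLib.chart 2 k 0
  let f := hU.isoSpec.hom ≫ Spec.map (CommRingCat.ofHom ψ)
  haveI : IsFinite (Spec.map (CommRingCat.ofHom ψ)) := (IsFinite.SpecMap_iff _).2 hψf
  haveI : Surjective (Spec.map (CommRingCat.ofHom ψ)) := ⟨fun x => by
    letI := ψ.toAlgebra
    haveI : Module.Finite (Away (CohB1.polyGrading 2 k) (MvPolynomial.X (0 : Fin 3))) R := hψf
    haveI : Algebra.IsIntegral (Away (CohB1.polyGrading 2 k) (MvPolynomial.X (0 : Fin 3))) R :=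
      Algebra.IsIntegral.of_finite _ _
    haveI : FaithfulSMul (Away (CohB1.polyGrading 2 k) (MvPolynomial.X (0 : Fin 3))) R :=
      (faithfulSMul_iff_algebraMap_injective _ _).2 hψi
    exact Algebra.IsIntegral.comap_surjective (R := Away (CohB1.polyGrading 2 k) (MvPolynomial.X (0 : Fin 3))) (S := R) (x : PrimeSpectrum _)⟩
  refine ⟨c.opensRange, f ≫ c.isoOpensRange.hom, isAffineOpen_opensRange c, inferInstance, inferInstance, ?_⟩
  have h1 : c.isoOpensRange.hom ≫ c.opensRange.ι = c := c.isoOpensRange_hom_ι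
  rw [Category.assoc, reassoc_of% h1, Category.assoc, ZetaLib.chart_toSpec, ← Spec.map_comp, ← CommRingCat.ofHom_comp,
    hψb]
  show hU.isoSpec.hom ≫ Spec.map ψk = _
  rw [hψk, ← Category.assoc, IsAffineOpen.isoSpec_hom, IsAffineOpen.toSpecΓ_fromSpec]

/-- A finite surjective normalisation of an affine variety. -/
theorem exists_normalization {U : Scheme.{u}} [IsIntegral U] [IsAffine U] (q : U ⟶ Spec (CommRingCat.of k))
    [LocallyOfFiniteType q] :
    ∃ (V : Scheme.{u}) (ν : V ⟶ U), IsFinite ν ∧ Surjective ν ∧ IsIntegral V ∧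
      ∀ v : V, IsIntegrallyClosed (V.presheaf.stalk v) := by
  haveI : IsLocallyNoetherian U := LocallyOfFiniteType.isLocallyNoetherian q
  let g := U.fromSpecStalk (genericPoint U)
  haveI : IsFinite g.fromNormalization := S9688.result U fun V hV hne => by
    haveI := hne
    obtain ⟨ψ, hψ⟩ := NormFieldX.exists_algebra k U q hV
    haveI : IsDomain Γ(U, V) := @IsIntegral.component_integral U _ V hne
    letI := ψ.toAlgebra
    haveI : Algebra.FiniteType k Γ(U, V) := hψ
    exact NagataLib.isN2_of_finiteType k Γ(U, V)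
  obtain ⟨hint, hnorm, -⟩ := S4448.result U U.functionField (RingHom.id _) g (by
    exact ((congrArg (· ≫ _) (Spec.map_id _)).trans (Category.id_comp _)).symm)
  haveI := hint
  refine ⟨g.normalization, g.fromNormalization, inferInstance, ⟨fun x => ?_⟩, hint, fun v => (hnorm v).2⟩
  have hgen : genericPoint U ∈ Set.range g.fromNormalization :=
    ⟨g.toNormalization (IsLocalRing.closedPoint _), by
      rw [← Scheme.Hom.comp_apply, Scheme.Hom.toNormalization_fromNormalization]
      exact Scheme.fromSpecStalk_closedPoint⟩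
  exact (g.fromNormalization.isClosedMap.isClosed_range.closure_subset_iff.2 (Set.singleton_subset_iff.2 hgen))
    ((genericPoint_closure (U : Type u)).ge (Set.mem_univ x))

/-- **The complement of a nonempty affine open in a proper integral surface is connected.** -/
theorem isConnected_compl_affine {X : Scheme.{u}} [IsIntegral X] (p : X ⟶ Spec (CommRingCat.of k)) [IsProper p]
    (hdim : topologicalKrullDim X = 2) {U : X.Opens} (hU : IsAffineOpen U) (hne : (U : Set X).Nonempty) :
    _root_.IsConnected ((U : Set X)ᶜ) := by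
  let P := CohB1.ProjSpace 2 k
  haveI := PnCoh.Chow.isProper_toSpec 2 k
  haveI : Nonempty U := hne.to_subtype
  haveI : IsIntegral U.toScheme := isIntegral_of_isOpenImmersion U.ι
  haveI : IsAffine U.toScheme := hU
  obtain ⟨A, g, hA, hgfin, hgsurj, hgk⟩ := exists_chart_map p hdim hU
  obtain ⟨V, νV, hνfin, hνsurj, hVint, hVN⟩ := exists_normalization (U.ι ≫ p)
  haveI := hgfin; haveI := hgsurj; haveI := hνfin; haveI := hνsurj; haveI := hVint
  haveI : IsLocallyNoetherian (CohB1.ProjSpace 2 k) :=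
    LocallyOfFiniteType.isLocallyNoetherian (CohB1.ProjSpace.toSpec 2 k)
  let gm : V ⟶ CohB1.ProjSpace 2 k := (νV ≫ g) ≫ A.ι
  letI : V.Over (Spec (CommRingCat.of k)) := ⟨gm ≫ CohB1.ProjSpace.toSpec 2 k⟩
  letI : P.Over (Spec (CommRingCat.of k)) := ⟨CohB1.ProjSpace.toSpec 2 k⟩
  haveI : gm.IsOver (Spec (CommRingCat.of k)) := ⟨rfl⟩
  haveI : LocallyOfFiniteType (V ↘ Spec (CommRingCat.of k)) :=
    inferInstanceAs (LocallyOfFiniteType (gm ≫ CohB1.ProjSpace.toSpec 2 k))
  haveI : LocallyOfFiniteType (P ↘ Spec (CommRingCat.of k)) :=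
    inferInstanceAs (LocallyOfFiniteType (CohB1.ProjSpace.toSpec 2 k))
  haveI : IsFinite gm.fromNormalization := S7616.result k P V gm
  haveI : LocallyQuasiFinite gm := inferInstance
  haveI : IsOpenImmersion gm.toNormalization := inferInstance
  let W := gm.normalization
  let π : W ⟶ P := gm.fromNormalization
  let j : V ⟶ W := gm.toNormalization
  have hjπ : j ≫ π = gm := gm.toNormalization_fromNormalization
  haveI : Nonempty W := ⟨j (genericPoint V)⟩
  haveI : IsIntegral W := inferInstance
  have hgmgen : gm (genericPoint V) = genericPoint P := by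
    have hr : closure (Set.range gm) = Set.univ := by
      have h1 : Set.range gm = (A : Set P) := by
        show Set.range ((νV ≫ g) ≫ A.ι) = _
        rw [Scheme.Hom.comp_base, TopCat.coe_comp, Set.range_comp,
          Function.Surjective.range_eq (show Function.Surjective (νV ≫ g) from (νV ≫ g).surjective), Set.image_univ,
          Scheme.Opens.range_ι]
      rw [h1]
      obtain ⟨x⟩ := (inferInstance : Nonempty U)
      exact (A.2.dense ⟨_, (g x).2⟩).closure_eq
    have h := (genericPoint_spec (V : Type u)).image gm.continuous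
    rw [Set.image_univ, hr] at h
    exact h.eq (genericPoint_spec (P : Type u))
  have hπgen : π (genericPoint W) = genericPoint P := by
    rw [← genericPoint_eq_of_isOpenImmersion j, ← Scheme.Hom.comp_apply, hjπ, hgmgen]
  haveI : IsDominant gm := ⟨by
    rw [DenseRange, dense_iff_closure_eq, Set.eq_univ_iff_forall]
    exact fun x => closure_mono (s := {genericPoint P}) (t := Set.range gm) (Set.singleton_subset_iff.2 ⟨_, hgmgen⟩)
      ((genericPoint_closure (P : Type u)).ge (Set.mem_univ x))⟩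
  have hWN : ∀ w : W, IsIntegrallyClosed (W.presheaf.stalk w) :=
    fun w => Triage.NormInX.isIntegrallyClosed_stalk gm hVN w
  obtain ⟨x₀⟩ := (inferInstance : Nonempty U)
  have hAne : (A : Set P).Nonempty := ⟨_, (g x₀).2⟩
  have hconn := isConnected_compl_preimage hWN π hπgen hA hAne
  let WA : W.Opens := π ⁻¹ᵁ A
  have hjr : Set.range j ⊆ Set.range WA.ι := by
    rintro _ ⟨v, rfl⟩
    rw [Scheme.Opens.range_ι]
    show (j ≫ π) v ∈ A
    rw [hjπ]
    exact ((νV ≫ g) v).2
  let j' : V ⟶ WA := IsOpenImmersion.lift WA.ι j hjr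
  have hj' : j' ≫ WA.ι = j := IsOpenImmersion.lift_fac _ _ _
  have hj'g : j' ≫ (π ∣_ A) = νV ≫ g := by
    rw [← cancel_mono A.ι, Category.assoc, morphismRestrict_ι, reassoc_of% hj', hjπ]
  haveI : IsFinite (j' ≫ (π ∣_ A)) := by rw [hj'g]; infer_instance
  haveI : IsFinite j' := IsFinite.of_comp j' (π ∣_ A)
  haveI : IsOpenImmersion (j' ≫ WA.ι) := by rw [hj']; infer_instance
  haveI : IsOpenImmersion j' := IsOpenImmersion.of_comp j' WA.ι
  haveI : Nonempty WA := ⟨j' (genericPoint V)⟩
  haveI : IsIntegral WA.toScheme := isIntegral_of_isOpenImmersion WA.ι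
  haveI : Surjective j' := ⟨fun w => by
    have hcl : IsClopen (Set.range j') := ⟨j'.isClosedMap.isClosed_range, j'.isOpenEmbedding.isOpen_range⟩
    rcases isClopen_iff.1 hcl with h | h
    · exact absurd (h ▸ Set.mem_range_self (genericPoint V) : j' (genericPoint V) ∈ (∅ : Set WA)) (Set.notMem_empty _)
    · exact h.ge (Set.mem_univ w)⟩
  haveI : IsIso j' := (isIso_iff_isOpenImmersion_and_surjective _).2 ⟨inferInstance, inferInstance⟩
  have hk : j ≫ (π ≫ CohB1.ProjSpace.toSpec 2 k) = (νV ≫ U.ι) ≫ p := by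
    rw [reassoc_of% hjπ]
    show ((νV ≫ g) ≫ A.ι) ≫ _ = _
    rw [Category.assoc, Category.assoc, hgk, Category.assoc]
  let T := pullback (π ≫ CohB1.ProjSpace.toSpec 2 k) p
  let h : V ⟶ T := pullback.lift j (νV ≫ U.ι) hk
  let I := Scheme.IdealSheafData.vanishingIdeal (⟨closure (Set.range h), isClosed_closure⟩ : Closeds T)
  let Z := I.subscheme
  have hZr : Set.range I.subschemeι = closure (Set.range h) := H23.RedSub.range_vanishingIdeal _
  obtain ⟨σ, hσ⟩ := H23.RedSub.exists_lift_closed h I.subschemeι (subset_closure.trans hZr.ge)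
  have hσd : DenseRange σ := by
    rw [DenseRange, dense_iff_closure_eq]
    apply Set.image_injective.2 I.subschemeι.isClosedEmbedding.injective
    rw [← I.subschemeι.isClosedEmbedding.closure_image_eq, Set.image_univ, hZr, ← Set.range_comp,
      ← TopCat.coe_comp, ← Scheme.Hom.comp_base, hσ]
  haveI : IsReduced Z := H23.RedSub.isReduced_vanishingIdeal _
  haveI : IrreducibleSpace Z := by
    have h1 : IsIrreducible (closure (Set.range σ)) := by
      rw [← Set.image_univ]
      exact ((IrreducibleSpace.isIrreducible_univ _).image _ σ.continuous.continuousOn).closure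
    rw [hσd.closure_range] at h1
    exact { toPreirreducibleSpace := ⟨h1.2⟩, toNonempty := ⟨σ (genericPoint V)⟩ }
  haveI : IsIntegral Z := isIntegral_of_irreducibleSpace_of_isReduced Z
  let q : Z ⟶ W := I.subschemeι ≫ pullback.fst _ _
  let p' : Z ⟶ X := I.subschemeι ≫ pullback.snd _ _
  haveI : IsProper (π ≫ CohB1.ProjSpace.toSpec 2 k) := inferInstance
  haveI : IsProper q := inferInstance
  haveI : IsProper p' := inferInstance
  have hσq : σ ≫ q = j := by rw [reassoc_of% hσ, pullback.lift_fst]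
  have hσp : σ ≫ p' = νV ≫ U.ι := by rw [reassoc_of% hσ, pullback.lift_snd]
  let E : Z.Opens := q ⁻¹ᵁ WA
  have hσE : Set.range σ ⊆ Set.range E.ι := by
    rintro _ ⟨v, rfl⟩
    rw [Scheme.Opens.range_ι]
    show (σ ≫ q) v ∈ WA
    rw [hσq, ← hj']
    exact (j' v).2
  let τ : V ⟶ E := IsOpenImmersion.lift E.ι σ hσE
  have hτ : τ ≫ E.ι = σ := IsOpenImmersion.lift_fac _ _ _
  haveI : IsDominant τ := ⟨by
    have h1 : Dense (Subtype.val ⁻¹' Set.range σ : Set E) :=
      hσd.preimage E.2.isOpenEmbedding_subtypeVal.isOpenMap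
    refine h1.mono ?_
    rintro e ⟨v, hv⟩
    exact ⟨v, Subtype.ext ((congrArg (fun t : V ⟶ Z => t v) hτ).trans hv)⟩⟩
  have hτq : τ ≫ (q ∣_ WA) = j' := by
    rw [← cancel_mono WA.ι, Category.assoc, morphismRestrict_ι, reassoc_of% hτ, hσq, hj']
  haveI hiso : IsIso (q ∣_ WA) := by
    refine ⟨inv j' ≫ τ, ?_, ?_⟩
    · haveI : E.toScheme.IsSeparated := ⟨by
        rw [← terminal.comp_from (E.ι ≫ q ≫ π ≫ CohB1.ProjSpace.toSpec 2 k)]; infer_instance⟩
      refine ext_of_isDominant τ ?_
      rw [reassoc_of% hτq, IsIso.hom_inv_id_assoc, Category.comp_id]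
    · rw [Category.assoc, hτq, IsIso.inv_hom_id]
  obtain ⟨e, hbir⟩ := ArSurfBase.birational_of_isIso_restrict q
    ⟨WA, ⟨_, (j' (genericPoint V)).2⟩, hiso⟩
  haveI : IsLocallyNoetherian W := LocallyOfFiniteType.isLocallyNoetherian (π ≫ CohB1.ProjSpace.toSpec 2 k)
  have hfib := fun w => ArSurfBase.isPreconnected_fibre_of_isIso_app q
    (fun O hO => ArSurfBase.isIso_app_of_birational q hWN e hbir O hO) w
  have hqsurj : Function.Surjective q := fun w => by
    exact (q.isClosedMap.isClosed_range.closure_subset_iff.2 (Set.singleton_subset_iff.2 ⟨_, e⟩))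
      ((genericPoint_closure (W : Type u)).ge (Set.mem_univ w))
  have hEq : ∀ z : Z, p' z ∈ U ↔ q z ∈ WA := fun z => by
    constructor
    · intro hz
      let E' : Z.Opens := p' ⁻¹ᵁ U
      let σ' : V ⟶ E' := IsOpenImmersion.lift E'.ι σ (by
        rintro _ ⟨v, rfl⟩
        rw [Scheme.Opens.range_ι]
        show (σ ≫ p') v ∈ U
        rw [hσp]
        exact (νV v).2)
      have hσ' : σ' ≫ E'.ι = σ := IsOpenImmersion.lift_fac _ _ _
      haveI : IsDominant σ' := ⟨by
        refine (hσd.preimage E'.2.isOpenEmbedding_subtypeVal.isOpenMap).mono ?_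
        rintro e ⟨v, hv⟩
        exact ⟨v, Subtype.ext ((congrArg (fun t : V ⟶ Z => t v) hσ').trans hv)⟩⟩
      haveI : P.IsSeparated := ⟨by
        rw [← terminal.comp_from (CohB1.ProjSpace.toSpec 2 k)]; infer_instance⟩
      have hσ'p : σ' ≫ (p' ∣_ U) = νV := by
        rw [← cancel_mono U.ι, Category.assoc, morphismRestrict_ι, reassoc_of% hσ', hσp]
      have key : E'.ι ≫ q ≫ π = (p' ∣_ U) ≫ g ≫ A.ι :=
        ext_of_isDominant σ' (by
          rw [reassoc_of% hσ', reassoc_of% hσq, hjπ, reassoc_of% hσ'p]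
          exact Category.assoc _ _ _)
      show π (q z) ∈ A
      have h2 : (E'.ι ≫ q ≫ π) ⟨z, hz⟩ = π (q z) := rfl
      rw [← h2, key]
      exact (g ((p' ∣_ U) ⟨z, hz⟩)).2
    · intro hz
      haveI : IsIso τ := IsIso.of_isIso_fac_right hτq
      obtain ⟨v, hv⟩ := τ.surjective ⟨z, hz⟩
      have hz' : σ v = z := by
        rw [← hτ, Scheme.Hom.comp_apply, hv]
        rfl
      rw [← hz', ← Scheme.Hom.comp_apply, hσp]
      exact (νV v).2
  have hp'surj : Function.Surjective p' := fun x => by
    have h1 : (U : Set X) ⊆ Set.range p' := fun y hy => by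
      obtain ⟨v, hv⟩ := νV.surjective ⟨y, hy⟩
      refine ⟨σ v, ?_⟩
      rw [← Scheme.Hom.comp_apply, hσp, Scheme.Hom.comp_apply, hv]
      rfl
    exact p'.isClosedMap.isClosed_range.closure_eq.le ((U.2.dense hne).mono h1 x)
  have himg : (U : Set X)ᶜ = p' '' (q ⁻¹' (WA : Set W)ᶜ) := by
    ext x
    constructor
    · intro hx
      obtain ⟨z, rfl⟩ := hp'surj x
      exact ⟨z, fun h => hx ((hEq z).2 h), rfl⟩
    · rintro ⟨z, hz, rfl⟩ hx
      exact hz ((hEq z).1 hx)
  rw [himg]
  refine ⟨(hconn.nonempty.preimage hqsurj).image _, ?_⟩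
  exact (isPreconnected_preimage q.isClosedMap q.continuous WA.2.isClosed_compl hconn.isPreconnected
    (fun t _ => hfib t) fun t _ => hqsurj t).image _ p'.continuous.continuousOn

end Groth.Agent.SurfInt
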