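import Mathlib.RingTheory.UniqueFactorizationDomain.Basic
import Mathlib.RingTheory.Localization.AtPrime.Basic
import Mathlib.RingTheory.KrullDimension.Basic
import Mathlib.RingTheory.Nilpotent.Lemmas
import Mathlib.Tactic.LinearCombination

/-!
# The ideal quotient of a principal ideal by an element
-/

set_option linter.style.haveILetI false

universe u

namespace Groth.Agent.SurfInt

variable {R : Type u} [CommRing R]

/-- `(a) : g`. -/
def colonPr (a g : R) : Ideal R where
  carrier := {b | a ∣ b * g}
  add_mem' := fun {b c} hb hc => by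
    show a ∣ (b + c) * g
    rw [add_mul]; exact dvd_add hb hc
  zero_mem' := by simp
  smul_mem' := fun c b hb => by
    show a ∣ (c * b) * g
    rw [mul_assoc]; exact dvd_mul_of_dvd_right hb c

theorem mem_colonPr {a g b : R} : b ∈ colonPr a g ↔ a ∣ b * g := Iff.rfl

/-- The ideal quotient commutes with localisation. -/
theorem colonPr_map {S : Type u} [CommRing S] [Algebra R S] (M : Submonoid R) [IsLocalization M S] (a g : R) :
    (colonPr a g).map (algebraMap R S) = colonPr (algebraMap R S a) (algebraMap R S g) := by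
  refine le_antisymm (Ideal.map_le_iff_le_comap.2 fun b hb => ?_) fun y hy => ?_
  · show _ ∣ algebraMap R S b * algebraMap R S g
    rw [← map_mul]
    exact map_dvd _ hb
  · obtain ⟨b, t, rfl⟩ := IsLocalization.exists_mk'_eq M y
    obtain ⟨c, hc⟩ := hy
    obtain ⟨c₀, t', rfl⟩ := IsLocalization.exists_mk'_eq M c
    have h2 : algebraMap R S (b * g * t') = algebraMap R S (a * c₀ * t) := by
      rw [map_mul, map_mul, map_mul, map_mul, ← IsLocalization.mk'_spec S b t, ← IsLocalization.mk'_spec S c₀ t']
      linear_combination (algebraMap R S t * algebraMap R S t') * hc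
    obtain ⟨r, hr⟩ := (IsLocalization.eq_iff_exists M S).mp h2
    refine (IsLocalization.mk'_mem_map_algebraMap_iff M S _ b t).2 ⟨r * t', Submonoid.mul_mem _ r.2 t'.2, ?_⟩
    exact ⟨r * c₀ * t, by linear_combination hr⟩

/-- In a factorial domain the ideal quotient is principal. -/
theorem exists_colonPr_eq_span [IsDomain R] [UniqueFactorizationMonoid R] {a : R} (ha : a ≠ 0) (g : R) :
    ∃ f : R, f ≠ 0 ∧ colonPr a g = Ideal.span {f} := by
  obtain ⟨a', g', c, hrel, rfl, rfl⟩ := UniqueFactorizationMonoid.exists_reduced_factors a ha g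
  refine ⟨a', right_ne_zero_of_mul ha, Ideal.ext fun b => ?_⟩
  rw [mem_colonPr, Ideal.mem_span_singleton, show b * (c * g') = c * (b * g') by ring,
    mul_dvd_mul_iff_left (left_ne_zero_of_mul ha)]
  exact ⟨fun h => hrel.dvd_of_dvd_mul_right h, fun h => h.mul_right g'⟩

/-- In a local domain of dimension at most one, `(f) : g = (f)` forces `f` or `g` to be a unit. -/
theorem two_le_ringKrullDim_of_colonPr [IsDomain R] [IsLocalRing R] {f g : R} (hf0 : f ≠ 0)
    (hf : f ∈ IsLocalRing.maximalIdeal R) (hg : g ∈ IsLocalRing.maximalIdeal R)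
    (h : colonPr f g ≤ Ideal.span {f}) : ¬ ringKrullDim R ≤ 1 := by
  intro hd
  haveI : Ring.KrullDimLE 1 R := Ring.krullDimLE_iff.2 (by exact_mod_cast hd)
  have hrad : g ∈ (Ideal.span {f}).radical := by
    rw [Ideal.radical_eq_sInf, Ideal.mem_sInf]
    rintro P ⟨hP, hPp⟩
    have hP0 : P ≠ ⊥ := fun hb => hf0 (by
      have := hP (Ideal.mem_span_singleton_self f)
      rwa [hb, Ideal.mem_bot] at this)
    have hPm : P.IsMaximal := hPp.isMaximal_of_ne_bot hP0
    rw [IsLocalRing.eq_maximalIdeal hPm]
    exact hg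
  obtain ⟨n, hn⟩ := hrad
  induction n with
  | zero =>
    rw [pow_zero, Ideal.mem_span_singleton] at hn
    exact (IsLocalRing.mem_maximalIdeal f).1 hf (isUnit_of_dvd_one hn)
  | succ m ih =>
    refine ih (h ?_)
    rw [mem_colonPr, ← pow_succ]
    exact Ideal.mem_span_singleton.1 hn

end Groth.Agent.SurfInt
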