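import Groth.Agent.SerreVan45.Main
import Groth.Agent.SurfInt.Boundary
import Groth.Agent.ArSurfBase.Inter
import Groth.Agent.ArSurfBase.PullIdeal
import Groth.Agent.ArSurfBase.FibreDiv
import Groth.Agent.ShStabX.Ascent
import Groth.Agent.AmpleVan.Uniform
import Groth.Agent.GeomField.GlobalFunctions
import Groth.Agent.HensCouple7.Gamma
import Groth.Agent.Lib.RegDescent
import Groth.Agent.ComodRes41.DimTwo
import Groth.Agent.CplFib6.QuotReg
import Groth.Agent.GrpSchLib.SmoothRegular
import Groth.Agent.CDiv6.Normal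
import Groth.Agent.S14359
import Groth.Agent.S10829
import Groth.Agent.H23.PnChart
import Groth.Agent.SerreVan45.FlatProj
import Groth.Agent.VarDim.Basic
import Groth.Agent.S9821
import Mathlib.RingTheory.IntegralClosure.GoingDown

/-!
# Connectedness of boundaries on normal finite covers of the projective plane
-/

set_option autoImplicit false
set_option linter.style.haveILetI false
set_option backward.isDefEq.respectTransparency false
set_option backward.isDefEq.respectTransparency.types false
attribute [-instance] CategoryTheory.catToReflQuiver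

universe u

open CategoryTheory CategoryTheory.Limits AlgebraicGeometry

noncomputable section

namespace Groth.Agent.SurfInt

open Groth.Agent RegLoc6
open scoped Groth.Agent.H23.PicMul

/-- A normal domain finite over a regular local ring of dimension at most two is flat over it. -/
theorem flat_of_normal_local {A B : Type u} [CommRing A] [IsDomain A] [IsRegularLocalRing A] [CommRing B]
    [IsDomain B] [IsIntegrallyClosed B] [Algebra A B] [Module.Finite A B]
    (hinj : Function.Injective (algebraMap A B)) (hdim : ringKrullDim A ≤ 2) : Module.Flat A B := by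
  haveI := CplFib6.isRegularRing_of_local A
  haveI : IsIntegrallyClosed A := by
    haveI := (RegUFD.ufd A).2
    infer_instance
  haveI : FaithfulSMul A B := (faithfulSMul_iff_algebraMap_injective A B).2 hinj
  haveI : Module.IsTorsionFree A B := inferInstance
  haveI : IsNoetherianRing B := IsNoetherianRing.of_finite A B
  by_cases hf : IsField A
  · letI := hf.toField
    infer_instance
  obtain ⟨a, ha, ha0⟩ := Submodule.exists_mem_ne_zero_of_ne_bot
    (mt IsLocalRing.isField_iff_maximalIdeal_eq.2 hf)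
  have hreg : IsSMulRegular B a := fun b b' h => by
    simp only [Algebra.smul_def] at h
    exact mul_left_cancel₀ ((map_ne_zero_iff _ hinj).2 ha0) h
  by_cases h1 : ringKrullDim A ≤ 1
  · haveI := pdLE_zero_iff.1 (pdLE_of_quotSMulTop hreg ha (n := 0)
      (H9Misc.DRingGlobalDim.pd_le (fun p => inferInstance) 1 h1 (ModuleCat.of _ _)))
    infer_instance
  have h2 : ringKrullDim A = 2 := by
    refine le_antisymm hdim ?_
    obtain ⟨d, hd⟩ := WithBot.ne_bot_iff_exists.mp (ringKrullDim_ne_bot (R := A))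
    rw [← hd] at h1 ⊢
    have h1' : ¬ d ≤ 1 := fun h => h1 (WithBot.coe_le_coe.2 h)
    exact WithBot.coe_le_coe.2 (((Order.add_one_le_of_lt (lt_of_not_ge h1')).trans' (le_of_eq (by norm_num))))
  let J : Ideal B := Ideal.span {algebraMap A B a}
  have hass : (associatedPrimes B (B ⧸ J)).Finite := associatedPrimes.finite B (B ⧸ J)
  have hnot : ¬ (IsLocalRing.maximalIdeal A : Set A) ⊆
      ⋃ P ∈ (hass.toFinset : Set (Ideal B)), (P.comap (algebraMap A B) : Set A) := by
    rw [Ideal.subset_union_prime ⊥ ⊥ fun P hP _ _ =>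
      haveI := (hass.mem_toFinset.1 hP).isPrime
      Ideal.IsPrime.comap _]
    rintro ⟨P, hP, hle⟩
    have hP' := hass.mem_toFinset.1 hP
    haveI := hP'.isPrime
    have hh := S14359.result B (algebraMap A B a) ((map_ne_zero_iff _ hinj).2 ha0) P hP'
    have heq : P.comap (algebraMap A B) = IsLocalRing.maximalIdeal A :=
      le_antisymm (IsLocalRing.le_maximalIdeal (Ideal.IsPrime.ne_top inferInstance)) hle
    haveI : Algebra.IsIntegral A B := Algebra.IsIntegral.of_finite A B
    have hge : (IsLocalRing.maximalIdeal A).height ≤ P.height := by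
      refine le_of_eq ?_
      have h5 := VarDim.height_comap (R := A) (⟨P, inferInstance⟩ : PrimeSpectrum B)
      rw [← PrimeSpectrum.height_eq_orderHeight, ← PrimeSpectrum.height_eq_orderHeight] at h5
      rw [← heq]
      exact h5
    rw [hh] at hge
    have h3 : ((IsLocalRing.maximalIdeal A).height : WithBot ℕ∞) = 2 :=
      IsLocalRing.maximalIdeal_height_eq_ringKrullDim.trans h2
    have h4 : ((IsLocalRing.maximalIdeal A).height : WithBot ℕ∞) ≤ ((1 : ℕ∞) : WithBot ℕ∞) :=
      WithBot.coe_le_coe.2 hge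
    rw [h3] at h4
    exact absurd h4 (by decide)
  obtain ⟨b, hb, hb'⟩ := Set.not_subset.1 hnot
  have hreg' : IsSMulRegular (QuotSMulTop a B) b := by
    rw [isSMulRegular_iff_right_eq_zero_of_smul]
    intro z hz
    obtain ⟨z, rfl⟩ := Submodule.Quotient.mk_surjective _ z
    rw [← Submodule.Quotient.mk_smul, Submodule.Quotient.mk_eq_zero,
      Submodule.mem_smul_pointwise_iff_exists] at hz
    obtain ⟨w, -, hw⟩ := hz
    rw [Submodule.Quotient.mk_eq_zero, Submodule.mem_smul_pointwise_iff_exists]
    have hmem : algebraMap A B b * z ∈ J :=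
      Ideal.mem_span_singleton'.2 ⟨w, by rw [mul_comm, ← Algebra.smul_def, hw, Algebra.smul_def]⟩
    by_cases hzJ : z ∈ J
    · obtain ⟨c, hc⟩ := Ideal.mem_span_singleton'.1 hzJ
      exact ⟨c, trivial, by rw [Algebra.smul_def, mul_comm, hc]⟩
    exfalso
    have hzd : algebraMap A B b ∈ ⋃ P ∈ associatedPrimes B (B ⧸ J), (P : Set B) := by
      rw [biUnion_associatedPrimes_eq_zero_divisors]
      exact ⟨Ideal.Quotient.mk J z, mt Ideal.Quotient.eq_zero_iff_mem.1 hzJ, by
        rw [Algebra.smul_def, Ideal.Quotient.algebraMap_eq, ← map_mul]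
        exact Ideal.Quotient.eq_zero_iff_mem.2 hmem⟩
    obtain ⟨P, hP, hbP⟩ := Set.mem_iUnion₂.1 hzd
    exact hb' (Set.mem_iUnion₂.2 ⟨P, hass.mem_toFinset.2 hP, hbP⟩)
  haveI := pdLE_zero_iff.1 (pdLE_of_quotSMulTop hreg ha (n := 0)
    (pdLE_of_quotSMulTop hreg' hb (n := 1) (ComodRes41.pdLE_two hdim _)))
  infer_instance

/-- A normal domain finite over a regular domain of dimension at most two is flat over it. -/
theorem flat_of_normal {A B : Type u} [CommRing A] [IsDomain A] [IsRegularRing A] [CommRing B]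
    [IsDomain B] [IsIntegrallyClosed B] [Algebra A B] [Module.Finite A B]
    (hinj : Function.Injective (algebraMap A B)) (hdim : ringKrullDim A ≤ 2) : Module.Flat A B := by
  refine Module.flat_of_isLocalized_maximal (R := A) (S := A) (M := B)
    (fun P => Localization (Algebra.algebraMapSubmonoid B P.primeCompl))
    (fun P => (IsScalarTower.toAlgHom A B _).toLinearMap) fun m hm => ?_
  let Am := Localization.AtPrime m
  let S := Algebra.algebraMapSubmonoid B m.primeCompl
  let Bm := Localization S
  have hS : S ≤ nonZeroDivisors B := by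
    rintro _ ⟨s, hs, rfl⟩
    exact mem_nonZeroDivisors_of_ne_zero ((map_ne_zero_iff _ hinj).2 fun h => hs (h ▸ m.zero_mem))
  haveI : IsDomain Bm := IsLocalization.isDomain_localization hS
  haveI : IsIntegrallyClosed Bm := isIntegrallyClosed_of_isLocalization Bm S hS
  haveI : Module.Finite Am Bm := Module.Finite.of_isLocalizedModule m.primeCompl
    (f := (IsScalarTower.toAlgHom A B Bm).toLinearMap)
  haveI : IsDomain Am := IsLocalization.isDomain_of_atPrime Am m
  haveI : IsLocalization (Submonoid.map (algebraMap A B) m.primeCompl) Bm := inferInstanceAs (IsLocalization S Bm)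
  have hinj' : Function.Injective (algebraMap Am Bm) := by
    exact IsLocalization.map_injective_of_injective m.primeCompl Am Bm hinj
  have hd : ringKrullDim Am ≤ 2 := le_trans (by
    rw [IsLocalization.AtPrime.ringKrullDim_eq_height m]
    exact Ideal.height_le_ringKrullDim_of_ne_top (Ideal.IsPrime.ne_top inferInstance)) hdim
  haveI := flat_of_normal_local hinj' hd
  haveI : Module.Flat A Bm := Module.Flat.trans A Am Bm
  exact this

/-- A finite dominant morphism from a normal surface to a regular surface is flat. -/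
theorem flat_of_finite_normal {k : Type u} [Field k] {W P : Scheme.{u}} [IsIntegral W] [IsIntegral P]
    (g : P ⟶ Spec (CommRingCat.of k)) [Smooth g] [QuasiCompact g]
    (π : W ⟶ P) [IsFinite π] (hN : ∀ w : W, IsIntegrallyClosed (W.presheaf.stalk w))
    (hdim : topologicalKrullDim P ≤ 2) (hgen : π (genericPoint W) = genericPoint P) : Flat π := by
  have key : ∀ V : P.Opens, IsAffineOpen V → (π.app V).hom.Flat := fun V hV => by
    letI := (π.app V).hom.toAlgebra
    rw [RingHom.Flat]
    haveI hfin : Module.Finite Γ(P, V) Γ(W, π ⁻¹ᵁ V) := π.finite_app V hV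
    have hW : IsAffineOpen (π ⁻¹ᵁ V) := hV.preimage π
    rcases subsingleton_or_nontrivial Γ(W, π ⁻¹ᵁ V) with hs | hs
    · exact inferInstance
    haveI : Nonempty (π ⁻¹ᵁ V : W.Opens) := by
      by_contra hne
      rw [not_nonempty_iff] at hne
      exact not_subsingleton Γ(W, π ⁻¹ᵁ V) (by
        have : π ⁻¹ᵁ V = ⊥ :=
          TopologicalSpace.Opens.ext (Set.eq_empty_of_forall_notMem fun x hx => hne.false ⟨x, hx⟩)
        rw [this]
        infer_instance)
    haveI : Nonempty (V : P.Opens) := (‹Nonempty (π ⁻¹ᵁ V : W.Opens)›).map fun x => ⟨π x.1, x.2⟩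
    haveI := SerreVan45.isRegularRing_sections g hV
    haveI := (S9821.result W).1 (fun y => ⟨inferInstance, hN y⟩) (π ⁻¹ᵁ V) hW
    refine flat_of_normal ?_ ((SerreVan45.ringKrullDim_sections g hV).trans_le hdim)
    rw [injective_iff_map_eq_zero]
    intro a ha
    obtain ⟨⟨z, hz⟩⟩ := (inferInstance : Nonempty (π ⁻¹ᵁ V : W.Opens))
    have hW' : genericPoint W ∈ π ⁻¹ᵁ V := (genericPoint_specializes z).mem_open (π ⁻¹ᵁ V).2 hz
    have hV' : π (genericPoint W) ∈ V := hW'
    have h1 : π.stalkMap (genericPoint W) (P.presheaf.germ V (π (genericPoint W)) hV' a) = 0 := by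
      rw [Scheme.Hom.germ_stalkMap_apply]
      exact (congrArg (W.presheaf.germ (π ⁻¹ᵁ V) (genericPoint W) hW') ha).trans (map_zero _)
    have hFld : ∀ q, q = genericPoint P → IsField (P.presheaf.stalk q) := by
      rintro q rfl
      exact Field.toIsField P.functionField
    letI := (hFld _ hgen).toField
    have h2 := (π.stalkMap (genericPoint W)).hom.injective (h1.trans (map_zero _).symm)
    apply germ_injective_of_isIntegral P (π (genericPoint W)) hV'
    rw [h2, map_zero]
  refine ⟨fun {U} hU {V} hV e => ?_⟩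
  have h := Scheme.Hom.flat_appLE (𝟙 W) (hU.preimage π) hV (by simpa using e)
  rw [Scheme.Hom.appLE, Scheme.Hom.id_app, Category.id_comp] at h
  rw [Scheme.Hom.appLE, CommRingCat.hom_comp]
  exact RingHom.Flat.comp (key U hU) h

variable {k : Type u} [Field k]

set_option maxHeartbeats 1600000 in
/-- Duality for vanishing on a finite flat cover of projective space. -/
theorem exists_dual_vanishing_cover {X : Scheme.{u}} [X.Over (Spec (CommRingCat.of k))] (n : ℕ)
    (π : X ⟶ CohB1.ProjSpace n k) [IsFinite π] [Flat π]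
    (hπ : π ≫ CohB1.ProjSpace.toSpec n k = X ↘ Spec (CommRingCat.of k)) (F : X.Modules) (hF : FlatMod.IsFinLocFree F) :
    ∃ G : X.Modules, Coh.IsCoh G ∧ ∀ (I : X.Modules), PicF.IsInvertible I → ∀ M : X.Modules,
      ClSub.IsInverseOf M I → ∀ q : ℕ, q ≤ n →
        Subsingleton (Coh.HH X (CohB1.tensorMod G M) (n - q)) → Subsingleton (Coh.HH X (CohB1.tensorMod I F) q) := by
  haveI := CurveEmbed.smooth_toSpec n k
  haveI : IsLocallyNoetherian (CohB1.ProjSpace n k) :=
    LocallyOfFiniteType.isLocallyNoetherian (CohB1.ProjSpace.toSpec n k)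
  haveI : IsLocallyNoetherian X := LocallyOfFiniteType.isLocallyNoetherian π
  let ω := Twist.twistProjSpace n k (-((n : ℤ) + 1))
  have hω : FlatMod.IsFinLocFree ω := H23.PullPush.isFinLocFree_of_isInvertible
    (PnCoh.Finite.isInvertible_twist (fun j : ULift.{u} (Fin (n + 1)) => MvPolynomial.X j.down)
      (fun j => ProjPt.X_mem j.down) (top_le_iff.1 ((AmpleEmbed.iSup_basicOpen_X n k).ge.trans
        (iSup_le fun j => le_iSup_of_le (ULift.up j) le_rfl))) _)
  have hFq : Coh.IsQCoh F := QCoh.isQCoh_of_isFinLocFree hF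
  have key : ∀ I : X.Modules, PicF.IsInvertible I →
      FlatMod.IsFinLocFree ((Scheme.Modules.pushforward π).obj (CohB1.tensorMod I F)) ∧
      Coh.IsCoh ((SheafHomX.hom ((Scheme.Modules.pushforward π).obj (CohB1.tensorMod I F))).obj ω) := fun I hI => by
    have h := SerreVan45.isFinLocFree_push π
      (KFlatLib.isFinLocFree_tensor (H23.PullPush.isFinLocFree_of_isInvertible hI) hF)
    exact ⟨h, SheafHomX.isCoh_hom (SerreVan45.isCoh_of_finLocFree h) (SerreVan45.isCoh_of_finLocFree hω)⟩
  refine ⟨SerreVan45.shriekMod π hFq ω, ?_, fun I hI M hM q hq hvan => ?_⟩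
  · have hO : PicF.IsInvertible (Coh.structureModule X) := InvX.isInvertible_structureModule
    obtain ⟨e⟩ := SerreVan45.nonempty_push_shriek π hFq hO ⟨tUnit _⟩ ω (key _ hO).2.1
    refine SerreVan45.isCoh_of_push π ((SerreVan45.shriekQ π hFq).obj ω).property ?_
    exact SheafHomX.isCoh_of_iso (((Scheme.Modules.pushforward π).mapIso (tUnit _)).symm ≪≫ e).symm (key _ hO).2
  · obtain ⟨hE, hH⟩ := key I hI
    obtain ⟨e⟩ := SerreVan45.nonempty_push_shriek π hFq hI hM ω hH.1
    have hMi : PicF.IsInvertible M := isInvertible_of_inverseOf_right hI hM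
    have hGM : Coh.IsQCoh (CohB1.tensorMod (SerreVan45.shriekMod π hFq ω) M) :=
      KFlatLib.isQCoh_tensor ((SerreVan45.shriekQ π hFq).obj ω).property (ProjUPX.isQCoh_of_isInvertible hMi)
    have hIF : Coh.IsQCoh (CohB1.tensorMod I F) :=
      KFlatLib.isQCoh_tensor (ProjUPX.isQCoh_of_isInvertible hI) hFq
    have hπ' : π ≫ (CohB1.ProjSpace n k ↘ Spec (CommRingCat.of k)) = X ↘ Spec (CommRingCat.of k) := hπ
    obtain ⟨e₁, -⟩ := CanonDual.exists_natural_linearEquiv_push (A := k) π hπ' (n - q)
    obtain ⟨e₂, -⟩ := CanonDual.exists_natural_linearEquiv_push (A := k) π hπ' q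
    have h1 : Subsingleton (Coh.HH (CohB1.ProjSpace n k)
        ((Coh.push π).obj (CohB1.tensorMod (SerreVan45.shriekMod π hFq ω) M)) (n - q)) :=
      (e₁ _ hGM).symm.injective.subsingleton
    haveI := SerreVan45.subsingleton_HH_of_hom (SerreVan45.isCoh_of_finLocFree hE) hE q hq
      (QCoh.subsingleton_HH_of_iso e _ h1)
    exact (e₂ _ hIF).injective.subsingleton

instance (n : ℕ) : IsIntegral (CohB1.ProjSpace n k) := H23.PnChart.isIntegral_projSpace n k

theorem isEffCartier_pow' {X : Scheme.{u}} {I : X.IdealSheafData} (hI : BlowUp.IsEffCartierIdeal I) (n : ℕ) :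
    BlowUp.IsEffCartierIdeal (I ^ n) := ArSurfBase.isEffCartier_pow hI n

/-- A subscheme is connected if all global functions on it extend to a connected reduced proper scheme. -/
theorem isPreconnected_support {X : Scheme.{u}} [X.Over (Spec (CommRingCat.of k))]
    [IsProper (X ↘ Spec (CommRingCat.of k))] [IsReduced X] [ConnectedSpace X] (K : X.IdealSheafData)
    (hK : Subsingleton (Coh.HH X (ClSub.idealMod K) 1)) : _root_.IsPreconnected (K.support : Set X) := by
  have hs : Function.Surjective ((idealSeq K).g.app ⊤) :=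
    RegDescent.g_app_surjective_of_injective (k := k) (idealSeq_shortExact K) fun a b _ => hK.elim a b
  rw [← K.range_subschemeι]
  haveI : PreconnectedSpace K.subscheme := preconnectedSpace_iff_clopen.2 fun V hV => by
    obtain ⟨ε, hε, hεV⟩ := HensCouple7.exists_idempotent_of_isClopen hV
    obtain ⟨a, ha⟩ := hs ε
    have ha' : K.subschemeι.appTop.hom (show Γ(X, ⊤) from a) = ε := ha
    letI := (GeomField.isField_globalFunctions k X).toField
    by_cases h0 : (show Γ(X, ⊤) from a) = 0
    · refine Or.inl ?_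
      rw [← hεV, show ε = 0 by rw [← ha', h0]; exact map_zero _, Scheme.basicOpen_zero]
      rfl
    · refine Or.inr ?_
      have hu : IsUnit ε := by rw [← ha']; exact (IsUnit.mk0 _ h0).map K.subschemeι.appTop.hom
      rw [← hεV, Scheme.basicOpen_of_isUnit _ hu]
      rfl
  exact isPreconnected_range K.subschemeι.continuous

/-- The complement of the preimage of an affine open in a normal finite cover of the plane is connected. -/
theorem isConnected_compl_preimage {W : Scheme.{u}} [IsIntegral W]
    (hN : ∀ w : W, IsIntegrallyClosed (W.presheaf.stalk w))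
    (π : W ⟶ CohB1.ProjSpace 2 k) [IsFinite π] (hgen : π (genericPoint W) = genericPoint (CohB1.ProjSpace 2 k))
    {A : (CohB1.ProjSpace 2 k).Opens} (hA : IsAffineOpen A) (hne : (A : Set (CohB1.ProjSpace 2 k)).Nonempty) :
    _root_.IsConnected ((π ⁻¹ᵁ A : W.Opens) : Set W)ᶜ := by
  haveI := CurveEmbed.smooth_toSpec 2 k
  haveI := PnCoh.Chow.isProper_toSpec 2 k
  haveI := H23.PnChart.isIntegral_projSpace 2 k
  letI : (CohB1.ProjSpace 2 k).Over (Spec (CommRingCat.of k)) := ⟨CohB1.ProjSpace.toSpec 2 k⟩
  haveI : IsProper (CohB1.ProjSpace 2 k ↘ Spec (CommRingCat.of k)) := PnCoh.Chow.isProper_toSpec 2 k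
  letI : W.Over (Spec (CommRingCat.of k)) := ⟨π ≫ CohB1.ProjSpace.toSpec 2 k⟩
  haveI : IsProper (W ↘ Spec (CommRingCat.of k)) :=
    inferInstanceAs (IsProper (π ≫ CohB1.ProjSpace.toSpec 2 k))
  haveI := CurveCohLib.isNoetherian_of_proper (k := k) (X := W)
  have hdim : topologicalKrullDim (CohB1.ProjSpace 2 k) = 2 := by simpa using S10829.result k 2
  have hreg := fun x => GrpSchLib.isRegularLocalRing_stalk_of_smooth (CohB1.ProjSpace.toSpec 2 k) x
  haveI := flat_of_finite_normal (CohB1.ProjSpace.toSpec 2 k) π hN hdim.le hgen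
  obtain ⟨L, hL, s, hs⟩ := exists_ample_boundary k hdim hreg hA hne
  have hgenA : genericPoint (CohB1.ProjSpace 2 k) ∈ CohB1.genLocus L s := by
    rw [hs]
    obtain ⟨p, hp⟩ := hne
    exact (genericPoint_specializes p).mem_open A.2 hp
  obtain ⟨I, hI, hIsupp, ⟨eI⟩⟩ := exists_effCartier_of_section hL.1 s hgenA
  have hJ : BlowUp.IsEffCartierIdeal (I.comap π) :=
    ArSurfBase.isEffCartier_comap_of_not_mem π hI (by rw [← SetLike.mem_coe, hIsupp, hgen]; exact not_not.2 hgenA)
  obtain ⟨eJ⟩ := ArSurfBase.nonempty_pullback_idealMod π I hI hJ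
  let M := (Scheme.Modules.pullback π).obj L
  have hMa : CohB1.IsAmple M := ShStabX.isAmple_pullback_affine π hL
  have eM : CohB1.tensorMod M (ClSub.idealMod (I.comap π)) ≅ Coh.structureModule W :=
    tMapR M eJ.symm ≪≫ (H23.PicMul.pull π L (ClSub.idealMod I)).some.symm ≪≫
      (Scheme.Modules.pullback π).mapIso eI ≪≫ (PicClLib.nonempty_pullback_structureModule π).some
  obtain ⟨G, hG, hvan⟩ := exists_dual_vanishing_cover 2 π rfl (Coh.structureModule W)
    (H23.PullPush.isFinLocFree_of_isInvertible InvX.isInvertible_structureModule)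
  obtain ⟨d₀, hd₀⟩ := AmpleVan.exists_vanishing (A := k) hMa hG
  have hpow : ∀ n, Nonempty (CohB1.tensorMod (CohB1.tensorPow M (n + 1)) (ClSub.idealMod (I.comap π ^ (n + 1))) ≅
      Coh.structureModule W) := by
    intro n
    induction n with
    | zero =>
      rw [zero_add, pow_one]
      exact ⟨tMapL (tUnitL M) _ ≪≫ eM⟩
    | succ n ih =>
      obtain ⟨e⟩ := nonempty_idealMod_mul (isEffCartier_pow' hJ (n + 1)) hJ
      rw [← pow_succ] at e
      exact H23.PicMul.cl_eq_iff.1 (by
        have h1 := H23.PicMul.cl_eq_iff.2 ih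
        have h2 := H23.PicMul.cl_eq_iff.2 (⟨e⟩ : Nonempty _)
        have h3 := H23.PicMul.cl_eq_iff.2 (⟨eM⟩ : Nonempty _)
        simp only [CohB1.tensorPow, H23.PicMul.cl_tensor] at h1 h2 h3 ⊢
        rw [h2]
        have h4 := H23.PicMul.cl_eq_iff.2 (⟨tUnit (Coh.structureModule W)⟩ : Nonempty _)
        rw [H23.PicMul.cl_tensor] at h4
        calc _ = (PicF.cl (CohB1.tensorPow M n) * PicF.cl M * PicF.cl (ClSub.idealMod (I.comap π ^ (n + 1)))) *
            (PicF.cl M * PicF.cl (ClSub.idealMod (I.comap π))) := by ac_rfl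
          _ = _ := by rw [h1, h3]; exact h4)
  obtain ⟨eP⟩ := hpow d₀
  have hMp := InvX.isInvertible_tensorPow hMa.1 (d₀ + 1)
  have h1 : Subsingleton (Coh.HH W (ClSub.idealMod (I.comap π ^ (d₀ + 1))) 1) :=
    QCoh.subsingleton_HH_of_iso (tUnit _) 1
      (hvan _ (isInvertible_idealMod (isEffCartier_pow' hJ _)) _ ⟨eP⟩ 1 one_le_two (hd₀ (d₀ + 1) (Nat.le_succ _) 0))
  have hsupp : ((I.comap π ^ (d₀ + 1)).support : Set W) = ((π ⁻¹ᵁ A : W.Opens) : Set W)ᶜ := by
    rw [Scheme.IdealSheafData.support_pow_succ, Scheme.IdealSheafData.support_comap, TopologicalSpace.Closeds.coe_preimage,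
      hIsupp, hs]
    rfl
  refine ⟨?_, hsupp ▸ isPreconnected_support (k := k) _ h1⟩
  by_contra hemp
  rw [Set.not_nonempty_iff_eq_empty, Set.compl_empty_iff] at hemp
  have hsurj : Function.Surjective π := fun x => by
    have hr := π.isClosedMap.isClosed_range.closure_eq
    have : genericPoint (CohB1.ProjSpace 2 k) ∈ Set.range π := ⟨_, hgen⟩
    exact (closure_mono (Set.singleton_subset_iff.2 this) ((genericPoint_closure (CohB1.ProjSpace 2 k)).ge (Set.mem_univ x))
      |> hr.le : _)
  have hAtop : A = ⊤ := TopologicalSpace.Opens.ext (Set.eq_univ_of_forall fun x => by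
    obtain ⟨w, rfl⟩ := hsurj x
    exact hemp.ge (Set.mem_univ w))
  subst hAtop
  haveI : IsAffine (⊤ : (CohB1.ProjSpace 2 k).Opens).toScheme := hA
  haveI : IsAffine (CohB1.ProjSpace 2 k) := IsAffine.of_isIso (CohB1.ProjSpace 2 k).topIso.inv
  haveI : IsReduced (CohB1.ProjSpace 2 k) := inferInstance
  haveI : ConnectedSpace (CohB1.ProjSpace 2 k) := inferInstance
  letI := (GeomField.isField_globalFunctions k (CohB1.ProjSpace 2 k)).toField
  haveI : Subsingleton (Spec (Γ(CohB1.ProjSpace 2 k, ⊤)) : Scheme.{u}) :=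
    inferInstanceAs (Subsingleton (PrimeSpectrum Γ(CohB1.ProjSpace 2 k, ⊤)))
  haveI : Subsingleton (CohB1.ProjSpace 2 k) :=
    (Scheme.homeoOfIso (CohB1.ProjSpace 2 k).isoSpec).injective.subsingleton
  have h0 := dim_singleton_le_zero (genericPoint (CohB1.ProjSpace 2 k))
  rw [(Subsingleton.eq_univ_of_nonempty ⟨_, rfl⟩ : ({genericPoint (CohB1.ProjSpace 2 k)} : Set _) = Set.univ),
    (Homeomorph.Set.univ _).isHomeomorph.topologicalKrullDim_eq, hdim] at h0
  exact absurd h0 (by decide)

end Groth.Agent.SurfInt
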