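import Groth.Agent.Growth22.NumEmb
import Groth.Agent.HodgeLef45.Smooth
import Groth.Agent.SerreVan45.FlatProj
import Groth.Agent.SurfInt.Ideal

/-!
# Very ample twists; relative dimension of a smooth integral scheme
-/

set_option linter.style.haveILetI false
set_option linter.unusedSectionVars false
set_option backward.isDefEq.respectTransparency false
set_option backward.isDefEq.respectTransparency.types false
set_option maxHeartbeats 1000000

universe u

open CategoryTheory CategoryTheory.Limits AlgebraicGeometry TopologicalSpace Opposite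

noncomputable section

namespace Groth.Agent.SurfInt

open Groth.Agent
open Groth.Agent.H23.PicMul

variable (k : Type u) [Field k] {X : Scheme.{u}} [X.Over (Spec (CommRingCat.of k))]

/-- `L ⊗ H^n` is the hyperplane module of an embedding for large `n`. -/
theorem exists_embedding_twist [IsProper (X ↘ Spec (CommRingCat.of k))] {H L : X.Modules}
    (hH : CohB1.IsAmple H) (hL : PicF.IsInvertible L) :
    ∃ n₀ : ℕ, ∀ n : ℕ, n₀ ≤ n → ∃ (N : ℕ) (j : X ⟶ CohB1.ProjSpace N k), IsClosedImmersion j ∧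
      j ≫ CohB1.ProjSpace.toSpec N k = X ↘ Spec (CommRingCat.of k) ∧
      PicF.cl (Pic13Lib.hyp j 1) = PicF.cl H ^ n * PicF.cl L := by
  obtain ⟨n₀, hn₀⟩ := Ega2Va.eventually_veryAmple (X ↘ Spec (CommRingCat.of k)) hH hL
  refine ⟨n₀, fun m hm => ?_⟩
  obtain ⟨n, i, hi, hiq, ⟨e⟩⟩ := hn₀ m hm
  let p₁ := pullback.fst (CohB1.ProjSpace.toSpec n (ULift.{u} ℤ))
    (specULiftZIsTerminal.from (Spec (CommRingCat.of k)))
  let ψ : X ⟶ Proj (CohB1.polyGrading n (ULift.{u} ℤ)) := i ≫ p₁
  refine ⟨n, PnCoh.Chow.relMap ψ (X ↘ Spec (CommRingCat.of k)), ?_, PnCoh.Chow.relMap_toSpec ψ _, ?_⟩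
  · refine Pic13Lib.isClosedImmersion_relMap_of_joint ψ (X ↘ Spec (CommRingCat.of k)) ?_
      ((Int.castRingHom k).comp (ULift.ringEquiv : ULift.{u} ℤ ≃+* ℤ).toRingHom) (specULiftZIsTerminal.hom_ext _ _)
    intro T a b h1 h2
    haveI := hi
    refine (cancel_mono i).1 (pullback.hom_ext ?_ ?_)
    · simpa only [Category.assoc] using h1
    · rw [Category.assoc, Category.assoc, hiq]
      exact h2
  · rw [← cl_tensorPow, ← cl_tensor]
    exact cl_eq_iff.2 ⟨(PnCoh.Chow.relData ψ (X ↘ Spec (CommRingCat.of k))).iso ≪≫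
      ((Scheme.Modules.pullbackComp i p₁).app _).symm ≪≫ e.symm⟩

/-- A smooth integral scheme of dimension `n` is smooth of relative dimension `n`. -/
theorem smoothOfRelativeDimension_of_dim [IsIntegral X] [Smooth (X ↘ Spec (CommRingCat.of k))]
    [QuasiCompact (X ↘ Spec (CommRingCat.of k))] (n : ℕ) (hdim : topologicalKrullDim X = n) :
    SmoothOfRelativeDimension n (X ↘ Spec (CommRingCat.of k)) := by
  set f := X ↘ Spec (CommRingCat.of k)
  refine ⟨fun x => ?_⟩
  obtain ⟨U, hU, V, hV, hxV, e, hstd⟩ := Smooth.exists_isStandardSmooth f x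
  obtain rfl : U = ⊤ := top_le_iff.1 fun y _ => by
    rw [Subsingleton.elim y (f x)]
    exact e hxV
  let φ : k →+* Γ(X, V) := (f.appLE ⊤ V e).hom.comp (Scheme.ΓSpecIso (CommRingCat.of k)).inv.hom
  letI := φ.toAlgebra
  have h1 : RingHom.IsStandardSmooth φ :=
    RingHom.isStandardSmooth_respectsIso.2 _
      (Scheme.ΓSpecIso (CommRingCat.of k)).symm.commRingCatIsoToRingEquiv hstd
  haveI : Algebra.IsStandardSmooth k Γ(X, V) := h1
  obtain ⟨ι, σ, _, _, ⟨P⟩⟩ := ‹Algebra.IsStandardSmooth k Γ(X, V)›.out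
  haveI hP : Algebra.IsStandardSmoothOfRelativeDimension P.dimension k Γ(X, V) :=
    ⟨ι, σ, inferInstance, inferInstance, P, rfl⟩
  haveI : Nonempty V := ⟨⟨x, hxV⟩⟩
  have hd : (P.dimension : WithBot ℕ∞) = n := by
    rw [← SmoothDim.ringKrullDim_eq k Γ(X, V) P.dimension, SerreVan45.ringKrullDim_sections f hV, hdim]
  have hd' : P.dimension = n := by exact_mod_cast hd
  refine ⟨⊤, hU, V, hV, hxV, e, ?_⟩
  have h2 : RingHom.IsStandardSmoothOfRelativeDimension n φ := hd' ▸ hP
  have h3 := RingHom.isStandardSmoothOfRelativeDimension_respectsIso.right φ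
    (Scheme.ΓSpecIso (CommRingCat.of k)).commRingCatIsoToRingEquiv h2
  refine (iff_of_eq (congrArg (RingHom.IsStandardSmoothOfRelativeDimension n) (RingHom.ext fun a => ?_))).1 h3
  show f.appLE ⊤ V e ((Scheme.ΓSpecIso (CommRingCat.of k)).inv ((Scheme.ΓSpecIso (CommRingCat.of k)).hom a)) = _
  rw [Iso.hom_inv_id_apply]

end Groth.Agent.SurfInt
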