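import Groth.Agent.SurfInt.SecDivide
import Groth.Agent.SurfInt.ColonAlg
import Groth.Agent.QCoh.SubCompare
import Groth.Agent.Growth22.Ineq
import Groth.Agent.IntMult63.Stalk
import Groth.Agent.MeroX.EffCartier
import Groth.Agent.RegUFD.Basic

/-!
# Sections of an invertible module on an effective divisor: charts

For an effective divisor `I`, an invertible `L` and a section `s` of the cokernel of `L ⊗ I ⟶ L`, the
annihilator ideal sheaf of `s` is an effective divisor on a scheme with factorial local rings, and so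
is the residual divisor.
-/

set_option linter.style.haveILetI false
set_option linter.unusedSectionVars false
set_option backward.isDefEq.respectTransparency false
set_option backward.isDefEq.respectTransparency.types false
set_option maxHeartbeats 1000000

universe u

open CategoryTheory CategoryTheory.Limits AlgebraicGeometry TopologicalSpace Opposite

noncomputable section

namespace Groth.Agent.SurfInt

open Groth.Agent Groth.Agent.InvX

variable {X : Scheme.{u}}

/-- The annihilator ideal sheaf of the image of a morphism of coherent modules. -/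
def imgAnn [IsLocallyNoetherian X] {M N : X.Modules} (hM : Coh.IsCoh M) (hN : Coh.IsCoh N) (φ : M ⟶ N) :
    X.IdealSheafData :=
  QCoh.annIdeal (Growth22.isCoh_image hM hN φ).1 (Growth22.isCoh_image hM hN φ).2

theorem mem_imgAnn [IsLocallyNoetherian X] {M N : X.Modules} (hM : Coh.IsCoh M) (hN : Coh.IsCoh N) (φ : M ⟶ N)
    (W : X.affineOpens) (b : Γ(X, W.1)) :
    b ∈ (imgAnn hM hN φ).ideal W ↔ ∀ m : Γ(M, W.1), b • φ.app W.1 m = 0 := by
  show b ∈ Module.annihilator Γ(X, W.1) Γ(Abelian.image φ, W.1) ↔ _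
  rw [Module.mem_annihilator]
  have hc := Growth22.isCoh_image hM hN φ
  have hφ : ∀ m, φ.app W.1 m = (Abelian.image.ι φ).app W.1 ((Abelian.factorThruImage φ).app W.1 m) :=
    fun m => (congr(($(Abelian.image.fac φ)).app W.1 m) : _).symm
  constructor
  · intro h m
    rw [hφ, ← Scheme.Modules.Hom.app_smul, h, map_zero]
  · intro h y
    obtain ⟨m, rfl⟩ := QCoh.app_surjective_of_epi hM.1 hc.1 (Abelian.factorThruImage φ) W.2 y
    refine QCoh.app_injective (Abelian.image.ι φ) W.1 ?_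
    rw [Scheme.Modules.Hom.app_smul, ← hφ, h, map_zero]

/-- The module `L|_I`, as the cokernel of `L ⊗ I ⟶ L`. -/
abbrev divMod (L : X.Modules) (I : X.IdealSheafData) : X.Modules := cokernel (idealMul L I)

/-- The projection `L ⟶ L|_I`. -/
abbrev divπ (L : X.Modules) (I : X.IdealSheafData) : L ⟶ divMod L I := cokernel.π (idealMul L I)

theorem mem_span_of_le (I : X.IdealSheafData) {U W : X.affineOpens} (h : W.1 ≤ U.1) {a : Γ(X, U.1)}
    (ha : I.ideal U = Ideal.span {a}) : I.ideal W = Ideal.span {AModX.resR h a} := by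
  rw [← I.map_ideal (U := W) (V := U) h, ha, Ideal.map_span, Set.image_singleton]
  rfl

variable [IsIntegral X] [IsLocallyNoetherian X]

theorem mono_idealMul {L : X.Modules} (hL : PicF.IsInvertible L) {I : X.IdealSheafData}
    (hI : BlowUp.IsEffCartierIdeal I) : Mono (idealMul L I) := by
  refine InvEnd.mono_of_ne_zero (isInvertible_tensorMod hL (isInvertible_idealMod hI)) hL _ fun h0 => ?_
  obtain ⟨W, hxW, e, e', a, he, -, ha, -, hφ⟩ := exists_chart_idealMul hL hI (genericPoint X)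
  rw [h0] at hφ
  have h1 : a = 0 := he.coord_unique le_rfl (by
    rw [AModX.res_self, zero_smul, ← hφ]
    rfl)
  haveI : Nonempty W.1 := ⟨⟨_, hxW⟩⟩
  exact zero_notMem_nonZeroDivisors (h1 ▸ ha)

theorem isCoh_divMod {L : X.Modules} (hL : PicF.IsInvertible L) {I : X.IdealSheafData}
    (hI : BlowUp.IsEffCartierIdeal I) : Coh.IsCoh (divMod L I) :=
  QCoh.isCoh_cokernel (AmpleVan.isCoh_invertible (isInvertible_tensorMod hL (isInvertible_idealMod hI))).1
    (AmpleVan.isCoh_invertible hL) _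

/-- The kernel of `L ⟶ L|_I` in a chart. -/
theorem divπ_smul_eq_zero {L : X.Modules} (hL : PicF.IsInvertible L) {I : X.IdealSheafData}
    (hI : BlowUp.IsEffCartierIdeal I) (W : X.affineOpens) {e : Γ(L, W.1)} (he : IsFrame e) {a : Γ(X, W.1)}
    (hIa : I.ideal W = Ideal.span {a}) (h : Γ(X, W.1)) :
    h • (divπ L I).app W.1 e = 0 ↔ a ∣ h := by
  haveI := mono_idealMul hL hI
  obtain ⟨k₀, hk₀⟩ := OmegaLib.exists_of_mem I W a (hIa ▸ Ideal.mem_span_singleton_self a)
  have he' := isFrame_tmul he (isFrame_of_generator hI hIa hk₀)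
  rw [← Scheme.Modules.Hom.app_smul, QCoh.mem_range_iff_cokernel (idealMul L I) W.1]
  constructor
  · rintro ⟨y, hy⟩
    obtain ⟨c, hc⟩ := he'.exists_coord le_rfl y
    rw [AModX.res_self] at hc
    refine ⟨c, he.coord_unique le_rfl ?_⟩
    rw [AModX.res_self, ← hy, hc]
    show (idealMul L I).app W.1 (c • tmul e k₀) = _
    rw [Scheme.Modules.Hom.app_smul, idealMul_tmul, hk₀, smul_smul, mul_comm]
  · rintro ⟨c, rfl⟩
    refine ⟨c • tmul e k₀, ?_⟩
    show (idealMul L I).app W.1 (c • tmul e k₀) = _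
    rw [Scheme.Modules.Hom.app_smul, idealMul_tmul, hk₀, smul_smul, mul_comm]

/-- The sections of `L|_I` in a chart. -/
theorem exists_smul_divπ {L : X.Modules} (hL : PicF.IsInvertible L) {I : X.IdealSheafData}
    (hI : BlowUp.IsEffCartierIdeal I) (W : X.affineOpens) {e : Γ(L, W.1)} (he : IsFrame e)
    (q : Γ(divMod L I, W.1)) : ∃ g : Γ(X, W.1), q = g • (divπ L I).app W.1 e := by
  obtain ⟨l, rfl⟩ := QCoh.app_surjective_of_epi (AmpleVan.isCoh_invertible hL).1 (isCoh_divMod hL hI).1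
    (divπ L I) W.2 q
  obtain ⟨g, hg⟩ := he.exists_coord le_rfl l
  rw [AModX.res_self] at hg
  exact ⟨g, by rw [hg, Scheme.Modules.Hom.app_smul]⟩

section Sec

variable {L : X.Modules} (hL : PicF.IsInvertible L) {I : X.IdealSheafData} (hI : BlowUp.IsEffCartierIdeal I)
  (s : Coh.structureModule X ⟶ divMod L I)

/-- The annihilator of a section of `L|_I`. -/
def secAnn : X.IdealSheafData := imgAnn QCoh.isCoh_structureModule' (isCoh_divMod hL hI) s

theorem app_eq_smul_one {N : X.Modules} (φ : Coh.structureModule X ⟶ N) (U : X.Opens) (r : Γ(X, U)) :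
    φ.app U r = r • φ.app U (1 : Γ(X, U)) := by
  refine (congrArg _ (mul_one r).symm).trans ?_
  exact Scheme.Modules.Hom.app_smul (M := Coh.structureModule X) φ r (1 : Γ(X, U))

/-- The annihilator in a chart. -/
theorem secAnn_ideal (W : X.affineOpens) {e : Γ(L, W.1)} (he : IsFrame e) {a g : Γ(X, W.1)}
    (hIa : I.ideal W = Ideal.span {a}) (hg : s.app W.1 (1 : Γ(X, W.1)) = g • (divπ L I).app W.1 e) :
    (secAnn hL hI s).ideal W = colonPr a g := by
  ext b
  rw [secAnn, mem_imgAnn, mem_colonPr]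
  constructor
  · intro h
    have h1 := h (1 : Γ(X, W.1))
    rw [hg, smul_smul] at h1
    exact (divπ_smul_eq_zero hL hI W he hIa _).1 h1
  · intro h r
    rw [app_eq_smul_one s W.1 r, hg, smul_smul, smul_smul]
    refine (divπ_smul_eq_zero hL hI W he hIa _).2 ?_
    rw [mul_comm b r, mul_assoc]
    exact dvd_mul_of_dvd_right h r

include hL hI in
theorem exists_frame_chart (x : X) : ∃ (W : X.affineOpens) (_ : x ∈ W.1) (e : Γ(L, W.1)) (a : Γ(X, W.1)),
    IsFrame e ∧ I.ideal W = Ideal.span {a} ∧ a ≠ 0 := by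
  obtain ⟨W, hxW, e, e', a, he, -, ha, hIa, -⟩ := exists_chart_idealMul hL hI x
  haveI : Nonempty W.1 := ⟨⟨x, hxW⟩⟩
  exact ⟨W, hxW, e, a, he, hIa, fun h => zero_notMem_nonZeroDivisors (h ▸ ha)⟩

/-- The annihilator of a section is an effective divisor. -/
theorem isEffCartier_secAnn (hreg : ∀ x : X, IsRegularLocalRing (X.presheaf.stalk x)) :
    BlowUp.IsEffCartierIdeal (secAnn hL hI s) := by
  refine MeroX.isEffCartier_of_stalk _ fun x _ U hxU => ?_
  obtain ⟨W, hxW, e, a, he, hIa, ha⟩ := exists_frame_chart hL hI x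
  obtain ⟨g, hg⟩ := exists_smul_divπ hL hI W he (s.app W.1 (1 : Γ(X, W.1)))
  haveI := hreg x
  obtain ⟨_, hufd⟩ := RegUFD.ufd (X.presheaf.stalk x)
  haveI := hufd
  letI := X.presheaf.algebra_section_stalk ⟨x, hxW⟩
  haveI := W.2.isLocalization_stalk ⟨x, hxW⟩
  haveI : Nonempty W.1 := ⟨⟨x, hxW⟩⟩
  have ha' : algebraMap Γ(X, W.1) (X.presheaf.stalk x) a ≠ 0 := fun h => ha
    (germ_injective_of_isIntegral X x hxW (h.trans (map_zero _).symm))
  obtain ⟨f, hf, hspan⟩ := exists_colonPr_eq_span ha' (algebraMap Γ(X, W.1) (X.presheaf.stalk x) g)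
  refine ⟨f, mem_nonZeroDivisors_of_ne_zero hf, ?_⟩
  rw [← IntMult63.stalkIdeal_eq _ U hxU, IntMult63.stalkIdeal_eq _ W hxW, secAnn_ideal hL hI s W he hIa hg]
  exact (colonPr_map (W.2.primeIdealOf ⟨x, hxW⟩).asIdeal.primeCompl a g).trans hspan

/-- The residual ideal of the annihilator. -/
def secRes : X.IdealSheafData :=
  imgAnn (isCoh_idealMod (secAnn hL hI s)) (ParShLib.isCoh_quotMod I)
    (ClSub.idealModι (secAnn hL hI s) ≫ ClSub.toSubscheme I)

theorem mem_secRes (W : X.affineOpens) (b : Γ(X, W.1)) :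
    b ∈ (secRes hL hI s).ideal W ↔ ∀ x ∈ (secAnn hL hI s).ideal W, b * x ∈ I.ideal W := by
  rw [secRes, mem_imgAnn]
  have key : ∀ m, (b • (ClSub.idealModι (secAnn hL hI s) ≫ ClSub.toSubscheme I).app W.1 m = 0 ↔
      b * OmegaSh.idealSect (secAnn hL hI s) W.1 m ∈ I.ideal W) := fun m => by
    rw [← Scheme.Modules.Hom.app_smul]
    show (ClSub.toSubscheme I).app W.1 ((ClSub.idealModι (secAnn hL hI s)).app W.1 (b • m)) = 0 ↔ _
    rw [Scheme.Modules.Hom.app_smul]
    show I.subschemeι.app W.1 (b * OmegaSh.idealSect (secAnn hL hI s) W.1 m) = 0 ↔ _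
    rw [← RingHom.mem_ker, I.ker_subschemeι_app W]
  constructor
  · intro h x hx
    obtain ⟨m, rfl⟩ := OmegaLib.exists_of_mem _ W x hx
    exact (key m).1 (h m)
  · intro h m
    exact (key m).2 (h _ (OmegaLib.idealSect_mem _ W m))

/-- The charts of a section of `L|_I`: `I = (fc)`, the section is `cg'`, and `(f) : g' = (f)`. -/
theorem exists_sec_chart (hreg : ∀ x : X, IsRegularLocalRing (X.presheaf.stalk x)) (x : X) :
    ∃ (W : X.affineOpens) (_ : x ∈ W.1) (e : Γ(L, W.1)) (f c g' : Γ(X, W.1)),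
      IsFrame e ∧ f ≠ 0 ∧ c ≠ 0 ∧ I.ideal W = Ideal.span {f * c} ∧
      (secAnn hL hI s).ideal W = Ideal.span {f} ∧ (secRes hL hI s).ideal W = Ideal.span {c} ∧
      s.app W.1 (1 : Γ(X, W.1)) = (c * g') • (divπ L I).app W.1 e ∧ colonPr f g' ≤ Ideal.span {f} := by
  obtain ⟨U, hxU, e₀, a₀, he₀, hIa₀, -⟩ := exists_frame_chart hL hI x
  obtain ⟨V, hxV, f₀, hf₀, hDf₀⟩ := isEffCartier_secAnn hL hI s hreg x
  obtain ⟨W₀, hW₀, hxW, hle⟩ := exists_isAffineOpen_mem_and_subset (x := x) (U := U.1 ⊓ V.1) ⟨hxU, hxV⟩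
  let W : X.affineOpens := ⟨W₀, hW₀⟩
  have hWU : W.1 ≤ U.1 := fun y hy => (hle hy).1
  have hWV : W.1 ≤ V.1 := fun y hy => (hle hy).2
  haveI : Nonempty W.1 := ⟨⟨x, hxW⟩⟩
  have hIa := mem_span_of_le I hWU hIa₀
  have hDf := mem_span_of_le (secAnn hL hI s) hWV hDf₀
  set a := AModX.resR hWU a₀
  set f := AModX.resR hWV f₀
  have he := he₀.res hWU
  set e := AModX.res L hWU e₀
  obtain ⟨g, hg⟩ := exists_smul_divπ hL hI W he (s.app W.1 (1 : Γ(X, W.1)))
  have hcol := secAnn_ideal hL hI s W he hIa hg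
  rw [hDf] at hcol
  have hanz : a ≠ 0 := fun h => zero_notMem_nonZeroDivisors
    (h ▸ ModPairLib.generator_mem_nonZeroDivisors hI hIa)
  have haf : f ∣ a := by
    rw [← Ideal.mem_span_singleton, hcol, mem_colonPr]
    exact dvd_mul_right a g
  obtain ⟨c, hc⟩ := haf
  have hf : f ≠ 0 := fun h => hanz (by rw [hc, h, zero_mul])
  have hc0 : c ≠ 0 := fun h => hanz (by rw [hc, h, mul_zero])
  have hcg : c ∣ g := by
    have : f ∈ colonPr a g := hcol ▸ Ideal.mem_span_singleton_self f
    rw [mem_colonPr, hc, mul_dvd_mul_iff_left hf] at this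
    exact this
  obtain ⟨g', rfl⟩ := hcg
  refine ⟨W, hxW, e, f, c, g', he, hf, hc0, hIa.trans (by rw [hc]), hDf, ?_, hg, fun b hb => ?_⟩
  · ext b
    rw [mem_secRes, hDf, hIa, Ideal.mem_span_singleton, hc]
    constructor
    · intro h
      have := h f (Ideal.mem_span_singleton_self f)
      rw [Ideal.mem_span_singleton, mul_comm b f, mul_dvd_mul_iff_left hf] at this
      exact this
    · intro h x hx
      rw [Ideal.mem_span_singleton] at hx ⊢
      rw [mul_comm f c]
      exact mul_dvd_mul h hx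
  · rw [hcol, mem_colonPr, hc, mul_comm f c, mul_left_comm]
    exact mul_dvd_mul_left c hb

theorem isEffCartier_secRes (hreg : ∀ x : X, IsRegularLocalRing (X.presheaf.stalk x)) :
    BlowUp.IsEffCartierIdeal (secRes hL hI s) := by
  intro x
  obtain ⟨W, hxW, e, f, c, g', -, -, hc, -, -, hR, -, -⟩ := exists_sec_chart hL hI s hreg x
  haveI : Nonempty W.1 := ⟨⟨x, hxW⟩⟩
  exact ⟨W, hxW, c, mem_nonZeroDivisors_of_ne_zero hc, hR⟩

theorem secRes_mul_secAnn (hreg : ∀ x : X, IsRegularLocalRing (X.presheaf.stalk x)) :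
    I = secRes hL hI s * secAnn hL hI s := by
  choose W hxW e f c g' he hf hc hIW hA hR hs hcol using exists_sec_chart hL hI s hreg
  refine Scheme.IdealSheafData.ext_of_iSup_eq_top W ?_ fun x => ?_
  · exact top_le_iff.1 fun x _ => Opens.mem_iSup.2 ⟨x, hxW x⟩
  · rw [Scheme.IdealSheafData.ideal_mul, Pi.mul_apply, hR, hA, Ideal.span_singleton_mul_span_singleton, mul_comm,
      hIW]

end Sec

end Groth.Agent.SurfInt
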