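import Groth.Agent.SurfInt.SectionDeg
import Groth.Agent.SurfInt.DivSection
import Mathlib.RingTheory.OrderOfVanishing.Basic

/-!
# Dividing sections by a common divisor

Sections of an invertible module vanishing along an effective Cartier divisor come from sections of the
module twisted by its ideal; the order of vanishing at the points of codimension one drops.
-/

set_option linter.style.haveILetI false
set_option linter.unusedSectionVars false
set_option backward.isDefEq.respectTransparency false
set_option backward.isDefEq.respectTransparency.types false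

universe u

open CategoryTheory CategoryTheory.Limits AlgebraicGeometry TopologicalSpace Opposite

noncomputable section

namespace Groth.Agent.SurfInt

open Groth.Agent Groth.Agent.InvX

variable {X : Scheme.{u}}

/-- The order of vanishing of a section at a point. -/
def secOrd {L : X.Modules} (s : Coh.structureModule X ⟶ L) (η : X) : ℕ∞ :=
  Module.length (X.presheaf.stalk η)
    (L.presheaf.stalk η ⧸ Submodule.span (X.presheaf.stalk η)
      {(show L.presheaf.stalk η from L.presheaf.germ ⊤ η trivial (one s))})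

/-- The order of vanishing in a frame. -/
theorem secOrd_eq {L : X.Modules} (s : Coh.structureModule X ⟶ L) {W : X.Opens} {e : Γ(L, W)}
    (he : IsFrame e) {η : X} (hη : η ∈ W) {g : Γ(X, W)}
    (hg : AModX.res L (le_top : W ≤ ⊤) (one s) = g • e) :
    secOrd s η = Ring.ord (X.presheaf.stalk η) (X.presheaf.germ W η hη g) := by
  let R := X.presheaf.stalk η
  let ε : R ≃ₗ[R] (L.presheaf.stalk η) := LinearEquiv.ofBijective
    (LinearMap.toSpanSingleton R _ (show L.presheaf.stalk η from L.presheaf.germ W η hη e))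
    (he.germ_bijective hη)
  have hgen : ε (X.presheaf.germ W η hη g) =
      (show L.presheaf.stalk η from L.presheaf.germ ⊤ η trivial (one s)) := by
    show X.presheaf.germ W η hη g • L.presheaf.germ W η hη e = _
    rw [← QCoh.germ_smul', ← hg]
    exact germ_res' le_top hη _
  refine (LinearEquiv.length_eq (Submodule.Quotient.equiv _ _ ε ?_)).symm
  rw [Ideal.span, Submodule.map_span, Set.image_singleton]
  exact congrArg (fun z => Submodule.span R {z}) hgen

/-- An element of the stalk has order zero exactly when it is a unit. -/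
theorem isUnit_of_ord_eq_zero {R : Type u} [CommRing R] {x : R} (h : Ring.ord R x = 0) : IsUnit x := by
  rw [Ring.ord, Module.length_eq_zero_iff, Submodule.Quotient.subsingleton_iff] at h
  exact Ideal.span_singleton_eq_top.1 h

/-- The order of vanishing is positive off the generating locus. -/
theorem secOrd_ne_zero {L : X.Modules} (hL : PicF.IsInvertible L) {s : Coh.structureModule X ⟶ L} {η : X}
    (h : η ∉ CohB1.genLocus L s) : secOrd s η ≠ 0 := fun h0 => by
  obtain ⟨W, hηW, e, he⟩ := InvX.exists_frame hL η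
  obtain ⟨g, hg⟩ := he.exists_coord le_rfl (AModX.res L (le_top : W ≤ ⊤) (one s))
  rw [AModX.res_self] at hg
  rw [secOrd_eq s he hηW hg] at h0
  exact h ((genLocus_inf s he hg).ge ((X.mem_basicOpen g η hηW).2 (isUnit_of_ord_eq_zero h0))).1

/-- A nonzero section has finite order at points of codimension one. -/
theorem secOrd_ne_top [IsIntegral X] [IsLocallyNoetherian X] {L : X.Modules} (hL : PicF.IsInvertible L)
    {s : Coh.structureModule X ⟶ L} (hgen : genericPoint X ∈ CohB1.genLocus L s) {η : X}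
    [Ring.KrullDimLE 1 (X.presheaf.stalk η)] : secOrd s η ≠ ⊤ := by
  obtain ⟨W, hηW, e, he⟩ := InvX.exists_frame hL η
  obtain ⟨g, hg⟩ := he.exists_coord le_rfl (AModX.res L (le_top : W ≤ ⊤) (one s))
  rw [AModX.res_self] at hg
  rw [secOrd_eq s he hηW hg]
  refine Ring.ord_ne_top (mem_nonZeroDivisors_of_ne_zero fun h0 => ?_)
  have hgW : genericPoint X ∈ W :=
    ((genericPoint_spec (X : Type u)).specializes (Set.mem_univ η)).mem_open W.isOpen hηW
  have h1 : genericPoint X ∈ X.basicOpen g := (genLocus_inf s he hg).le ⟨hgen, hgW⟩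
  rw [X.mem_basicOpen g _ hgW] at h1
  have h2 := congrArg (X.presheaf.stalkSpecializes ((genericPoint_spec (X : Type u)).specializes (Set.mem_univ η))) h0
  rw [map_zero] at h2
  erw [TopCat.Presheaf.germ_stalkSpecializes_apply] at h2
  rw [h2] at h1
  exact not_isUnit_zero h1

/-- A coordinate of a section vanishing at a point lies in the ideal of its closure. -/
theorem coord_mem_clIdeal {L : X.Modules} {u : Coh.structureModule X ⟶ L} {ξ : X}
    (hu : ξ ∉ CohB1.genLocus L u) (W : X.affineOpens) {e : Γ(L, W.1)} (he : IsFrame e) {g : Γ(X, W.1)}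
    (hg : AModX.res L (le_top : W.1 ≤ ⊤) (one u) = g • e) : g ∈ (VarBase.clIdeal ξ).ideal W := by
  show g ∈ PrimeSpectrum.vanishingIdeal (W.2.fromSpec ⁻¹' (closure ({ξ} : Set X)))
  rw [PrimeSpectrum.mem_vanishingIdeal]
  intro q hq
  by_contra hgq
  have h1 : W.2.fromSpec q ∈ X.basicOpen g := by
    show q ∈ W.2.fromSpec ⁻¹ᵁ X.basicOpen g
    rw [W.2.fromSpec_preimage_basicOpen g]
    exact hgq
  exact hu ((genLocus_inf u he hg).ge ((specializes_iff_mem_closure.2 hq).mem_open (X.basicOpen g).isOpen h1)).1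

/-- The multiplication of sections of an ideal and of a module. -/
def idealBilin (L : X.Modules) (I : X.IdealSheafData) :
    H23.TensorDesc.Bilin L (ClSub.idealMod I) L where
  b U e k := OmegaSh.idealSect I U k • (show Γ(L, U) from e)
  add_left U m m' n := smul_add _ _ _
  smul_left U r m n := smul_comm _ _ _
  add_right U m n n' := by rw [map_add, add_smul]
  smul_right U r m n := by rw [OmegaLib.idealSect_smul, mul_smul]
  res {U V} h m n := by
    rw [OmegaLib.idealSect_map]
    exact AModX.res_smul h _ m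

/-- `L ⊗ I ⟶ L`. -/
def idealMul (L : X.Modules) (I : X.IdealSheafData) : CohB1.tensorMod L (ClSub.idealMod I) ⟶ L :=
  H23.TensorDesc.desc (idealBilin L I)

theorem idealMul_tmul (L : X.Modules) (I : X.IdealSheafData) (U : X.Opens) (e : Γ(L, U))
    (k : Γ(ClSub.idealMod I, U)) :
    (idealMul L I).app U (InvX.tmul e k) = OmegaSh.idealSect I U k • e :=
  H23.TensorDesc.desc_tmul (idealBilin L I) U e k

/-- Compatible charts for `L ⊗ I ⟶ L`. -/
theorem exists_chart_idealMul {L : X.Modules} (hL : PicF.IsInvertible L) {I : X.IdealSheafData}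
    (hI : BlowUp.IsEffCartierIdeal I) (x : X) :
    ∃ (W : X.affineOpens) (_ : x ∈ W.1) (e : Γ(L, W.1)) (e' : Γ(CohB1.tensorMod L (ClSub.idealMod I), W.1))
      (a : Γ(X, W.1)), IsFrame e ∧ IsFrame e' ∧ a ∈ nonZeroDivisors Γ(X, W.1) ∧ I.ideal W = Ideal.span {a} ∧
        (idealMul L I).app W.1 e' = a • e := by
  obtain ⟨U, hxU, a, ha, hIa⟩ := hI x
  obtain ⟨V, hxV, e₀, he₀⟩ := InvX.exists_frame hL x
  obtain ⟨f, g, hle, hxf⟩ : ∃ (f : Γ(X, U.1)) (g : Unit), X.basicOpen f ≤ V ∧ x ∈ X.basicOpen f := by
    obtain ⟨f, hfV, hxf⟩ := U.2.exists_basicOpen_le ⟨x, hxV⟩ hxU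
    exact ⟨f, (), hfV, hxf⟩
  let W := X.affineBasicOpen (U := U) f
  have hWU : W.1 ≤ U.1 := X.basicOpen_le f
  let b : Γ(X, W.1) := AModX.resR hWU a
  have hIb : I.ideal W = Ideal.span {b} := by
    rw [← I.map_ideal (U := W) (V := U) hWU, hIa, Ideal.map_span, Set.image_singleton]
    rfl
  have hb : b ∈ nonZeroDivisors Γ(X, W.1) := ModPairLib.generator_mem_nonZeroDivisors hI hIb
  obtain ⟨h, hh⟩ := OmegaLib.exists_of_mem I W b (hIb ▸ Ideal.mem_span_singleton_self b)
  exact ⟨W, hxf, AModX.res L hle e₀, InvX.tmul (AModX.res L hle e₀) h, b, he₀.res hle,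
    InvX.isFrame_tmul (he₀.res hle) (isFrame_of_generator hI hIb hh), hb, hIb,
    by rw [idealMul_tmul, hh]⟩

variable [IsIntegral X]

/-- `L ⊗ I ⟶ L` is injective on sections. -/
theorem idealMul_injective {L : X.Modules} (hL : PicF.IsInvertible L) {I : X.IdealSheafData}
    (hI : BlowUp.IsEffCartierIdeal I) (U : X.Opens) : Function.Injective ((idealMul L I).app U) := by
  refine InvEnd.app_injective_of_ne_zero (isInvertible_tensorMod hL (isInvertible_idealMod hI)) hL _
    (fun h0 => ?_) U
  obtain ⟨W, hxW, e, e', a, he, -, ha, -, hφ⟩ := exists_chart_idealMul hL hI (genericPoint X)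
  rw [h0] at hφ
  have h1 : a = 0 := he.coord_unique le_rfl (by
    rw [AModX.res_self, zero_smul, ← hφ]
    rfl)
  haveI : Nonempty W.1 := ⟨⟨_, hxW⟩⟩
  exact zero_notMem_nonZeroDivisors (h1 ▸ ha)

/-- A section vanishing along an effective Cartier divisor is divisible by it. -/
theorem exists_divide {L : X.Modules} (hL : PicF.IsInvertible L) {I : X.IdealSheafData}
    (hI : BlowUp.IsEffCartierIdeal I) (u : Coh.structureModule X ⟶ L)
    (hu : ∀ (W : X.affineOpens) (e : Γ(L, W.1)), IsFrame e → ∀ g : Γ(X, W.1),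
      AModX.res L (le_top : W.1 ≤ ⊤) (one u) = g • e → g ∈ I.ideal W) :
    ∃ u' : Coh.structureModule X ⟶ CohB1.tensorMod L (ClSub.idealMod I),
      (idealMul L I).app ⊤ (one u') = one u := by
  choose W hxW e e' a he he' ha hIa hφ using exists_chart_idealMul hL hI
  choose g hg using fun x => (he x).exists_coord le_rfl (AModX.res L (le_top : (W x).1 ≤ ⊤) (one u))
  simp only [AModX.res_self] at hg
  choose c hc using fun x => Ideal.mem_span_singleton'.1 (hIa x ▸ hu (W x) (e x) (he x) (g x) (hg x))
  let φ := idealMul L I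
  have hloc : ∀ x, φ.app (W x).1 (c x • e' x) = AModX.res L (le_top : (W x).1 ≤ ⊤) (one u) := fun x => by
    rw [Scheme.Modules.Hom.app_smul, hφ, ← mul_smul, hc, hg]
  obtain ⟨T, hT, -⟩ := AModX.existsUnique_glue (M := CohB1.tensorMod L (ClSub.idealMod I)) (V := ⊤)
    (fun x => (W x).1) (fun _ => le_top) (fun x _ => ⟨x, hxW x⟩) (fun x => c x • e' x) fun x y => by
      apply idealMul_injective hL hI
      rw [AModX.app_res, AModX.app_res, hloc, hloc, AModX.res_res, AModX.res_res]
  refine ⟨ofSect T, AModX.eq_of_locally _ _ fun p _ => ⟨(W p).1, le_top, hxW p, ?_⟩⟩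
  rw [one_ofSect, ← AModX.app_res, hT, hloc]

/-- The generating locus grows under division. -/
theorem genLocus_le_of_divide {L : X.Modules} (hL : PicF.IsInvertible L) {I : X.IdealSheafData}
    (hI : BlowUp.IsEffCartierIdeal I) {u : Coh.structureModule X ⟶ L}
    {u' : Coh.structureModule X ⟶ CohB1.tensorMod L (ClSub.idealMod I)}
    (h : (idealMul L I).app ⊤ (one u') = one u) :
    CohB1.genLocus L u ≤ CohB1.genLocus (CohB1.tensorMod L (ClSub.idealMod I)) u' := by
  intro x hx
  obtain ⟨W, hxW, e, e', a, he, he', -, -, hφ⟩ := exists_chart_idealMul hL hI x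
  obtain ⟨g', hg'⟩ := he'.exists_coord le_rfl (AModX.res _ (le_top : W.1 ≤ ⊤) (one u'))
  rw [AModX.res_self] at hg'
  have hg : AModX.res L (le_top : W.1 ≤ ⊤) (one u) = (g' * a) • e := by
    rw [← h, ← AModX.app_res, hg', Scheme.Modules.Hom.app_smul, hφ, mul_smul]
  have h1 : x ∈ X.basicOpen (g' * a) := (genLocus_inf u he hg).le ⟨hx, hxW⟩
  rw [Scheme.basicOpen_mul] at h1
  exact ((genLocus_inf u' he' hg').ge h1.1).1

/-- The order of vanishing drops by the multiplicity of the divisor. -/
theorem secOrd_divide {L : X.Modules} (hL : PicF.IsInvertible L) {I : X.IdealSheafData}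
    (hI : BlowUp.IsEffCartierIdeal I) {u : Coh.structureModule X ⟶ L}
    {u' : Coh.structureModule X ⟶ CohB1.tensorMod L (ClSub.idealMod I)}
    (h : (idealMul L I).app ⊤ (one u') = one u) (η : X) :
    ∃ d : ℕ∞, secOrd u η = secOrd u' η + d ∧ (η ∈ (I.support : Set X) → d ≠ 0) := by
  obtain ⟨W, hηW, e, e', a, he, he', ha, hIa, hφ⟩ := exists_chart_idealMul hL hI η
  obtain ⟨g', hg'⟩ := he'.exists_coord le_rfl (AModX.res _ (le_top : W.1 ≤ ⊤) (one u'))
  rw [AModX.res_self] at hg'
  have hg : AModX.res L (le_top : W.1 ≤ ⊤) (one u) = (g' * a) • e := by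
    rw [← h, ← AModX.app_res, hg', Scheme.Modules.Hom.app_smul, hφ, mul_smul]
  refine ⟨Ring.ord (X.presheaf.stalk η) (X.presheaf.germ W.1 η hηW a), ?_, fun hη h0 => ?_⟩
  · rw [secOrd_eq u he hηW hg, secOrd_eq u' he' hηW hg', map_mul,
      Ring.ord_mul _ (MeroX.germ_mem_nonZeroDivisors W.2 ha η hηW)]
  · rw [SetLike.mem_coe, Scheme.IdealSheafData.mem_support_iff_of_mem hηW, Scheme.mem_zeroLocus_iff] at hη
    exact hη a (hIa ▸ Ideal.mem_span_singleton_self a) ((X.mem_basicOpen a η hηW).2 (isUnit_of_ord_eq_zero h0))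

end Groth.Agent.SurfInt
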